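import Cfsg.Agent.Lib.Char.Orthogonality

/-!
# Consequences of orthogonality: irreducibility criterion, generalized characters,
characters determine representations
-/

namespace CfsgLib.Char

open Module
open scoped ComplexConjugate

universe u v w

variable {G : Type u} [Group G]

theorem classInner_self_pos_nat [Fintype G] {V : Type*} [AddCommGroup V] [Module ℂ V]
    [FiniteDimensional ℂ V] (ρ : Representation ℂ G V) (hV : 0 < finrank ℂ V) :
    ∃ k : ℕ, 0 < k ∧ Cfsg.classInner ρ.character ρ.character = k := by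
  obtain ⟨k, hk⟩ := classInner_isCharacter_nat (isCharacter_of_rep ρ) (isCharacter_of_rep ρ)
  refine ⟨k, Nat.pos_of_ne_zero fun h0 => ?_, hk⟩
  subst h0
  have h1 := congr_fun
    (classInner_self_eq_zero (φ := ρ.character) (by simpa using hk)) 1
  simp at h1
  omega

theorem isIrreducible_of_classInner_self [Fintype G] {V : Type v} [AddCommGroup V] [Module ℂ V]
    [FiniteDimensional ℂ V] (ρ : Representation ℂ G V)
    (h : Cfsg.classInner ρ.character ρ.character = 1) : ρ.IsIrreducible := by
  have hV : 0 < finrank ℂ V := by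
    rw [Nat.pos_iff_ne_zero]
    intro h0
    have : Subsingleton V := Module.finrank_zero_iff.mp h0
    have hz : ρ.character = 0 := by
      ext g; simp [Representation.character, Subsingleton.elim (ρ g) 0]
    rw [hz, classInner_zero_left] at h
    exact zero_ne_one h
  have : Nontrivial (Subrepresentation ρ) := by
    refine ⟨⊥, ⊤, fun hbt => ?_⟩
    have h2 := finrank_top ℂ V
    rw [← show (⊥ : Submodule ℂ V) = ⊤ from congr_arg Subrepresentation.toSubmodule hbt,
      finrank_bot] at h2
    omega
  refine ⟨fun p => ?_⟩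
  by_contra hp
  push Not at hp
  obtain ⟨q, hq⟩ := exists_isCompl p
  have hqb : q ≠ ⊥ := fun h' => hp.2 (by simpa [h'] using hq.sup_eq_top)
  obtain ⟨a, ha, ea⟩ := classInner_self_pos_nat p.toRepresentation (finrank_pos_of_ne_bot p hp.1)
  obtain ⟨b, hb, eb⟩ := classInner_self_pos_nat q.toRepresentation (finrank_pos_of_ne_bot q hqb)
  obtain ⟨c, ec⟩ := classInner_isCharacter_nat (isCharacter_of_rep p.toRepresentation)
    (isCharacter_of_rep q.toRepresentation)
  obtain ⟨d, ed⟩ := classInner_isCharacter_nat (isCharacter_of_rep q.toRepresentation)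
    (isCharacter_of_rep p.toRepresentation)
  rw [char_compl p q hq] at h
  simp only [classInner_add_left, classInner_add_right, ea, eb, ec, ed] at h
  have h' : ((a + b + c + d : ℕ) : ℂ) = ((1 : ℕ) : ℂ) := by push_cast; linear_combination h
  have := Nat.cast_inj.mp h'
  omega

theorem isIrrCharacter_iff [Fintype G] {χ : G → ℂ} :
    Cfsg.IsIrrCharacter G χ ↔ Cfsg.IsCharacter G χ ∧ Cfsg.classInner χ χ = 1 := by
  refine ⟨fun h => ⟨irr_isCharacter h, irr_classInner_self h⟩, fun ⟨⟨n, ρ, hρ⟩, h⟩ => ?_⟩
  subst hρ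
  exact ⟨n, ρ, isIrreducible_of_classInner_self ρ h, rfl⟩

theorem isIrrCharacter_conj [Finite G] {χ : G → ℂ} (hχ : Cfsg.IsIrrCharacter G χ) :
    Cfsg.IsIrrCharacter G (fun g => conj (χ g)) := by
  have := Fintype.ofFinite G
  refine isIrrCharacter_iff.mpr ⟨isCharacter_conj (irr_isCharacter hχ), ?_⟩
  have h := irr_classInner_self hχ
  rw [classInner_def] at h ⊢
  rw [← h]
  congr 1
  exact Finset.sum_congr rfl fun g _ => by rw [Complex.conj_conj, mul_comm]

theorem isIrrCharacter_mul_linear [Finite G] {χ : G → ℂ} (hχ : Cfsg.IsIrrCharacter G χ)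
    (lam : G →* ℂˣ) : Cfsg.IsIrrCharacter G (fun g => (lam g : ℂ) * χ g) := by
  have := Fintype.ofFinite G
  refine isIrrCharacter_iff.mpr
    ⟨isCharacter_mul (irr_isCharacter (isIrrCharacter_linear lam)) (irr_isCharacter hχ), ?_⟩
  have h := irr_classInner_self hχ
  rw [classInner_def] at h ⊢
  rw [← h]
  congr 1
  refine Finset.sum_congr rfl fun g _ => ?_
  have hn : ‖(lam g : ℂ)‖ = 1 := norm_eigen_eq_one (orderOf_pos g) (by
    rw [← Units.val_pow_eq_pow_val, ← map_pow, pow_orderOf_eq_one, map_one, Units.val_one])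
  rw [map_mul, mul_mul_mul_comm, Complex.mul_conj' (lam g : ℂ), hn]
  simp

theorem isGeneralized_of_isCharacter {χ : G → ℂ} (h : Cfsg.IsCharacter G χ) :
    Cfsg.IsGeneralizedCharacter G χ :=
  ⟨χ, 0, h, isCharacter_zero, (sub_zero χ).symm⟩

theorem isGeneralized_sub {θ η : G → ℂ} (h : Cfsg.IsGeneralizedCharacter G θ)
    (h' : Cfsg.IsGeneralizedCharacter G η) : Cfsg.IsGeneralizedCharacter G (θ - η) := by
  obtain ⟨a, b, ha, hb, rfl⟩ := h
  obtain ⟨c, d, hc, hd, rfl⟩ := h'
  exact ⟨a + d, b + c, isCharacter_add ha hd, isCharacter_add hb hc, by abel⟩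

theorem isGeneralized_zero : Cfsg.IsGeneralizedCharacter G (0 : G → ℂ) :=
  isGeneralized_of_isCharacter isCharacter_zero

theorem isGeneralized_neg {θ : G → ℂ} (h : Cfsg.IsGeneralizedCharacter G θ) :
    Cfsg.IsGeneralizedCharacter G (-θ) := by
  simpa using isGeneralized_sub isGeneralized_zero h

theorem isGeneralized_add {θ η : G → ℂ} (h : Cfsg.IsGeneralizedCharacter G θ)
    (h' : Cfsg.IsGeneralizedCharacter G η) : Cfsg.IsGeneralizedCharacter G (θ + η) := by
  simpa using isGeneralized_sub h (isGeneralized_neg h')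

theorem isGeneralized_zsmul {θ : G → ℂ} (h : Cfsg.IsGeneralizedCharacter G θ) (k : ℤ) :
    Cfsg.IsGeneralizedCharacter G ((k : ℂ) • θ) := by
  induction k using Int.induction_on with
  | zero => simpa using isGeneralized_zero (G := G)
  | succ n ih => push_cast at ih ⊢; rw [add_smul, one_smul]; exact isGeneralized_add ih h
  | pred n ih => push_cast at ih ⊢; rw [sub_smul, one_smul]; exact isGeneralized_sub ih h

theorem isGeneralized_sum {ι : Type*} (s : Finset ι) {f : ι → G → ℂ}
    (h : ∀ i ∈ s, Cfsg.IsGeneralizedCharacter G (f i)) :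
    Cfsg.IsGeneralizedCharacter G (∑ i ∈ s, f i) :=
  Finset.sum_induction f (Cfsg.IsGeneralizedCharacter G) (fun _ _ => isGeneralized_add)
    isGeneralized_zero h

theorem isGeneralized_mul {θ η : G → ℂ} (h : Cfsg.IsGeneralizedCharacter G θ)
    (h' : Cfsg.IsGeneralizedCharacter G η) : Cfsg.IsGeneralizedCharacter G (θ * η) := by
  obtain ⟨a, b, ha, hb, rfl⟩ := h
  obtain ⟨c, d, hc, hd, rfl⟩ := h'
  exact ⟨a * c + b * d, a * d + b * c, isCharacter_add (isCharacter_mul ha hc) (isCharacter_mul hb hd),
    isCharacter_add (isCharacter_mul ha hd) (isCharacter_mul hb hc), by ring⟩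

theorem isGeneralized_isClassFunction {θ : G → ℂ} (h : Cfsg.IsGeneralizedCharacter G θ) :
    Cfsg.IsClassFunction G θ := by
  obtain ⟨a, b, ha, hb, rfl⟩ := h
  intro g x
  simp [isCharacter_isClassFunction ha g x, isCharacter_isClassFunction hb g x]

theorem classInner_isGeneralized_int [Fintype G] {θ η : G → ℂ}
    (h : Cfsg.IsGeneralizedCharacter G θ) (h' : Cfsg.IsGeneralizedCharacter G η) :
    ∃ k : ℤ, Cfsg.classInner θ η = k := by
  obtain ⟨a, b, ha, hb, rfl⟩ := h
  obtain ⟨c, d, hc, hd, rfl⟩ := h'
  obtain ⟨k1, e1⟩ := classInner_isCharacter_nat ha hc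
  obtain ⟨k2, e2⟩ := classInner_isCharacter_nat ha hd
  obtain ⟨k3, e3⟩ := classInner_isCharacter_nat hb hc
  obtain ⟨k4, e4⟩ := classInner_isCharacter_nat hb hd
  refine ⟨((k1 : ℤ) - k2) - (k3 - k4), ?_⟩
  simp [classInner_sub_left, classInner_sub_right, e1, e2, e3, e4]
  ring

/-- A class function with integral inner products with irreducibles is a generalized character. -/
theorem isGeneralized_of_int [Fintype G] {θ : G → ℂ} (hθ : Cfsg.IsClassFunction G θ)
    (h : ∀ χ, Cfsg.IsIrrCharacter G χ → ∃ k : ℤ, Cfsg.classInner θ χ = k) :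
    Cfsg.IsGeneralizedCharacter G θ := by
  have := Fintype.ofFinite (Cfsg.IrrCharacter G)
  rw [classFunction_eq_sum hθ]
  refine isGeneralized_sum _ fun χ _ => ?_
  obtain ⟨k, hk⟩ := h χ.1 χ.2
  rw [hk]
  exact isGeneralized_zsmul (isGeneralized_of_isCharacter (irr_isCharacter χ.2)) k

/-- A class function with natural inner products with irreducibles is a character. -/
theorem isCharacter_of_nat [Fintype G] {θ : G → ℂ} (hθ : Cfsg.IsClassFunction G θ)
    (h : ∀ χ, Cfsg.IsIrrCharacter G χ → ∃ k : ℕ, Cfsg.classInner θ χ = k) :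
    Cfsg.IsCharacter G θ := by
  have := Fintype.ofFinite (Cfsg.IrrCharacter G)
  rw [classFunction_eq_sum hθ]
  refine isCharacter_sum _ fun χ _ => ?_
  obtain ⟨k, hk⟩ := h χ.1 χ.2
  rw [hk, Nat.cast_smul_eq_nsmul ℂ k (χ : G → ℂ)]
  exact isCharacter_nsmul (irr_isCharacter χ.2) k

/-- A generalized character of norm one is plus or minus an irreducible character. -/
theorem isGeneralized_norm_one [Fintype G] {θ : G → ℂ} (hθ : Cfsg.IsGeneralizedCharacter G θ)
    (h : Cfsg.classInner θ θ = 1) : Cfsg.IsIrrCharacter G θ ∨ Cfsg.IsIrrCharacter G (-θ) := by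
  classical
  have := Fintype.ofFinite (Cfsg.IrrCharacter G)
  have hcl := isGeneralized_isClassFunction hθ
  choose k hk using fun χ : Cfsg.IrrCharacter G =>
    classInner_isGeneralized_int hθ (isGeneralized_of_isCharacter (irr_isCharacter χ.2))
  have h1 : ∑ χ, k χ * k χ = 1 := by
    rw [classInner_eq_sum_mul hcl θ] at h
    simp only [hk, map_intCast] at h
    exact_mod_cast h
  obtain ⟨c, hc⟩ : ∃ c, k c ≠ 0 := by
    by_contra hn
    push Not at hn
    simp [hn] at h1
  have hnn : ∀ d ∈ (Finset.univ : Finset (Cfsg.IrrCharacter G)), 0 ≤ k d * k d :=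
    fun d _ => mul_self_nonneg _
  have h2 : k c * k c = 1 := by
    have := Finset.single_le_sum hnn (Finset.mem_univ c)
    rw [h1] at this
    have := mul_self_nonneg (k c)
    have : k c * k c ≠ 0 := mul_ne_zero hc hc
    omega
  have h3 : ∀ d, d ≠ c → k d = 0 := fun d hd => by
    rw [← Finset.add_sum_erase _ _ (Finset.mem_univ c), h2] at h1
    have h4 : ∑ e ∈ Finset.univ.erase c, k e * k e = 0 := by linarith
    exact mul_self_eq_zero.mp
      ((Finset.sum_eq_zero_iff_of_nonneg (fun e _ => hnn e (Finset.mem_univ e))).mp h4 d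
        (Finset.mem_erase.mpr ⟨hd, Finset.mem_univ d⟩))
  have hθeq : θ = (k c : ℂ) • (c : G → ℂ) := by
    conv_lhs => rw [classFunction_eq_sum hcl]
    rw [Finset.sum_eq_single c]
    · rw [hk]
    · intro d _ hd; rw [hk, h3 d hd, Int.cast_zero, zero_smul]
    · simp
  rcases Int.eq_one_or_neg_one_of_mul_eq_one h2 with hkc | hkc
  · left; rw [hθeq, hkc, Int.cast_one, one_smul]; exact c.2
  · right; rw [hθeq, hkc]; simpa using c.2

section Determine

theorem char_eq_zero_iff [Finite G] {V : Type*} [AddCommGroup V] [Module ℂ V]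
    [FiniteDimensional ℂ V] (ρ : Representation ℂ G V) :
    ρ.character = 0 ↔ finrank ℂ V = 0 := by
  refine ⟨fun h => ?_, fun h => ?_⟩
  · have := congr_fun h 1; simpa using this
  · have : Subsingleton V := Module.finrank_zero_iff.mp h
    ext g; simp [Representation.character, Subsingleton.elim (ρ g) 0]

/-- Representations with equal characters are equivalent. -/
theorem equiv_of_char_eq [Finite G] {V : Type v} {W : Type w} [AddCommGroup V] [Module ℂ V]
    [FiniteDimensional ℂ V] [AddCommGroup W] [Module ℂ W] [FiniteDimensional ℂ W]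
    (ρ : Representation ℂ G V) (σ : Representation ℂ G W) (h : ρ.character = σ.character) :
    Nonempty (ρ.Equiv σ) := by
  have := Fintype.ofFinite G
  suffices ∀ (n : ℕ) {V : Type v} {W : Type w} [AddCommGroup V] [Module ℂ V]
      [FiniteDimensional ℂ V] [AddCommGroup W] [Module ℂ W] [FiniteDimensional ℂ W]
      (ρ : Representation ℂ G V) (σ : Representation ℂ G W), finrank ℂ V = n →
      ρ.character = σ.character → Nonempty (ρ.Equiv σ) from this _ ρ σ rfl h
  intro n
  induction n using Nat.strong_induction_on with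
  | _ n ih =>
    intro V W _ _ _ _ _ _ ρ σ hn heq
    have hdim : finrank ℂ W = n := by
      have := congr_fun heq 1
      simp only [Representation.char_one] at this
      rw [hn] at this
      exact_mod_cast this.symm
    rcases Nat.eq_zero_or_pos n with rfl | hpos
    · have := Module.finrank_zero_iff (R := ℂ) (M := V) |>.mp hn
      have := Module.finrank_zero_iff (R := ℂ) (M := W) |>.mp hdim
      exact ⟨Representation.Equiv.mk (LinearEquiv.ofSubsingleton V W)
        fun g => LinearMap.ext fun x => Subsingleton.elim _ _⟩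
    obtain ⟨l, hl, hsum⟩ := exists_multiset_irr ρ
    obtain ⟨τ, hτ⟩ : ∃ τ, τ ∈ l := by
      refine Multiset.exists_mem_of_ne_zero fun h0 => ?_
      rw [h0, Multiset.sum_zero] at hsum
      have := (char_eq_zero_iff ρ).mp hsum
      omega
    obtain ⟨m, t, ht, htc⟩ := hl τ hτ
    have hpos' : Cfsg.classInner ρ.character t.character ≠ 0 := by
      obtain ⟨l', rfl⟩ := Multiset.exists_cons_of_mem hτ
      rw [hsum, Multiset.sum_cons, classInner_add_left, htc,
        irr_classInner_self (hl τ (Multiset.mem_cons_self _ _))]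
      obtain ⟨k, hk⟩ := classInner_isCharacter_nat
        (isCharacter_multiset_sum (l := l') fun ψ hψ =>
          irr_isCharacter (hl ψ (Multiset.mem_cons_of_mem hψ)))
        (irr_isCharacter (hl τ (Multiset.mem_cons_self _ _)))
      rw [hk]
      exact_mod_cast (by omega : 1 + k ≠ 0)
    have hpos'' : Cfsg.classInner σ.character t.character ≠ 0 := heq ▸ hpos'
    rw [classInner_char_eq_finrank] at hpos' hpos''
    obtain ⟨a, ha⟩ := (Module.finrank_pos_iff_exists_ne_zero (R := ℂ)).mp
      (Nat.pos_of_ne_zero fun h0 => hpos' (by exact_mod_cast h0))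
    obtain ⟨b, hb⟩ := (Module.finrank_pos_iff_exists_ne_zero (R := ℂ)).mp
      (Nat.pos_of_ne_zero fun h0 => hpos'' (by exact_mod_cast h0))
    have hai : Function.Injective a.toLinearMap :=
      (Representation.IsIrreducible.injective_or_eq_zero a).resolve_right ha
    have hbi : Function.Injective b.toLinearMap :=
      (Representation.IsIrreducible.injective_or_eq_zero b).resolve_right hb
    let ea : t.Equiv a.range.toRepresentation :=
      Representation.Equiv.mk (LinearEquiv.ofInjective a.toLinearMap hai)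
        fun g => LinearMap.ext fun x => Subtype.ext (a.isIntertwining t ρ g x)
    let eb : t.Equiv b.range.toRepresentation :=
      Representation.Equiv.mk (LinearEquiv.ofInjective b.toLinearMap hbi)
        fun g => LinearMap.ext fun x => Subtype.ext (b.isIntertwining t σ g x)
    obtain ⟨p, hp⟩ := exists_isCompl a.range
    obtain ⟨q, hq⟩ := exists_isCompl b.range
    have hcpq : p.toRepresentation.character = q.toRepresentation.character := by
      rw [char_compl _ p hp, char_compl _ q hq, ← Representation.char_iso ea,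
        ← Representation.char_iso eb] at heq
      exact add_left_cancel heq
    have hlt : finrank ℂ p.toSubmodule < n := by
      have h1 := finrank_compl _ p hp
      have h2 := ea.toLinearEquiv.finrank_eq
      have := nontrivial_of_isIrreducible t
      have h3 : 0 < finrank ℂ (Fin m → ℂ) := finrank_pos
      omega
    obtain ⟨φ⟩ := ih _ hlt p.toRepresentation q.toRepresentation rfl hcpq
    let χ := ea.symm.trans eb
    let Φ : (a.range.toRepresentation.prod p.toRepresentation).Equiv
        (b.range.toRepresentation.prod q.toRepresentation) :=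
      Representation.Equiv.mk (χ.toLinearEquiv.prodCongr φ.toLinearEquiv) fun g =>
        LinearMap.ext fun x => Prod.ext (χ.toIntertwiningMap.isIntertwining _ _ g x.1)
          (φ.toIntertwiningMap.isIntertwining _ _ g x.2)
    exact ⟨((prodEquivOfCompl _ p hp).symm.trans Φ).trans (prodEquivOfCompl _ q hq)⟩

end Determine

end CfsgLib.Char
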