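import Cfsg.Agent.Lib.Char.Integral
import Cfsg.Agent.Lib.Char.Inner
import Mathlib.GroupTheory.Sylow
import Mathlib.GroupTheory.Nilpotent
import Mathlib.GroupTheory.Solvable
import Mathlib.GroupTheory.SpecificGroups.Cyclic

/-!
# Burnside: classes of prime power size, the p^a q^b theorem
-/

namespace CfsgLib.Char

open Module
open scoped ComplexConjugate

universe u

variable {G : Type u} [Group G]

section Scalar

variable {V : Type*} [AddCommGroup V] [Module ℂ V]

/-- The elements acting as scalars. -/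
def scalarSubgroup [Finite G] (ρ : Representation ℂ G V) : Subgroup G where
  carrier := {g | ∃ ω : ℂ, ρ g = ω • (LinearMap.id : V →ₗ[ℂ] V)}
  one_mem' := ⟨1, by simp [Module.End.one_eq_id]⟩
  mul_mem' := by
    rintro a b ⟨x, hx⟩ ⟨y, hy⟩
    exact ⟨x * y, by ext v; simp [map_mul, hx, hy, smul_smul]; rw [mul_comm]⟩
  inv_mem' := by
    rintro a ⟨x, hx⟩
    refine ⟨x ^ (orderOf a - 1), ?_⟩
    have h : a⁻¹ = a ^ (orderOf a - 1) := inv_eq_of_mul_eq_one_right
      (by rw [← pow_succ', Nat.sub_add_cancel (orderOf_pos a), pow_orderOf_eq_one])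
    rw [h, map_pow, hx, ← Module.End.one_eq_id, smul_pow, one_pow]

theorem scalarSubgroup_normal [Finite G] (ρ : Representation ℂ G V) :
    (scalarSubgroup ρ).Normal where
  conj_mem := by
    rintro a ⟨x, hx⟩ g
    refine ⟨x, ?_⟩
    ext v
    simp [map_mul, hx]

theorem finrank_eq_one_of_scalar [FiniteDimensional ℂ V] (ρ : Representation ℂ G V)
    [ρ.IsIrreducible] (h : ∀ g, ∃ ω : ℂ, ρ g = ω • (LinearMap.id : V →ₗ[ℂ] V)) :
    finrank ℂ V = 1 := by
  have := nontrivial_of_isIrreducible ρ
  obtain ⟨v, hv⟩ := exists_ne (0 : V)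
  let p : Subrepresentation ρ := ⟨ℂ ∙ v, fun g w hw => by
    obtain ⟨ω, hω⟩ := h g
    rw [hω]
    exact Submodule.smul_mem _ ω hw⟩
  rcases eq_bot_or_eq_top p with hp | hp
  · have := congr_arg Subrepresentation.toSubmodule hp
    exact absurd (Submodule.span_singleton_eq_bot.mp this) hv
  · have h2 : (ℂ ∙ v) = (⊤ : Submodule ℂ V) := congr_arg Subrepresentation.toSubmodule hp
    have h3 := finrank_span_singleton (K := ℂ) hv
    rwa [h2, finrank_top] at h3

theorem finrank_eq_one_of_trivial [FiniteDimensional ℂ V] (ρ : Representation ℂ G V)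
    [ρ.IsIrreducible] (h : ∀ g, ρ g = 1) : finrank ℂ V = 1 :=
  finrank_eq_one_of_scalar ρ fun g => ⟨1, by rw [h, one_smul, Module.End.one_eq_id]⟩

theorem char_eq_one_of_trivial [FiniteDimensional ℂ V] (ρ : Representation ℂ G V)
    [ρ.IsIrreducible] (h : ∀ g, ρ g = 1) : ρ.character = fun _ => 1 := by
  ext g
  simp [Representation.character, h g, finrank_eq_one_of_trivial ρ h]

end Scalar

theorem burnside_class_prime_power [Finite G] [IsSimpleGroup G] (p k : ℕ) (hp : p.Prime) (g : G)
    (hg : g ≠ 1) (hclass : (Subgroup.centralizer ({g} : Set G)).index = p ^ k) :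
    (Nat.card G).Prime := by
  classical
  suffices ∀ a b : G, a * b = b * a by
    let : CommGroup G := { (inferInstance : Group G) with mul_comm := this }
    exact IsSimpleGroup.prime_card
  by_contra hab
  rcases Nat.eq_zero_or_pos k with rfl | hk
  · rw [pow_zero, Subgroup.index_eq_one, Subgroup.centralizer_eq_top_iff_subset,
      Set.singleton_subset_iff] at hclass
    rcases Subgroup.Normal.eq_bot_or_eq_top (inferInstance : (Subgroup.center G).Normal) with h | h
    · exact hg (Subgroup.mem_bot.mp (h ▸ hclass))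
    · exact hab fun a b => ((Subgroup.mem_center_iff.mp (by rw [h]; trivial : b ∈ Subgroup.center G)) a)
  have := Fintype.ofFinite G
  have := Fintype.ofFinite (Cfsg.IrrCharacter G)
  let one' : Cfsg.IrrCharacter G := ⟨fun _ => 1, isIrrCharacter_one⟩
  have hint : ∀ χ ∈ (Finset.univ : Finset (Cfsg.IrrCharacter G)).erase one',
      IsIntegral ℤ ((χ : G → ℂ) 1 * (χ : G → ℂ) g / (p : ℂ)) := by
    rintro ⟨χ, n, ρ, hρ, rfl⟩ hne
    rw [Finset.mem_erase] at hne
    simp only [Representation.char_one]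
    by_cases hpd : p ∣ finrank ℂ (Fin n → ℂ)
    · obtain ⟨c, hc⟩ := hpd
      rw [hc]
      push_cast
      rw [mul_assoc, mul_div_cancel_left₀ _ (by exact_mod_cast hp.ne_zero)]
      exact (by simpa using isIntegral_algebraMap (R := ℤ) (A := ℂ) (x := (c : ℤ)) :
        IsIntegral ℤ (c : ℂ)).mul (char_isIntegral ρ g)
    have hcop : Nat.Coprime (finrank ℂ (Fin n → ℂ))
        (Subgroup.centralizer ({g} : Set G)).index := by
      rw [hclass]
      exact (Nat.Coprime.pow_left k (hp.coprime_iff_not_dvd.mpr hpd)).symm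
    rcases char_eq_zero_or_norm_of_coprime ρ g hcop with h0 | hnorm
    · simp [h0, isIntegral_zero]
    exfalso
    obtain ⟨ω, hω⟩ := (norm_char_eq_iff ρ g).mp hnorm
    have hmem : g ∈ scalarSubgroup ρ := ⟨ω, hω⟩
    have htop : scalarSubgroup ρ = ⊤ :=
      ((scalarSubgroup_normal ρ).eq_bot_or_eq_top).resolve_left
        fun h => hg (Subgroup.mem_bot.mp (h ▸ hmem))
    have hker : (MonoidHom.ker ρ : Subgroup G) = ⊤ := by
      refine ((MonoidHom.normal_ker ρ).eq_bot_or_eq_top).resolve_left fun hbot => hab fun a b => ?_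
      obtain ⟨x, hx⟩ := (htop ▸ Subgroup.mem_top a : a ∈ scalarSubgroup ρ)
      have h1 : ρ (a * b) = ρ (b * a) := by ext v; simp [map_mul, hx]
      exact (MonoidHom.ker_eq_bot_iff ρ).mp hbot h1
    refine hne.1 (Subtype.ext ?_)
    exact char_eq_one_of_trivial ρ fun x => MonoidHom.mem_ker.mp (hker ▸ Subgroup.mem_top x)
  have h1 := sum_irr_mul_degree g
  rw [if_neg hg, ← Finset.add_sum_erase _ _ (Finset.mem_univ one')] at h1
  have h2 : IsIntegral ℤ (((1 : ℕ) : ℂ) / (p : ℂ)) := by
    simp only [one', one_mul] at h1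
    have heq : ((1 : ℕ) : ℂ) / (p : ℂ) = -∑ χ ∈ (Finset.univ : Finset (Cfsg.IrrCharacter G)).erase
        one', (χ : G → ℂ) 1 * (χ : G → ℂ) g / (p : ℂ) := by
      rw [← Finset.sum_div, ← neg_div, Nat.cast_one]
      congr 1
      linear_combination h1
    rw [heq]
    exact (IsIntegral.sum _ hint).neg
  exact hp.one_lt.ne' (Nat.dvd_one.mp (dvd_of_isIntegral_div hp.pos h2))

theorem burnside_pq (p q : ℕ) (hp : p.Prime) (hq : q.Prime) :
    ∀ (a b : ℕ) (G : Type u) [Group G] [Finite G], Nat.card G = p ^ a * q ^ b →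
      Group.IsSolvable G := by
  suffices ∀ (n : ℕ) (G : Type u) [Group G] [Finite G] (a b : ℕ), Nat.card G = n →
      Nat.card G = p ^ a * q ^ b → Group.IsSolvable G from
    fun a b G _ _ h => this _ G a b rfl h
  intro n
  induction n using Nat.strong_induction_on with
  | _ n ih =>
    intro G _ _ a b hn hcard
    have hdvd : ∀ m, m ∣ Nat.card G → ∃ a' b', m = p ^ a' * q ^ b' := fun m hm => by
      rw [hcard] at hm
      obtain ⟨y, z, hy, hz, rfl⟩ := exists_dvd_and_dvd_of_dvd_mul hm
      obtain ⟨i, -, rfl⟩ := (Nat.dvd_prime_pow hp).mp hy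
      obtain ⟨j, -, rfl⟩ := (Nat.dvd_prime_pow hq).mp hz
      exact ⟨i, j, rfl⟩
    by_cases hN : ∃ N : Subgroup G, N.Normal ∧ N ≠ ⊥ ∧ N ≠ ⊤
    · obtain ⟨N, hNn, hN1, hN2⟩ := hN
      have h1 : 1 < Nat.card N := (Subgroup.one_lt_card_iff_ne_bot N).mpr hN1
      have h2 : 1 < N.index := N.one_lt_index_of_ne_top hN2
      have h3 := N.index_mul_card
      have hlt1 : Nat.card N < n := by rw [← hn]; nlinarith
      have hlt2 : Nat.card (G ⧸ N) < n := by rw [← hn, ← N.index_eq_card]; nlinarith
      obtain ⟨a1, b1, e1⟩ := hdvd _ N.card_subgroup_dvd_card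
      obtain ⟨a2, b2, e2⟩ := hdvd _ N.card_quotient_dvd_card
      have s1 := ih _ hlt1 N a1 b1 rfl e1
      have s2 := ih _ hlt2 (G ⧸ N) a2 b2 rfl e2
      exact Group.isSolvable_of_ker_le_range N.subtype (QuotientGroup.mk' N) (by simp)
    rcases subsingleton_or_nontrivial G with hs | hs
    · exact Group.isSolvable_of_comm fun x y => Subsingleton.elim _ _
    have : IsSimpleGroup G := ⟨fun H hH => by
      by_contra hc; push Not at hc; exact hN ⟨H, hH, hc⟩⟩
    have key : ∀ {r : ℕ}, r.Prime → r ∣ Nat.card G →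
        ∃ z : G, z ≠ 1 ∧ ¬ r ∣ (Subgroup.centralizer ({z} : Set G)).index := by
      intro r hr hrd
      have : Fact r.Prime := ⟨hr⟩
      obtain ⟨P⟩ := (inferInstance : Nonempty (Sylow r G))
      have : Nontrivial P := by
        rw [← Finite.one_lt_card_iff_nontrivial]
        exact lt_of_lt_of_le hr.one_lt
          (Nat.le_of_dvd Nat.card_pos (P.dvd_card_of_dvd_card hrd))
      have hc : Nontrivial (Subgroup.center P) := P.isPGroup'.center_nontrivial
      obtain ⟨⟨z, hz⟩, hz1⟩ := exists_ne (1 : Subgroup.center P)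
      refine ⟨(z : G), fun h => hz1 (Subtype.ext (Subtype.ext h)), fun hd => ?_⟩
      refine P.not_dvd_index (hd.trans (Subgroup.index_dvd_of_le fun x hx => ?_))
      rw [Subgroup.mem_centralizer_singleton_iff]
      exact congr_arg Subtype.val (Subgroup.mem_center_iff.mp hz ⟨x, hx⟩)
    have hprime : (Nat.card G).Prime := by
      by_cases hpd : p ∣ Nat.card G
      · obtain ⟨z, hz, hnd⟩ := key hp hpd
        obtain ⟨a', b', e⟩ := hdvd _ (Subgroup.index_dvd_card _ : (Subgroup.centralizer ({z} : Set G)).index ∣ _)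
        have : a' = 0 := by
          by_contra h0
          exact hnd (e ▸ Dvd.dvd.mul_right (dvd_pow_self p h0) _)
        subst this
        rw [pow_zero, one_mul] at e
        exact burnside_class_prime_power q b' hq z hz e
      · have ha : a = 0 := by
          by_contra h0
          exact hpd (hcard ▸ Dvd.dvd.mul_right (dvd_pow_self p h0) _)
        subst ha
        rw [pow_zero, one_mul] at hcard
        have : Fact q.Prime := ⟨hq⟩
        obtain ⟨z, hz⟩ : ∃ z : G, z ≠ 1 := exists_ne 1
        obtain ⟨a', b', e⟩ := hdvd _ (Subgroup.index_dvd_card _ : (Subgroup.centralizer ({z} : Set G)).index ∣ _)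
        obtain ⟨j, -, hj⟩ := (Nat.dvd_prime_pow hq).mp
          (hcard ▸ (Subgroup.index_dvd_card (Subgroup.centralizer ({z} : Set G))))
        exact burnside_class_prime_power q j hq z hz hj
    have : Fact (Nat.card G).Prime := ⟨hprime⟩
    have : IsCyclic G := isCyclic_of_prime_card rfl
    exact Group.isSolvable_of_comm fun x y => IsCyclic.commGroup.mul_comm x y

end CfsgLib.Char
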