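import Cfsg.Agent.Lib.Char.Column
import Cfsg.Agent.Lib.Char.Inner

/-!
# Induced class functions and Frobenius reciprocity
-/

namespace CfsgLib.Char

open Module
open scoped ComplexConjugate

universe u

variable {G : Type u} [Group G]

theorem extendByZero_coe (H : Subgroup G) (θ : H → ℂ) (h : H) :
    Cfsg.extendByZero H θ (h : G) = θ h :=
  Subtype.val_injective.extend_apply θ 0 h

theorem extendByZero_of_mem {H : Subgroup G} (θ : H → ℂ) {g : G} (hg : g ∈ H) :
    Cfsg.extendByZero H θ g = θ ⟨g, hg⟩ :=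
  extendByZero_coe H θ ⟨g, hg⟩

theorem extendByZero_of_not_mem {H : Subgroup G} (θ : H → ℂ) {g : G} (hg : g ∉ H) :
    Cfsg.extendByZero H θ g = 0 :=
  Function.extend_apply' θ (0 : G → ℂ) g fun ⟨a, ha⟩ => hg (ha ▸ a.2)

theorem sum_extendByZero_mul [Fintype G] (H : Subgroup G) [Fintype H] (θ : H → ℂ) (f : G → ℂ) :
    ∑ g : G, Cfsg.extendByZero H θ g * f g = ∑ h : H, θ h * f h := by
  classical
  rw [← Finset.sum_filter_of_ne (p := fun g => g ∈ H) (fun g _ hne => by
    by_contra hg; exact hne (by rw [extendByZero_of_not_mem θ hg, zero_mul]))]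
  refine Finset.sum_bij' (fun g hg => ⟨g, (Finset.mem_filter.mp hg).2⟩) (fun h _ => (h : G))
    (fun g hg => Finset.mem_univ _) (fun h _ => Finset.mem_filter.mpr ⟨Finset.mem_univ _, h.2⟩)
    (fun g _ => rfl) (fun h _ => rfl) fun g hg => ?_
  rw [extendByZero_of_mem θ (Finset.mem_filter.mp hg).2]

section Fintype

variable [Fintype G]

theorem indFun_def (H : Subgroup G) (θ : H → ℂ) (g : G) :
    Cfsg.indFun H θ g = (Nat.card H : ℂ)⁻¹ * ∑ x : G, Cfsg.extendByZero H θ (x⁻¹ * g * x) := rfl

theorem indFun_isClassFunction (H : Subgroup G) (θ : H → ℂ) :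
    Cfsg.IsClassFunction G (Cfsg.indFun H θ) := by
  intro g h
  simp only [indFun_def]
  congr 1
  refine Fintype.sum_equiv (Equiv.mulLeft h⁻¹) _ _ fun x => ?_
  simp only [Equiv.coe_mulLeft]
  congr 1
  group

theorem indFun_apply_one (H : Subgroup G) (θ : H → ℂ) :
    Cfsg.indFun H θ 1 = (H.index : ℂ) * θ 1 := by
  simp only [indFun_def, mul_one, inv_mul_cancel, extendByZero_of_mem θ H.one_mem,
    Finset.sum_const, Finset.card_univ, nsmul_eq_mul]
  rw [← Nat.card_eq_fintype_card, ← H.index_mul_card, Nat.cast_mul]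
  have : (Nat.card H : ℂ) ≠ 0 := by exact_mod_cast Nat.card_pos.ne'
  field_simp
  rfl

/-- Frobenius reciprocity. -/
theorem frobenius_reciprocity (H : Subgroup G) [Fintype H] (θ : H → ℂ) (χ : G → ℂ)
    (hχ : Cfsg.IsClassFunction G χ) :
    Cfsg.classInner (Cfsg.indFun H θ) χ = Cfsg.classInner θ (fun h : H => χ h) := by
  simp only [classInner_def, indFun_def, mul_assoc, Finset.sum_mul, ← Finset.mul_sum]
  rw [Finset.sum_comm]
  have h1 : ∀ x : G, ∑ g : G, Cfsg.extendByZero H θ (x⁻¹ * (g * x)) * conj (χ g) =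
      ∑ h : H, θ h * conj (χ h) := fun x => by
    rw [← sum_extendByZero_mul H θ (fun g => conj (χ g))]
    refine Fintype.sum_equiv (MulAut.conj x⁻¹).toEquiv _ _ fun g => ?_
    simp only [MulEquiv.toEquiv_eq_coe, MulEquiv.coe_toEquiv, MulAut.conj_apply, inv_inv]
    rw [← mul_assoc]
    congr 2
    have := hχ g x⁻¹
    rw [inv_inv] at this
    exact this.symm
  simp only [h1, Finset.sum_const, Finset.card_univ, nsmul_eq_mul, ← Nat.card_eq_fintype_card]
  rw [mul_left_comm ((Nat.card H : ℂ)⁻¹), ← mul_assoc, inv_mul_cancel₀ natCard_ne_zero, one_mul]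

theorem isCharacter_indFun (H : Subgroup G) {θ : H → ℂ} (hθ : Cfsg.IsCharacter H θ) :
    Cfsg.IsCharacter G (Cfsg.indFun H θ) := by
  have := Fintype.ofFinite H
  refine isCharacter_of_nat (indFun_isClassFunction H θ) fun χ hχ => ?_
  rw [frobenius_reciprocity H θ χ (irr_isClassFunction hχ)]
  exact classInner_isCharacter_nat hθ (isCharacter_restrict (irr_isCharacter hχ) H)

theorem isGeneralized_indFun (H : Subgroup G) {θ : H → ℂ}
    (hθ : Cfsg.IsGeneralizedCharacter H θ) :
    Cfsg.IsGeneralizedCharacter G (Cfsg.indFun H θ) := by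
  have := Fintype.ofFinite H
  refine isGeneralized_of_int (indFun_isClassFunction H θ) fun χ hχ => ?_
  rw [frobenius_reciprocity H θ χ (irr_isClassFunction hχ)]
  exact classInner_isGeneralized_int hθ
    (isGeneralized_of_isCharacter (isCharacter_restrict (irr_isCharacter hχ) H))

theorem extendByZero_add (H : Subgroup G) (θ η : H → ℂ) :
    Cfsg.extendByZero H (θ + η) = Cfsg.extendByZero H θ + Cfsg.extendByZero H η := by
  ext g
  by_cases hg : g ∈ H
  · simp [extendByZero_of_mem _ hg]
  · simp [extendByZero_of_not_mem _ hg]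

theorem extendByZero_smul (H : Subgroup G) (c : ℂ) (θ : H → ℂ) :
    Cfsg.extendByZero H (c • θ) = c • Cfsg.extendByZero H θ := by
  ext g
  by_cases hg : g ∈ H
  · simp [extendByZero_of_mem _ hg]
  · simp [extendByZero_of_not_mem _ hg]

theorem indFun_add (H : Subgroup G) (θ η : H → ℂ) :
    Cfsg.indFun H (θ + η) = Cfsg.indFun H θ + Cfsg.indFun H η := by
  ext g
  simp [indFun_def, extendByZero_add, Finset.sum_add_distrib, mul_add]

theorem indFun_smul (H : Subgroup G) (c : ℂ) (θ : H → ℂ) :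
    Cfsg.indFun H (c • θ) = c • Cfsg.indFun H θ := by
  ext g
  simp [indFun_def, extendByZero_smul, ← Finset.mul_sum, mul_left_comm]

theorem indFun_zero (H : Subgroup G) : Cfsg.indFun H (0 : H → ℂ) = 0 := by
  simpa using indFun_smul H 0 (0 : H → ℂ)

theorem indFun_sum (H : Subgroup G) {ι : Type*} (s : Finset ι) (f : ι → H → ℂ) :
    Cfsg.indFun H (∑ i ∈ s, f i) = ∑ i ∈ s, Cfsg.indFun H (f i) :=
  map_sum (AddMonoidHom.mk' (Cfsg.indFun H) (indFun_add H)) f s

theorem indFun_sub (H : Subgroup G) (θ η : H → ℂ) :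
    Cfsg.indFun H (θ - η) = Cfsg.indFun H θ - Cfsg.indFun H η :=
  map_sub (AddMonoidHom.mk' (Cfsg.indFun H) (indFun_add H)) θ η

/-- The projection formula. -/
theorem indFun_mul (H : Subgroup G) (θ : H → ℂ) {χ : G → ℂ} (hχ : Cfsg.IsClassFunction G χ) :
    Cfsg.indFun H θ * χ = Cfsg.indFun H (θ * fun h : H => χ h) := by
  ext g
  simp only [Pi.mul_apply, indFun_def, mul_assoc, Finset.sum_mul]
  congr 1
  refine Finset.sum_congr rfl fun x _ => ?_
  by_cases hg : x⁻¹ * (g * x) ∈ H
  · rw [extendByZero_of_mem θ hg, extendByZero_of_mem (θ * fun h : H => χ h) hg, Pi.mul_apply]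
    simp only
    rw [← hχ g x⁻¹, inv_inv, mul_assoc x⁻¹ g x]
  · rw [extendByZero_of_not_mem θ hg, extendByZero_of_not_mem _ hg, zero_mul]

theorem indFun_trans (H K : Subgroup G) [Fintype K] (hHK : H ≤ K) (θ : H → ℂ) :
    Cfsg.indFun K (Cfsg.indFun (H.subgroupOf K)
      (fun x => θ ⟨(x : K), Subgroup.mem_subgroupOf.mp x.2⟩)) = Cfsg.indFun H θ := by
  set θ' : H.subgroupOf K → ℂ := fun x => θ ⟨(x : K), Subgroup.mem_subgroupOf.mp x.2⟩
  have hext : ∀ k : K, Cfsg.extendByZero (H.subgroupOf K) θ' k =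
      Cfsg.extendByZero H θ (k : G) := fun k => by
    by_cases hk : (k : G) ∈ H
    · rw [extendByZero_of_mem θ' (Subgroup.mem_subgroupOf.mpr hk), extendByZero_of_mem θ hk]
    · rw [extendByZero_of_not_mem θ' (fun h => hk (Subgroup.mem_subgroupOf.mp h)),
        extendByZero_of_not_mem θ hk]
  have hin : ∀ z : G, Cfsg.extendByZero K (Cfsg.indFun (H.subgroupOf K) θ') z =
      (Nat.card H : ℂ)⁻¹ * ∑ y : K, Cfsg.extendByZero H θ ((y : G)⁻¹ * z * y) := fun z => by
    by_cases hz : z ∈ K
    · rw [extendByZero_of_mem _ hz, indFun_def,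
        Nat.card_congr (Subgroup.subgroupOfEquivOfLe hHK).toEquiv]
      simp only [hext]
      rfl
    · rw [extendByZero_of_not_mem _ hz, Finset.sum_eq_zero, mul_zero]
      intro y _
      refine extendByZero_of_not_mem θ fun h => hz ?_
      have h2 := K.mul_mem (K.mul_mem y.2 (hHK h)) (K.inv_mem y.2)
      convert h2 using 1
      group
  ext g
  simp only [indFun_def K, hin, ← Finset.mul_sum]
  rw [Finset.sum_comm, indFun_def H]
  have h2 : ∀ y : K, ∑ x : G, Cfsg.extendByZero H θ ((y : G)⁻¹ * (x⁻¹ * g * x) * y) =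
      ∑ x : G, Cfsg.extendByZero H θ (x⁻¹ * g * x) := fun y => by
    refine Fintype.sum_equiv (Equiv.mulRight (y : G)) _ _ fun x => ?_
    simp only [Equiv.coe_mulRight]
    congr 1
    group
  simp only [h2, Finset.sum_const, Finset.card_univ, nsmul_eq_mul, ← Nat.card_eq_fintype_card]
  rw [mul_left_comm ((Nat.card K : ℂ)⁻¹), inv_mul_cancel_left₀
    (by exact_mod_cast Nat.card_pos.ne' : (Nat.card K : ℂ) ≠ 0)]

open scoped Classical in
/-- The character of a transitive permutation action is induced from a point stabiliser. -/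
theorem natCard_fixedBy_eq_indFun (X : Type*) [MulAction G X] [Finite X]
    [MulAction.IsPretransitive G X] (x : X) (g : G) :
    (Nat.card (MulAction.fixedBy X g) : ℂ) =
      Cfsg.indFun (MulAction.stabilizer G x) (fun _ => 1) g := by
  have := Fintype.ofFinite X
  have hterm : ∀ a : G, Cfsg.extendByZero (MulAction.stabilizer G x) (fun _ => (1 : ℂ))
      (a⁻¹ * g * a) = if g • (a • x) = a • x then 1 else 0 := fun a => by
    have hiff : a⁻¹ * g * a ∈ MulAction.stabilizer G x ↔ g • (a • x) = a • x := by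
      rw [MulAction.mem_stabilizer_iff, mul_smul, mul_smul, inv_smul_eq_iff]
    split_ifs with h
    · exact extendByZero_of_mem _ (hiff.mpr h)
    · exact extendByZero_of_not_mem _ fun hm => h (hiff.mp hm)
  rw [indFun_def, Finset.sum_congr rfl (fun a _ => hterm a),
    ← Finset.sum_fiberwise Finset.univ (fun a : G => a • x)]
  have hfib : ∀ y : X, ((Finset.univ : Finset G).filter (fun a => a • x = y)).card =
      Nat.card (MulAction.stabilizer G x) := fun y => by
    obtain ⟨b, rfl⟩ := MulAction.exists_smul_eq G x y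
    rw [Nat.card_eq_fintype_card, Fintype.card_subtype]
    refine Finset.card_equiv (Equiv.mulLeft b⁻¹) fun a => ?_
    simp [MulAction.mem_stabilizer_iff, mul_smul, inv_smul_eq_iff]
  have hsum : ∀ y : X, ∑ a ∈ (Finset.univ : Finset G).filter (fun a => a • x = y),
      (if g • (a • x) = a • x then (1 : ℂ) else 0) =
      (Nat.card (MulAction.stabilizer G x) : ℂ) * if g • y = y then 1 else 0 := fun y => by
    rw [Finset.sum_congr rfl (g := fun _ => if g • y = y then (1 : ℂ) else 0) (fun a ha => by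
      rw [(Finset.mem_filter.mp ha).2]), Finset.sum_const, hfib, nsmul_eq_mul]
  rw [Finset.sum_congr rfl fun y _ => hsum y, ← Finset.mul_sum, inv_mul_cancel_left₀
    (by exact_mod_cast Nat.card_pos.ne'), Finset.sum_boole, Nat.card_eq_fintype_card]
  congr 1
  rw [← Fintype.card_subtype]
  exact Fintype.card_congr (Equiv.refl _)

end Fintype

end CfsgLib.Char
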