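import Cfsg.Agent.Lib.Char.Column
import Cfsg.Agent.Lib.Char.Inner
import Mathlib.GroupTheory.FiniteAbelian.Duality
import Mathlib.RingTheory.RootsOfUnity.AlgebraicallyClosed
import Mathlib.GroupTheory.Abelianization.Defs

/-!
# Linear characters, quotient groups, abelian groups
-/

namespace CfsgLib.Char

open Module
open scoped ComplexConjugate commutatorElement

universe u

variable {G : Type u} [Group G]

section Kernel

variable {V : Type*} [AddCommGroup V] [Module ℂ V] [FiniteDimensional ℂ V]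

theorem mem_ker_iff_char [Finite G] (ρ : Representation ℂ G V) (g : G) :
    g ∈ (MonoidHom.ker ρ : Subgroup G) ↔ ρ.character g = ρ.character 1 := by
  rw [MonoidHom.mem_ker, Representation.char_one, char_eq_finrank_iff, Module.End.one_eq_id]

/-- A representation trivial on `N` factors through the quotient. -/
def liftRep (N : Subgroup G) [N.Normal] (ρ : Representation ℂ G V)
    (h : ∀ n ∈ N, ρ n = 1) : Representation ℂ (G ⧸ N) V :=
  QuotientGroup.lift N ρ h

theorem isIrreducible_of_comp_surjective {H : Type*} [Group H] (ρ : Representation ℂ G V)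
    (f : H →* G) (hf : Function.Surjective f)
    [hρ : Representation.IsIrreducible (ρ.comp f : Representation ℂ H V)] : ρ.IsIrreducible := by
  let e : Subrepresentation ρ ≃o Subrepresentation (ρ.comp f : Representation ℂ H V) :=
    { toFun := fun p => ⟨p.toSubmodule, fun h => p.apply_mem_toSubmodule (f h)⟩
      invFun := fun q => ⟨q.toSubmodule, fun g => by
        obtain ⟨h, rfl⟩ := hf g; exact q.apply_mem_toSubmodule h⟩
      left_inv := fun p => rfl
      right_inv := fun q => rfl
      map_rel_iff' := Iff.rfl }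
  exact (OrderIso.isSimpleOrder_iff e).mpr hρ

end Kernel

theorem isIrr_quotient_lift [Finite G] (N : Subgroup G) [N.Normal] {χ : G → ℂ}
    (hχ : Cfsg.IsIrrCharacter G χ) (h : ∀ n ∈ N, χ n = χ 1) :
    ∃ ψ : G ⧸ N → ℂ, Cfsg.IsIrrCharacter (G ⧸ N) ψ ∧ χ = ψ ∘ QuotientGroup.mk' N := by
  obtain ⟨m, ρ, hρ, rfl⟩ := hχ
  have hker : ∀ n ∈ N, ρ n = 1 := fun n hn =>
    MonoidHom.mem_ker.mp ((mem_ker_iff_char ρ n).mpr (h n hn))
  have hirr : Representation.IsIrreducible
      ((liftRep N ρ hker).comp (QuotientGroup.mk' N) : Representation ℂ G (Fin m → ℂ)) := hρ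
  exact ⟨_, ⟨m, liftRep N ρ hker, isIrreducible_of_comp_surjective _ _
    (QuotientGroup.mk'_surjective N), rfl⟩, rfl⟩

theorem isCharacter_quotient_lift [Finite G] (N : Subgroup G) [N.Normal] {χ : G → ℂ}
    (hχ : Cfsg.IsCharacter G χ) (h : ∀ n ∈ N, χ n = χ 1) :
    ∃ ψ : G ⧸ N → ℂ, Cfsg.IsCharacter (G ⧸ N) ψ ∧ χ = ψ ∘ QuotientGroup.mk' N := by
  obtain ⟨m, ρ, rfl⟩ := hχ
  have hker : ∀ n ∈ N, ρ n = 1 := fun n hn =>
    MonoidHom.mem_ker.mp ((mem_ker_iff_char ρ n).mpr (h n hn))
  exact ⟨_, ⟨m, liftRep N ρ hker, rfl⟩, rfl⟩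

/-- An irreducible character of degree one is a homomorphism to `ℂˣ`. -/
theorem exists_hom_of_degree_one {χ : G → ℂ} (hχ : Cfsg.IsCharacter G χ) (h1 : χ 1 = 1) :
    ∃ lam : G →* ℂˣ, χ = fun g => (lam g : ℂ) := by
  obtain ⟨m, ρ, rfl⟩ := hχ
  rw [Representation.char_one] at h1
  have hfr : finrank ℂ (Fin m → ℂ) = 1 := by exact_mod_cast h1
  have hs : ∀ g, ρ g = ρ.character g • (LinearMap.id : (Fin m → ℂ) →ₗ[ℂ] (Fin m → ℂ)) := fun g => by
    obtain ⟨v, hv, hspan⟩ := finrank_eq_one_iff'.mp hfr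
    obtain ⟨c, hc⟩ := hspan (ρ g v)
    have hfull : ρ g = c • (LinearMap.id : (Fin m → ℂ) →ₗ[ℂ] (Fin m → ℂ)) := by
      refine LinearMap.ext fun w => ?_
      obtain ⟨d, rfl⟩ := hspan w
      simp [← hc, smul_comm d c]
    have : ρ.character g = c := by simp [Representation.character, hfull, hfr]
    rw [this]; exact hfull
  have hmul : ∀ a b, ρ.character (a * b) = ρ.character a * ρ.character b := fun a b => by
    have h2 : ρ (a * b) = ρ a * ρ b := map_mul ρ a b
    rw [hs a, hs b] at h2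
    unfold Representation.character at *
    rw [h2]
    simp [Module.End.mul_eq_comp, hfr]
    ring
  exact ⟨MonoidHom.toHomUnits
    { toFun := ρ.character
      map_one' := by simp [hfr]
      map_mul' := hmul }, rfl⟩

theorem irr_degree_one_of_comm [Finite G] (h : ∀ a b : G, a * b = b * a) {χ : G → ℂ}
    (hχ : Cfsg.IsIrrCharacter G χ) : χ 1 = 1 := by
  obtain ⟨m, ρ, hρ, rfl⟩ := hχ
  have : IsMulCommutative G := ⟨⟨h⟩⟩
  rw [Representation.char_one, Representation.IsIrreducible.finrank_eq_one_of_isMulCommutative ρ,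
    Nat.cast_one]

/-- The linear characters as irreducible characters of degree one. -/
noncomputable def linearIrrEquiv :
    (G →* ℂˣ) ≃ {χ : Cfsg.IrrCharacter G // (χ : G → ℂ) 1 = 1} :=
  Equiv.ofBijective (fun lam => ⟨⟨fun g => (lam g : ℂ), isIrrCharacter_linear lam⟩, by simp⟩)
    ⟨fun a b h => MonoidHom.ext fun g => Units.ext
      (congr_fun (congr_arg (fun x => ((x.1 : Cfsg.IrrCharacter G) : G → ℂ)) h) g),
    fun ⟨⟨χ, hχ⟩, h1⟩ => by
      obtain ⟨lam, rfl⟩ := exists_hom_of_degree_one (irr_isCharacter hχ) h1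
      exact ⟨lam, rfl⟩⟩

theorem natCard_linear [Finite G] : Nat.card (G →* ℂˣ) = (commutator G).index := by
  have : Finite (Abelianization G) := inferInstanceAs (Finite (G ⧸ commutator G))
  have : NeZero (Monoid.exponent (Abelianization G) : ℂ) :=
    ⟨by exact_mod_cast Monoid.exponent_ne_zero_of_finite⟩
  rw [Nat.card_congr Abelianization.lift,
    CommGroup.card_monoidHom_of_hasEnoughRootsOfUnity, Subgroup.index_eq_card]
  rfl

theorem natCard_linearIrr [Finite G] :
    Nat.card {χ : Cfsg.IrrCharacter G // (χ : G → ℂ) 1 = 1} = (commutator G).index := by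
  rw [← Nat.card_congr linearIrrEquiv, natCard_linear]

theorem comm_iff_forall_degree_one [Finite G] :
    (∀ a b : G, a * b = b * a) ↔ ∀ χ : Cfsg.IrrCharacter G, (χ : G → ℂ) 1 = 1 := by
  refine ⟨fun h χ => irr_degree_one_of_comm h χ.2, fun h => ?_⟩
  have := Fintype.ofFinite G
  have := Fintype.ofFinite (Cfsg.IrrCharacter G)
  have hsq := sum_irr_sq (G := G)
  simp only [h, one_pow, Finset.sum_const, Finset.card_univ, nsmul_eq_mul, mul_one] at hsq
  have h1 : Nat.card (Cfsg.IrrCharacter G) = Nat.card G := by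
    rw [Nat.card_eq_fintype_card]; exact_mod_cast hsq
  have h2 := natCard_linearIrr (G := G)
  rw [Nat.card_congr (Equiv.subtypeUnivEquiv h), h1] at h2
  have h3 := (commutator G).index_mul_card
  rw [← h2] at h3
  have h4 : Nat.card (commutator G) = 1 := by
    have := Nat.card_pos (α := G)
    nlinarith
  have h5 := Subgroup.card_eq_one.mp h4
  intro a b
  have h6 : ⁅a, b⁆ ∈ (⊥ : Subgroup G) := h5 ▸ Subgroup.commutator_mem_commutator
    (Subgroup.mem_top a) (Subgroup.mem_top b)
  exact commutatorElement_eq_one_iff_mul_comm.mp (Subgroup.mem_bot.mp h6)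

theorem exists_linear_ne_one [Finite G] (h : ∀ a b : G, a * b = b * a) {g : G} (hg : g ≠ 1) :
    ∃ lam : G →* ℂˣ, lam g ≠ 1 := by
  let : CommGroup G := { (inferInstance : Group G) with mul_comm := h }
  have : NeZero (Monoid.exponent G : ℂ) := ⟨by exact_mod_cast Monoid.exponent_ne_zero_of_finite⟩
  exact CommGroup.exists_apply_ne_one_of_hasEnoughRootsOfUnity G ℂ hg

/-- Two central elements are separated by irreducible characters. -/
theorem exists_irr_apply_ne [Finite G] {g : G} (hg : g ≠ 1) :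
    ∃ χ : Cfsg.IrrCharacter G, (χ : G → ℂ) g ≠ (χ : G → ℂ) 1 := by
  have := Fintype.ofFinite G
  by_contra h
  push Not at h
  exact hg (by simpa using (isConj_iff_forall_irr g 1).mpr h)

end CfsgLib.Char
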