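import Cfsg.Agent.Lib.Char.Induce
import Cfsg.Agent.Lib.Char.Linear

/-!
# Constituents, degrees bounded by the index of an abelian subgroup
-/

namespace CfsgLib.Char

open Module
open scoped ComplexConjugate

universe u

variable {G : Type u} [Group G] [Fintype G]

/-- A constituent of a character splits off. -/
theorem isCharacter_sub_of_constituent {φ χ : G → ℂ} (hφ : Cfsg.IsCharacter G φ)
    (hχ : Cfsg.IsIrrCharacter G χ) (h : Cfsg.classInner φ χ ≠ 0) :
    Cfsg.IsCharacter G (φ - χ) := by
  classical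
  refine isCharacter_of_nat (fun g x => ?_) fun ψ hψ => ?_
  · simp [isCharacter_isClassFunction hφ g x, irr_isClassFunction hχ g x]
  · obtain ⟨k, hk⟩ := classInner_isCharacter_nat hφ (irr_isCharacter hψ)
    rw [classInner_sub_left, irr_classInner hχ hψ, hk]
    split_ifs with he
    · subst he
      rw [hk] at h
      have hk0 : k ≠ 0 := fun h0 => h (by rw [h0, Nat.cast_zero])
      exact ⟨k - 1, by rw [Nat.cast_sub (Nat.one_le_iff_ne_zero.mpr hk0), Nat.cast_one]⟩
    · exact ⟨k, by rw [sub_zero]⟩

theorem exists_constituent {φ : G → ℂ} (hφ : Cfsg.IsCharacter G φ) (h1 : φ 1 ≠ 0) :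
    ∃ χ : G → ℂ, Cfsg.IsIrrCharacter G χ ∧ Cfsg.classInner φ χ ≠ 0 := by
  by_contra h
  push Not at h
  exact h1 (congr_fun (classFunction_eq_zero (isCharacter_isClassFunction hφ) h) 1)

/-- An irreducible character restricted to an abelian subgroup is a constituent of a character
induced from a linear one. -/
theorem exists_linear_indFun_constituent (A : Subgroup G)
    (hA : ∀ a ∈ A, ∀ b ∈ A, a * b = b * a) {χ : G → ℂ} (hχ : Cfsg.IsIrrCharacter G χ) :
    ∃ lam : A →* ℂˣ, Cfsg.classInner (Cfsg.indFun A (fun a => (lam a : ℂ))) χ ≠ 0 := by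
  have := Fintype.ofFinite A
  obtain ⟨τ, hτ, hne⟩ := exists_constituent (isCharacter_restrict (irr_isCharacter hχ) A)
    (irr_apply_one_ne_zero hχ)
  obtain ⟨lam, rfl⟩ := exists_hom_of_degree_one (irr_isCharacter hτ)
    (irr_degree_one_of_comm (fun a b => Subtype.ext (hA a a.2 b b.2)) hτ)
  refine ⟨lam, ?_⟩
  rw [frobenius_reciprocity A _ _ (irr_isClassFunction hχ), ← classInner_conj_symm]
  exact fun h => hne ((map_eq_zero _).mp h)

theorem finrank_le_index {V : Type*} [AddCommGroup V] [Module ℂ V] [FiniteDimensional ℂ V]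
    (ρ : Representation ℂ G V) [ρ.IsIrreducible] (A : Subgroup G)
    (hA : ∀ a ∈ A, ∀ b ∈ A, a * b = b * a) : finrank ℂ V ≤ A.index := by
  obtain ⟨lam, hlam⟩ := exists_linear_indFun_constituent A hA (isIrrCharacter_of_rep ρ)
  obtain ⟨e, he⟩ := char_apply_one_eq_nat (isCharacter_sub_of_constituent
    (isCharacter_indFun A (irr_isCharacter (isIrrCharacter_linear lam)))
    (isIrrCharacter_of_rep ρ) hlam)
  simp only [Pi.sub_apply, indFun_apply_one, map_one, Units.val_one, mul_one,
    Representation.char_one] at he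
  have : A.index = e + finrank ℂ V := by exact_mod_cast sub_eq_iff_eq_add.mp he
  omega

end CfsgLib.Char
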