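import Cfsg.Agent.Lib.Char.Induce

/-!
# Permutation characters: orbit decomposition, products
-/

namespace CfsgLib.Char

open Module
open scoped ComplexConjugate

universe u

variable {G : Type u} [Group G] [Fintype G]

/-- The set of generalized permutation characters induced from subgroups with property `P`. -/
def permSpan (P : Subgroup G → Prop) : AddSubgroup (G → ℂ) :=
  AddSubgroup.closure {f | ∃ U : Subgroup G, P U ∧ f = Cfsg.indFun U (fun _ => 1)}

/-- The permutation character of a `G`-set is a sum over orbits. -/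
theorem natCard_fixedBy_eq_sum_orbits {H : Type*} [Group H] [Fintype H] (X : Type*) [MulAction H X]
    [Finite X] [Fintype (MulAction.orbitRel.Quotient H X)] :
    (fun h : H => (Nat.card (MulAction.fixedBy X h) : ℂ)) =
      ∑ ω : MulAction.orbitRel.Quotient H X,
        Cfsg.indFun (MulAction.stabilizer H (Quotient.out ω)) (fun _ => 1) := by
  classical
  have := Fintype.ofFinite X
  ext h
  rw [Finset.sum_apply]
  have hω : ∀ ω : MulAction.orbitRel.Quotient H X,
      Cfsg.indFun (MulAction.stabilizer H (Quotient.out ω)) (fun _ => (1 : ℂ)) h =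
        (((Finset.univ : Finset X).filter
          (fun x => h • x = x ∧ Quotient.mk'' x = ω)).card : ℂ) := by
    intro ω
    let x0 : MulAction.orbit H (Quotient.out ω) := ⟨Quotient.out ω, MulAction.mem_orbit_self _⟩
    have hst : MulAction.stabilizer H x0 = MulAction.stabilizer H (Quotient.out ω) := by
      ext a
      simp only [MulAction.mem_stabilizer_iff, Subtype.ext_iff, MulAction.orbit.coe_smul, x0]
    have h1 := natCard_fixedBy_eq_indFun (MulAction.orbit H (Quotient.out ω)) x0 h
    rw [hst] at h1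
    rw [← h1, Nat.card_eq_fintype_card, ← Fintype.card_coe]
    congr 1
    refine Fintype.card_congr ⟨fun y => ⟨(y.1 : X), Finset.mem_filter.mpr ⟨Finset.mem_univ _,
        congr_arg Subtype.val y.2, ?_⟩⟩,
      fun z => ⟨⟨(z : X), ?_⟩, Subtype.ext (Finset.mem_filter.mp z.2).2.1⟩,
      fun y => rfl, fun z => rfl⟩
    · exact (Quotient.sound' y.1.2).trans (Quotient.out_eq' ω)
    · exact Quotient.exact' ((Finset.mem_filter.mp z.2).2.2.trans (Quotient.out_eq' ω).symm)
  rw [Finset.sum_congr rfl fun ω _ => hω ω, ← Nat.cast_sum]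
  congr 1
  rw [Nat.card_eq_fintype_card, Fintype.card_subtype]
  rw [Finset.card_eq_sum_card_fiberwise (f := fun x => (Quotient.mk'' x :
    MulAction.orbitRel.Quotient H X)) (t := Finset.univ) fun x _ => Finset.mem_univ _]
  refine Finset.sum_congr rfl fun ω _ => ?_
  congr 1
  ext x
  simp [MulAction.mem_fixedBy]

/-- Product of two transitive permutation characters: a combination of permutation characters
on subgroups of the first. -/
theorem indFun_one_mul_indFun_one (H K : Subgroup G) :
    ∃ a : Subgroup G → ℕ, (∀ U, a U ≠ 0 → U ≤ H) ∧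
      Cfsg.indFun H (fun _ => 1) * Cfsg.indFun K (fun _ => 1) =
        ∑ U : Subgroup G, (a U : ℂ) • Cfsg.indFun U (fun _ => 1) := by
  classical
  have := Fintype.ofFinite H
  have := Fintype.ofFinite (MulAction.orbitRel.Quotient H (G ⧸ K))
  let S : MulAction.orbitRel.Quotient H (G ⧸ K) → Subgroup G := fun ω =>
    (MulAction.stabilizer H (Quotient.out ω)).map H.subtype
  have hS : ∀ ω, S ω ≤ H := fun ω => Subgroup.map_subtype_le _
  refine ⟨fun U => ((Finset.univ : Finset (MulAction.orbitRel.Quotient H (G ⧸ K))).filter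
    (fun ω => S ω = U)).card, fun U hU => ?_, ?_⟩
  · obtain ⟨ω, hω⟩ := Finset.card_ne_zero.mp hU
    exact (Finset.mem_filter.mp hω).2 ▸ hS ω
  have hperm : (fun g : G => (Nat.card (MulAction.fixedBy (G ⧸ K) g) : ℂ)) =
      Cfsg.indFun K (fun _ => 1) := by
    ext g
    rw [natCard_fixedBy_eq_indFun (G ⧸ K) ((1 : G) : G ⧸ K) g, MulAction.stabilizer_quotient]
  rw [indFun_mul H _ (indFun_isClassFunction K _), ← hperm]
  have h2 : ((fun _ : H => (1 : ℂ)) * fun h : H =>
      (Nat.card (MulAction.fixedBy (G ⧸ K) (h : G)) : ℂ)) =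
      ∑ ω : MulAction.orbitRel.Quotient H (G ⧸ K),
        Cfsg.indFun (MulAction.stabilizer H (Quotient.out ω)) (fun _ => 1) := by
    rw [← natCard_fixedBy_eq_sum_orbits]
    ext h
    simp
    rfl
  rw [h2, indFun_sum]
  have htr : ∀ ω, Cfsg.indFun H
      (Cfsg.indFun (MulAction.stabilizer H (Quotient.out ω)) (fun _ => 1)) =
      Cfsg.indFun (S ω) (fun _ => (1 : ℂ)) := fun ω => by
    rw [← indFun_trans (S ω) H (hS ω) fun _ => 1]
    congr 1
    have e : (S ω).subgroupOf H = MulAction.stabilizer H (Quotient.out ω) := by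
      rw [Subgroup.subgroupOf, Subgroup.comap_map_eq_self_of_injective H.subtype_injective]
    rw [e]
  rw [Finset.sum_congr rfl fun ω _ => htr ω, ← Finset.sum_fiberwise _ S]
  refine Finset.sum_congr rfl fun U _ => ?_
  rw [Finset.sum_congr rfl (g := fun _ => Cfsg.indFun U (fun _ => (1 : ℂ))) (fun ω hω => by
    rw [(Finset.mem_filter.mp hω).2]), Finset.sum_const, Nat.cast_smul_eq_nsmul]

theorem permSpan_mul_mem {P : Subgroup G → Prop} (hP : ∀ H U, P H → U ≤ H → P U)
    {f g : G → ℂ} (hf : f ∈ permSpan P) (hg : g ∈ permSpan P) : f * g ∈ permSpan P := by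
  induction hf using AddSubgroup.closure_induction with
  | mem x hx =>
    obtain ⟨H, hH, rfl⟩ := hx
    induction hg using AddSubgroup.closure_induction with
    | mem y hy =>
      obtain ⟨K, -, rfl⟩ := hy
      obtain ⟨a, ha, he⟩ := indFun_one_mul_indFun_one H K
      rw [he]
      refine AddSubgroup.sum_mem _ fun U _ => ?_
      rcases eq_or_ne (a U) 0 with h0 | h0
      · simp [h0]
      · have hm : Cfsg.indFun U (fun _ => (1 : ℂ)) ∈ permSpan P :=
          AddSubgroup.subset_closure
            (show Cfsg.indFun U (fun _ => (1 : ℂ)) ∈ {f : G → ℂ | ∃ V : Subgroup G, P V ∧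
              f = Cfsg.indFun V (fun _ => 1)} from ⟨U, hP H U hH (ha U h0), rfl⟩)
        rw [Nat.cast_smul_eq_nsmul]
        exact AddSubgroup.nsmul_mem _ hm (a U)
    | zero => simp
    | add y z _ _ hy hz => rw [mul_add]; exact AddSubgroup.add_mem _ hy hz
    | neg y _ hy => rw [mul_neg]; exact AddSubgroup.neg_mem _ hy
  | zero => simp
  | add y z _ _ hy hz => rw [add_mul]; exact AddSubgroup.add_mem _ hy hz
  | neg y _ hy => rw [neg_mul]; exact AddSubgroup.neg_mem _ hy

theorem permSpan_exists_coeff {P : Subgroup G → Prop} {f : G → ℂ} (hf : f ∈ permSpan P) :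
    ∃ a : Subgroup G → ℤ, (∀ U, a U ≠ 0 → P U) ∧
      f = ∑ U : Subgroup G, (a U : ℂ) • Cfsg.indFun U (fun _ => 1) := by
  classical
  induction hf using AddSubgroup.closure_induction with
  | mem x hx =>
    obtain ⟨H, hH, rfl⟩ := hx
    refine ⟨fun U => if U = H then 1 else 0, fun U hU => ?_, ?_⟩
    · by_cases h : U = H
      · subst h; exact hH
      · simp [h] at hU
    · rw [Finset.sum_eq_single H]
      · simp
      · intro U _ hU; simp [hU]
      · simp
  | zero => exact ⟨0, fun U h => absurd rfl h, by simp⟩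
  | add y z _ _ hy hz =>
    obtain ⟨a, ha, rfl⟩ := hy
    obtain ⟨b, hb, rfl⟩ := hz
    refine ⟨a + b, fun U hU => ?_, ?_⟩
    · rcases eq_or_ne (a U) 0 with h | h
      · exact hb U (by simpa [h] using hU)
      · exact ha U h
    · simp [add_smul, Finset.sum_add_distrib]
  | neg y _ hy =>
    obtain ⟨a, ha, rfl⟩ := hy
    exact ⟨-a, fun U hU => ha U (by simpa using hU), by simp⟩

end CfsgLib.Char
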