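import Cfsg.Agent.Lib.Char.Fixed
import Cfsg.Agent.Lib.Char.Constituent
import Cfsg.Agent.Lib.Char.Perm
import Mathlib.GroupTheory.GroupAction.MultipleTransitivity
import Mathlib.LinearAlgebra.Matrix.StdBasis

/-!
# Frobenius–Schur indicators
-/

namespace CfsgLib.Char

open Module
open scoped ComplexConjugate Matrix

universe u

variable {G : Type u} [Group G]

/-- The representation `M ↦ A M Aᵀ` on matrices. -/
noncomputable def sqRep {n : ℕ} (ρ : Representation ℂ G (Fin n → ℂ)) :
    Representation ℂ G (Matrix (Fin n) (Fin n) ℂ) where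
  toFun g :=
    { toFun := fun M => LinearMap.toMatrix' (ρ g) * M * (LinearMap.toMatrix' (ρ g))ᵀ
      map_add' := fun M N => by rw [Matrix.mul_add, Matrix.add_mul]
      map_smul' := fun c M => by rw [Matrix.mul_smul, Matrix.smul_mul]; rfl }
  map_one' := by
    ext M : 1
    simp [Module.End.one_eq_id]
  map_mul' a b := by
    ext M : 1
    simp [map_mul, LinearMap.toMatrix'_mul, Matrix.transpose_mul, Matrix.mul_assoc]

theorem sqRep_apply {n : ℕ} (ρ : Representation ℂ G (Fin n → ℂ)) (g : G)
    (M : Matrix (Fin n) (Fin n) ℂ) :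
    sqRep ρ g M = LinearMap.toMatrix' (ρ g) * M * (LinearMap.toMatrix' (ρ g))ᵀ := rfl

theorem sqRep_transpose {n : ℕ} (ρ : Representation ℂ G (Fin n → ℂ)) (g : G)
    (M : Matrix (Fin n) (Fin n) ℂ) : (sqRep ρ g M)ᵀ = sqRep ρ g Mᵀ := by
  simp [sqRep_apply, Matrix.transpose_mul, Matrix.mul_assoc]

theorem exists_sq_split {n : ℕ} (ρ : Representation ℂ G (Fin n → ℂ)) :
    ∃ S A : G → ℂ, Cfsg.IsCharacter G S ∧ Cfsg.IsCharacter G A ∧
      (∀ g, S g + A g = ρ.character g ^ 2) ∧ ∀ g, S g - A g = ρ.character (g * g) := by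
  classical
  let p : Subrepresentation (sqRep ρ) :=
    ⟨{ carrier := {M | Mᵀ = M}
       zero_mem' := Matrix.transpose_zero
       add_mem' := fun {M N} (hM : Mᵀ = M) (hN : Nᵀ = N) =>
        show (M + N)ᵀ = M + N by rw [Matrix.transpose_add, hM, hN]
       smul_mem' := fun c M (hM : Mᵀ = M) =>
        show (c • M)ᵀ = c • M by rw [Matrix.transpose_smul, hM] },
      fun g M (hM : Mᵀ = M) => show (sqRep ρ g M)ᵀ = _ by rw [sqRep_transpose, hM]⟩
  let q : Subrepresentation (sqRep ρ) :=
    ⟨{ carrier := {M | Mᵀ = -M}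
       zero_mem' := show (0 : Matrix (Fin n) (Fin n) ℂ)ᵀ = -0 by simp
       add_mem' := fun {M N} (hM : Mᵀ = -M) (hN : Nᵀ = -N) =>
        show (M + N)ᵀ = -(M + N) by rw [Matrix.transpose_add, hM, hN, neg_add]
       smul_mem' := fun c M (hM : Mᵀ = -M) =>
        show (c • M)ᵀ = -(c • M) by rw [Matrix.transpose_smul, hM, smul_neg] },
      fun g M (hM : Mᵀ = -M) => show (sqRep ρ g M)ᵀ = _ by rw [sqRep_transpose, hM, map_neg]⟩
  have hsm : IsCompl p.toSubmodule q.toSubmodule := by
    refine ⟨Submodule.disjoint_def.mpr fun M (hM : Mᵀ = M) (hM' : Mᵀ = -M) => ?_,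
      codisjoint_iff.mpr (Submodule.eq_top_iff'.mpr fun M => ?_)⟩
    · have h : (2 : ℂ) • M = 0 := by
        rw [two_smul]; nth_rewrite 1 [← hM]; rw [hM', neg_add_cancel]
      exact (smul_eq_zero.mp h).resolve_left two_ne_zero
    · refine Submodule.mem_sup.mpr ⟨(1 / 2 : ℂ) • (M + Mᵀ), ?_, (1 / 2 : ℂ) • (M - Mᵀ), ?_, ?_⟩
      · show ((1 / 2 : ℂ) • (M + Mᵀ))ᵀ = _
        rw [Matrix.transpose_smul, Matrix.transpose_add, Matrix.transpose_transpose, add_comm]
      · show ((1 / 2 : ℂ) • (M - Mᵀ))ᵀ = _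
        rw [Matrix.transpose_smul, Matrix.transpose_sub, Matrix.transpose_transpose, ← smul_neg,
          neg_sub]
      · rw [← smul_add, add_add_sub_cancel, ← two_smul ℂ, smul_smul,
          show (1 / 2 : ℂ) * 2 = 1 by norm_num, one_smul]
  have hpq : IsCompl p q := by
    constructor
    · rw [disjoint_iff]
      exact Subrepresentation.toSubmodule_injective hsm.inf_eq_bot
    · rw [codisjoint_iff]
      exact Subrepresentation.toSubmodule_injective hsm.sup_eq_top
  let b := Matrix.stdBasis ℂ (Fin n) (Fin n)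
  let A : G → Matrix (Fin n) (Fin n) ℂ := fun g => LinearMap.toMatrix' (ρ g)
  have hchar : ∀ g, ρ.character g = ∑ i, A g i i := fun g => by
    rw [Representation.character, LinearMap.trace_eq_matrix_trace ℂ (Pi.basisFun ℂ (Fin n)),
      LinearMap.toMatrix_eq_toMatrix']
    rfl
  refine ⟨p.toRepresentation.character, q.toRepresentation.character, isCharacter_of_rep _,
    isCharacter_of_rep _, fun g => ?_, fun g => ?_⟩
  · have h1 := congr_fun (char_compl p q hpq) g
    simp only [Pi.add_apply] at h1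
    rw [← h1, Representation.character, LinearMap.trace_eq_matrix_trace ℂ b, Matrix.trace,
      Fintype.sum_prod_type, hchar, sq, Finset.sum_mul_sum]
    refine Finset.sum_congr rfl fun i _ => Finset.sum_congr rfl fun j _ => ?_
    simp only [Matrix.diag_apply, LinearMap.toMatrix_apply, b]
    rw [Matrix.stdBasis_eq_single, sqRep_apply]
    change (A g * Matrix.single i j (1 : ℂ) * (A g)ᵀ) i j = _
    simp [Matrix.mul_apply, Matrix.single_apply, ite_and]
  · let t : Matrix (Fin n) (Fin n) ℂ →ₗ[ℂ] Matrix (Fin n) (Fin n) ℂ :=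
      { toFun := fun M => Mᵀ
        map_add' := fun M N => Matrix.transpose_add M N
        map_smul' := fun c M => Matrix.transpose_smul c M }
    let e := Submodule.prodEquivOfIsCompl p.toSubmodule q.toSubmodule hsm
    have h1 : sqRep ρ g ∘ₗ t =
        e.conj ((p.toRepresentation g).prodMap (-q.toRepresentation g)) := by
      refine LinearMap.ext fun M => ?_
      obtain ⟨⟨x, y⟩, rfl⟩ := e.surjective M
      rw [LinearEquiv.conj_apply_apply, LinearEquiv.symm_apply_apply]
      simp only [LinearMap.comp_apply, LinearMap.prodMap_apply, LinearMap.neg_apply]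
      simp only [e, Submodule.coe_prodEquivOfIsCompl', Submodule.coe_neg]
      change sqRep ρ g ((x : Matrix (Fin n) (Fin n) ℂ) + (y : Matrix (Fin n) (Fin n) ℂ))ᵀ = _
      rw [Matrix.transpose_add, show (x : Matrix (Fin n) (Fin n) ℂ)ᵀ = x from x.2,
        show (y : Matrix (Fin n) (Fin n) ℂ)ᵀ = -y from y.2, map_add, map_neg]
      rfl
    have h2 := congr_arg (LinearMap.trace ℂ _) h1
    rw [LinearMap.trace_conj', LinearMap.trace_prodMap',
      ← neg_one_smul ℂ (q.toRepresentation g), map_smul, smul_eq_mul, neg_one_mul,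
      ← sub_eq_add_neg] at h2
    change _ = p.toRepresentation.character g - q.toRepresentation.character g at h2
    rw [← h2, LinearMap.trace_eq_matrix_trace ℂ b, Matrix.trace, Fintype.sum_prod_type, hchar]
    refine Finset.sum_congr rfl fun i _ => ?_
    have : A (g * g) = A g * A g := by simp [A, map_mul, LinearMap.toMatrix'_mul]
    rw [this, Matrix.mul_apply]
    refine Finset.sum_congr rfl fun j _ => ?_
    simp only [Matrix.diag_apply, LinearMap.toMatrix_apply, b, LinearMap.comp_apply]
    rw [Matrix.stdBasis_eq_single, sqRep_apply]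
    change (A g * (Matrix.single i j (1 : ℂ))ᵀ * (A g)ᵀ) i j = _
    simp [Matrix.mul_apply, Matrix.single_apply, ite_and]

theorem fs_indicator [Fintype G] {V : Type*} [AddCommGroup V] [Module ℂ V] [FiniteDimensional ℂ V]
    (ρ : Representation ℂ G V) [ρ.IsIrreducible] :
    ((Nat.card G : ℂ)⁻¹ * ∑ s : G, ρ.character (s * s) = 0 ∨
      (Nat.card G : ℂ)⁻¹ * ∑ s : G, ρ.character (s * s) = 1 ∨
      (Nat.card G : ℂ)⁻¹ * ∑ s : G, ρ.character (s * s) = -1) ∧
    ((Nat.card G : ℂ)⁻¹ * ∑ s : G, ρ.character (s * s) = 0 ↔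
      ∃ s : G, (ρ.character s).im ≠ 0) := by
  classical
  obtain ⟨n, σ, -, hσ⟩ := isIrrCharacter_of_rep ρ
  obtain ⟨S, A, hS, hA, hadd, hsub⟩ := exists_sq_split σ
  rw [hσ] at hadd hsub
  obtain ⟨a, ha⟩ := classInner_isCharacter_nat hS (isCharacter_one (G := G))
  obtain ⟨b, hb⟩ := classInner_isCharacter_nat hA (isCharacter_one (G := G))
  have hν : (Nat.card G : ℂ)⁻¹ * ∑ s : G, ρ.character (s * s) = (a : ℂ) - b := by
    rw [← ha, ← hb, ← classInner_sub_left, classInner_def]
    simp [hsub]
  have hirr := isIrrCharacter_of_rep ρ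
  have hsum : ((a + b : ℕ) : ℂ) =
      if (∀ s : G, (ρ.character s).im = 0) then 1 else 0 := by
    have h1 : ((a + b : ℕ) : ℂ) = Cfsg.classInner ρ.character (fun g => conj (ρ.character g)) := by
      push_cast
      rw [← ha, ← hb, ← classInner_add_left, classInner_def, classInner_def]
      simp [hadd, sq]
    rw [h1, irr_classInner hirr (isIrrCharacter_conj hirr)]
    refine if_congr ⟨fun h s => ?_, fun h => funext fun s => ?_⟩ rfl rfl
    · exact Complex.conj_eq_iff_im.mp (congr_fun h s).symm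
    · exact (Complex.conj_eq_iff_im.mpr (h s)).symm
  by_cases hr : ∀ s : G, (ρ.character s).im = 0
  · rw [if_pos hr] at hsum
    have hab : a + b = 1 := by exact_mod_cast hsum
    rw [hν]
    rcases (by omega : a = 1 ∧ b = 0 ∨ a = 0 ∧ b = 1) with ⟨rfl, rfl⟩ | ⟨rfl, rfl⟩
    · exact ⟨Or.inr (Or.inl (by norm_num)), by norm_num; exact hr⟩
    · exact ⟨Or.inr (Or.inr (by norm_num)), by norm_num; exact hr⟩
  · rw [if_neg hr] at hsum
    have hab : a + b = 0 := by exact_mod_cast hsum
    obtain ⟨rfl, rfl⟩ : a = 0 ∧ b = 0 := by omega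
    rw [hν]
    push Not at hr
    exact ⟨Or.inl (by norm_num), iff_of_true (by norm_num) hr⟩

theorem involution_count [Fintype G] [Fintype (Cfsg.IrrCharacter G)] :
    (Nat.card {s : G // s * s = 1} : ℂ) = ∑ χ : Cfsg.IrrCharacter G,
      ((Nat.card G : ℂ)⁻¹ * ∑ s : G, (χ : G → ℂ) (s * s)) * (χ : G → ℂ) 1 := by
  classical
  let N : G → ℂ := fun x => (((Finset.univ : Finset G).filter fun s => s * s = x).card : ℂ)
  have hcl : Cfsg.IsClassFunction G N := by
    intro x h
    simp only [N]
    congr 1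
    refine Finset.card_equiv (MulAut.conj h⁻¹).toEquiv fun s => ?_
    simp only [Finset.mem_filter, Finset.mem_univ, true_and, MulEquiv.toEquiv_eq_coe,
      MulEquiv.coe_toEquiv, ← map_mul, MulAut.conj_apply, inv_inv]
    constructor
    · intro e
      rw [show h⁻¹ * s * h * (h⁻¹ * s * h) = h⁻¹ * (s * s) * h by simp [mul_assoc], e]
      group
    · intro e; rw [← e]; group
  have hinner : ∀ χ : Cfsg.IrrCharacter G, Cfsg.classInner N (χ : G → ℂ) =
      (Nat.card G : ℂ)⁻¹ * ∑ s : G, (χ : G → ℂ) (s * s) := fun χ => by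
    rw [classInner_def]
    congr 1
    have h1 : ∑ x : G, N x * conj ((χ : G → ℂ) x) = ∑ s : G, conj ((χ : G → ℂ) (s * s)) := by
      rw [← Finset.sum_fiberwise Finset.univ (fun s : G => s * s)
        (fun s => conj ((χ : G → ℂ) (s * s)))]
      refine Finset.sum_congr rfl fun x _ => ?_
      rw [Finset.sum_congr rfl (g := fun _ => conj ((χ : G → ℂ) x))
        (fun s hs => by rw [(Finset.mem_filter.mp hs).2]), Finset.sum_const, nsmul_eq_mul]
    rw [h1]
    refine Fintype.sum_equiv (Equiv.inv G) _ _ fun s => ?_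
    rw [← char_inv (irr_isCharacter χ.2), mul_inv_rev]
    rfl
  have h1 := classFunction_apply_eq_sum hcl 1
  simp only [hinner] at h1
  rw [← h1, Nat.card_eq_fintype_card, Fintype.card_subtype]

theorem natCard_orbits_eq [Fintype G] (X : Type*) [MulAction G X] [Finite X]
    [MulAction.IsPretransitive G X] (x : X) :
    Cfsg.classInner (fun g : G => (Nat.card (MulAction.fixedBy X g) : ℂ))
      (fun g : G => (Nat.card (MulAction.fixedBy X g) : ℂ)) =
    (Nat.card (MulAction.orbitRel.Quotient (MulAction.stabilizer G x) X) : ℂ) := by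
  classical
  have := Fintype.ofFinite (MulAction.stabilizer G x)
  have := Fintype.ofFinite (MulAction.orbitRel.Quotient (MulAction.stabilizer G x) X)
  have e : (fun g : G => (Nat.card (MulAction.fixedBy X g) : ℂ)) =
      Cfsg.indFun (MulAction.stabilizer G x) (fun _ => 1) :=
    funext fun g => natCard_fixedBy_eq_indFun X x g
  nth_rewrite 1 [e]
  rw [frobenius_reciprocity _ _ _ (e ▸ indFun_isClassFunction _ _), ← classInner_conj_symm,
    show (fun h : MulAction.stabilizer G x => (Nat.card (MulAction.fixedBy X (h : G)) : ℂ)) =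
      fun h : MulAction.stabilizer G x => (Nat.card (MulAction.fixedBy X h) : ℂ) from rfl,
    natCard_fixedBy_eq_sum_orbits, classInner_sum_left]
  rw [Finset.sum_congr rfl (g := fun _ => (1 : ℂ)) fun ω _ => ?_, Finset.sum_const,
    Finset.card_univ, nsmul_eq_mul, mul_one, map_natCast, Nat.card_eq_fintype_card]
  have := Fintype.ofFinite (MulAction.stabilizer (MulAction.stabilizer G x) (Quotient.out ω))
  rw [frobenius_reciprocity _ _ _ (irr_isClassFunction isIrrCharacter_one)]
  exact irr_classInner_self isIrrCharacter_one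

theorem isIrr_perm_iff [Finite G] (X : Type*) [MulAction G X] [Finite X]
    [MulAction.IsPretransitive G X] (hX : 2 ≤ Nat.card X) :
    Cfsg.IsIrrCharacter G (fun g => (Nat.card (MulAction.fixedBy X g) : ℂ) - 1) ↔
      MulAction.IsMultiplyPretransitive G X 2 := by
  classical
  have := Fintype.ofFinite G
  have hne : Nonempty X := Nat.card_ne_zero.mp (by omega) |>.1
  obtain ⟨x⟩ := hne
  set π : G → ℂ := fun g => (Nat.card (MulAction.fixedBy X g) : ℂ) with hπ
  have e : π = Cfsg.indFun (MulAction.stabilizer G x) (fun _ => 1) :=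
    funext fun g => natCard_fixedBy_eq_indFun X x g
  have := Fintype.ofFinite (MulAction.stabilizer G x)
  have hπc : Cfsg.IsCharacter G π := e ▸ isCharacter_indFun _ isCharacter_one
  have h11 : Cfsg.classInner π (fun _ => (1 : ℂ)) = 1 := by
    rw [e, frobenius_reciprocity _ _ _ (irr_isClassFunction isIrrCharacter_one)]
    exact irr_classInner_self isIrrCharacter_one
  have hfun : (fun g => (Nat.card (MulAction.fixedBy X g) : ℂ) - 1) = π - fun _ => 1 := rfl
  have h1π : Cfsg.classInner (fun _ => (1 : ℂ)) π = 1 := by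
    rw [← classInner_conj_symm, h11, map_one]
  have hnorm : Cfsg.classInner (π - fun _ => 1) (π - fun _ => 1) =
      (Nat.card (MulAction.orbitRel.Quotient (MulAction.stabilizer G x) X) : ℂ) - 1 := by
    simp only [classInner_sub_left, classInner_sub_right, h11, h1π,
      irr_classInner_self isIrrCharacter_one]
    rw [show Cfsg.classInner π π = _ from natCard_orbits_eq X x]
    ring
  have hpos : ∀ y z : X, y ≠ x → z ≠ x →
      (MulAction.IsMultiplyPretransitive G X 2 →
        ∃ g : MulAction.stabilizer G x, g • y = z) := fun y z hy hz h => by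
    obtain ⟨g, hg1, hg2⟩ := MulAction.is_two_pretransitive_iff.mp h hy.symm hz.symm
    exact ⟨⟨g, MulAction.mem_stabilizer_iff.mpr hg1⟩, hg2⟩
  obtain ⟨y, hy⟩ : ∃ y : X, y ≠ x := by
    have : Nontrivial X := Finite.one_lt_card_iff_nontrivial.mp hX
    exact exists_ne x
  let ω : X → MulAction.orbitRel.Quotient (MulAction.stabilizer G x) X := Quotient.mk''
  have hωx : ∀ z, ω z = ω x → z = x := fun z hz => by
    obtain ⟨g, hg⟩ := Quotient.exact' hz
    rw [← hg]; exact MulAction.mem_stabilizer_iff.mp g.2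
  rw [hfun, isIrrCharacter_iff, hnorm]
  constructor
  · rintro ⟨-, h2⟩
    have h3 : Nat.card (MulAction.orbitRel.Quotient (MulAction.stabilizer G x) X) = 2 := by
      have : (Nat.card (MulAction.orbitRel.Quotient (MulAction.stabilizer G x) X) : ℂ) = (2 : ℕ) := by
        push_cast; linear_combination h2
      exact_mod_cast this
    have h2pt : ∀ y z : X, y ≠ x → z ≠ x → ∃ g : MulAction.stabilizer G x, g • y = z := by
      intro y z hy hz
      obtain ⟨a, b, hab, huniv⟩ := Nat.card_eq_two_iff.mp h3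
      have hmem : ∀ w, ω w = a ∨ ω w = b := fun w => by
        have : ω w ∈ ({a, b} : Set _) := huniv ▸ Set.mem_univ _
        simpa using this
      have hyz : ω z = ω y := by
        have hyx : ω y ≠ ω x := fun h => hy (hωx y h)
        have hzx : ω z ≠ ω x := fun h => hz (hωx z h)
        rcases hmem x with hx | hx <;> rcases hmem y with hy' | hy' <;> rcases hmem z with hz' | hz' <;>
          simp_all
      obtain ⟨g, hg⟩ := Quotient.exact' hyz
      exact ⟨g, hg⟩
    rw [MulAction.is_two_pretransitive_iff]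
    intro a b c d hab hcd
    obtain ⟨g₁, hg₁⟩ := MulAction.exists_smul_eq G a x
    obtain ⟨g₂, hg₂⟩ := MulAction.exists_smul_eq G c x
    obtain ⟨⟨k, hk⟩, hk2⟩ := h2pt (g₁ • b) (g₂ • d)
      (fun h => hab (MulAction.injective g₁ (hg₁.trans h.symm)))
      (fun h => hcd (MulAction.injective g₂ (hg₂.trans h.symm)))
    have hk2' : k • g₁ • b = g₂ • d := hk2
    refine ⟨g₂⁻¹ * k * g₁, ?_, ?_⟩
    · rw [mul_smul, mul_smul, hg₁, MulAction.mem_stabilizer_iff.mp hk, ← hg₂, inv_smul_smul]
    · rw [mul_smul, mul_smul, hk2', inv_smul_smul]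
  · intro h
    have h3 : Nat.card (MulAction.orbitRel.Quotient (MulAction.stabilizer G x) X) = 2 := by
      rw [Nat.card_eq_two_iff]
      refine ⟨ω x, ω y, fun h' => hy (hωx y h'.symm), Set.eq_univ_of_forall fun q => ?_⟩
      obtain ⟨z, rfl⟩ := Quotient.mk''_surjective q
      by_cases hz : z = x
      · subst hz; exact Or.inl rfl
      · obtain ⟨g, hg⟩ := hpos y z hy hz h
        exact Or.inr (Quotient.sound' ⟨g, hg⟩)
    refine ⟨isCharacter_sub_of_constituent hπc isIrrCharacter_one (by rw [h11]; exact one_ne_zero), ?_⟩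
    rw [h3]
    norm_num

end CfsgLib.Char
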