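import Cfsg.Agent.Lib.Char.Basic
import Mathlib.LinearAlgebra.LinearIndependent.Lemmas
import Mathlib.Algebra.Group.Conj
import Mathlib.GroupTheory.GroupAction.ConjAct

/-!
# Orthogonality relations, completeness of irreducible characters
-/

namespace CfsgLib.Char

open Module
open scoped ComplexConjugate

universe u

variable {G : Type u} [Group G]

section Inner

variable [Fintype G]

theorem classInner_def (φ ψ : G → ℂ) :
    Cfsg.classInner φ ψ = (Nat.card G : ℂ)⁻¹ * ∑ g : G, φ g * conj (ψ g) := rfl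

theorem natCard_ne_zero : (Nat.card G : ℂ) ≠ 0 := by
  exact_mod_cast Nat.card_pos.ne'

theorem classInner_add_left (φ φ' ψ : G → ℂ) :
    Cfsg.classInner (φ + φ') ψ = Cfsg.classInner φ ψ + Cfsg.classInner φ' ψ := by
  simp [classInner_def, add_mul, Finset.sum_add_distrib, mul_add]

theorem classInner_add_right (φ ψ ψ' : G → ℂ) :
    Cfsg.classInner φ (ψ + ψ') = Cfsg.classInner φ ψ + Cfsg.classInner φ ψ' := by
  simp [classInner_def, mul_add, Finset.sum_add_distrib]

theorem classInner_sub_left (φ φ' ψ : G → ℂ) :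
    Cfsg.classInner (φ - φ') ψ = Cfsg.classInner φ ψ - Cfsg.classInner φ' ψ := by
  simp [classInner_def, sub_mul, Finset.sum_sub_distrib, mul_sub]

theorem classInner_sub_right (φ ψ ψ' : G → ℂ) :
    Cfsg.classInner φ (ψ - ψ') = Cfsg.classInner φ ψ - Cfsg.classInner φ ψ' := by
  simp [classInner_def, mul_sub, Finset.sum_sub_distrib]

theorem classInner_smul_left (c : ℂ) (φ ψ : G → ℂ) :
    Cfsg.classInner (c • φ) ψ = c * Cfsg.classInner φ ψ := by
  simp [classInner_def, Finset.mul_sum, mul_assoc, mul_left_comm]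

theorem classInner_smul_right (c : ℂ) (φ ψ : G → ℂ) :
    Cfsg.classInner φ (c • ψ) = conj c * Cfsg.classInner φ ψ := by
  simp [classInner_def, Finset.mul_sum, mul_assoc, mul_left_comm]

theorem classInner_zero_left (ψ : G → ℂ) : Cfsg.classInner 0 ψ = 0 := by
  simp [classInner_def]

theorem classInner_zero_right (φ : G → ℂ) : Cfsg.classInner φ 0 = 0 := by
  simp [classInner_def]

theorem classInner_sum_left {ι : Type*} (s : Finset ι) (f : ι → G → ℂ) (ψ : G → ℂ) :
    Cfsg.classInner (∑ i ∈ s, f i) ψ = ∑ i ∈ s, Cfsg.classInner (f i) ψ :=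
  map_sum (AddMonoidHom.mk' (fun φ => Cfsg.classInner φ ψ)
    fun a b => classInner_add_left a b ψ) f s

theorem classInner_sum_right {ι : Type*} (s : Finset ι) (φ : G → ℂ) (f : ι → G → ℂ) :
    Cfsg.classInner φ (∑ i ∈ s, f i) = ∑ i ∈ s, Cfsg.classInner φ (f i) :=
  map_sum (AddMonoidHom.mk' (fun ψ => Cfsg.classInner φ ψ)
    fun a b => classInner_add_right φ a b) f s

theorem classInner_conj_symm (φ ψ : G → ℂ) :
    conj (Cfsg.classInner φ ψ) = Cfsg.classInner ψ φ := by
  simp [classInner_def, mul_comm]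

theorem classInner_self_eq_norm (φ : G → ℂ) :
    Cfsg.classInner φ φ = (((Nat.card G : ℝ)⁻¹ * ∑ g : G, ‖φ g‖ ^ 2 : ℝ) : ℂ) := by
  simp [classInner_def, Complex.mul_conj']

theorem classInner_self_eq_zero {φ : G → ℂ} (h : Cfsg.classInner φ φ = 0) : φ = 0 := by
  rw [classInner_self_eq_norm] at h
  have h2 : ((Nat.card G : ℝ)⁻¹ * ∑ g : G, ‖φ g‖ ^ 2 : ℝ) = 0 := by exact_mod_cast h
  rcases mul_eq_zero.mp h2 with h3 | h3
  · simp at h3
  · ext g
    have := (Finset.sum_eq_zero_iff_of_nonneg (fun _ _ => sq_nonneg _)).mp h3 g (Finset.mem_univ g)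
    simpa using this

/-- The inner product of two characters counts intertwining maps. -/
theorem classInner_char_eq_finrank {V W : Type*} [AddCommGroup V] [Module ℂ V]
    [FiniteDimensional ℂ V] [AddCommGroup W] [Module ℂ W] [FiniteDimensional ℂ W]
    (ρ : Representation ℂ G V) (σ : Representation ℂ G W) :
    Cfsg.classInner σ.character ρ.character = finrank ℂ (Representation.IntertwiningMap ρ σ) := by
  have : Invertible (Nat.card G : ℂ) := invertibleOfNonzero natCard_ne_zero
  rw [← Representation.card_inv_mul_sum_char_mul_char_eq_finrank ρ σ, classInner_def]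
  simp only [char_inv_eq_conj]

theorem classInner_isCharacter_nat {φ ψ : G → ℂ} (hφ : Cfsg.IsCharacter G φ)
    (hψ : Cfsg.IsCharacter G ψ) : ∃ k : ℕ, Cfsg.classInner φ ψ = k := by
  obtain ⟨n, ρ, rfl⟩ := hφ
  obtain ⟨m, σ, rfl⟩ := hψ
  exact ⟨_, classInner_char_eq_finrank σ ρ⟩

theorem irr_classInner_self {χ : G → ℂ} (hχ : Cfsg.IsIrrCharacter G χ) :
    Cfsg.classInner χ χ = 1 := by
  obtain ⟨n, ρ, hρ, rfl⟩ := hχ
  rw [classInner_char_eq_finrank ρ ρ, Representation.IsIrreducible.finrank_intertwiningMap_self]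
  simp

theorem irr_classInner_ne {χ ψ : G → ℂ} (hχ : Cfsg.IsIrrCharacter G χ)
    (hψ : Cfsg.IsIrrCharacter G ψ) (hne : χ ≠ ψ) : Cfsg.classInner χ ψ = 0 := by
  obtain ⟨n, ρ, hρ, rfl⟩ := hχ
  obtain ⟨m, σ, hσ, rfl⟩ := hψ
  have : IsEmpty (σ.Equiv ρ) := ⟨fun e => hne (Representation.char_iso e).symm⟩
  rw [classInner_char_eq_finrank σ ρ, finrank_zero_of_subsingleton, Nat.cast_zero]

open scoped Classical in
theorem irr_classInner {χ ψ : G → ℂ} (hχ : Cfsg.IsIrrCharacter G χ)
    (hψ : Cfsg.IsIrrCharacter G ψ) : Cfsg.classInner χ ψ = if χ = ψ then 1 else 0 := by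
  split_ifs with h
  · subst h; exact irr_classInner_self hχ
  · exact irr_classInner_ne hχ hψ h

theorem irr_classInner_eq_one_iff {χ ψ : G → ℂ} (hχ : Cfsg.IsIrrCharacter G χ)
    (hψ : Cfsg.IsIrrCharacter G ψ) : Cfsg.classInner χ ψ = 1 ↔ χ = ψ := by
  classical
  rw [irr_classInner hχ hψ]
  split_ifs with h <;> simp [h]

end Inner

section Finiteness

theorem irr_linearIndependent [Finite G] :
    LinearIndependent ℂ (fun χ : Cfsg.IrrCharacter G => (χ : G → ℂ)) := by
  classical
  have : Fintype G := Fintype.ofFinite G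
  rw [linearIndependent_iff']
  intro s a h i hi
  have h2 := congr_arg (fun φ => Cfsg.classInner φ (i : G → ℂ)) h
  simp only [classInner_sum_left, classInner_smul_left, classInner_zero_left] at h2
  rw [Finset.sum_eq_single i] at h2
  · rwa [irr_classInner_self i.2, mul_one] at h2
  · intro j _ hji
    rw [irr_classInner_ne j.2 i.2 (fun h' => hji (Subtype.ext h')), mul_zero]
  · exact fun h' => absurd hi h'

instance finite_irrCharacter [Finite G] : Finite (Cfsg.IrrCharacter G) :=
  (irr_linearIndependent (G := G)).finite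

theorem finite_setOf_isIrr [Finite G] : {χ : G → ℂ | Cfsg.IsIrrCharacter G χ}.Finite :=
  Set.finite_coe_iff.mp (finite_irrCharacter (G := G))

end Finiteness

section Completeness

variable [Fintype G]

/-- The operator `∑ f g • ρ g⁻¹`. -/
noncomputable def classOp {V : Type*} [AddCommGroup V] [Module ℂ V] (f : G → ℂ)
    (ρ : Representation ℂ G V) : V →ₗ[ℂ] V := ∑ g : G, f g • ρ g⁻¹

theorem classOp_apply {V : Type*} [AddCommGroup V] [Module ℂ V] (f : G → ℂ)
    (ρ : Representation ℂ G V) (v : V) : classOp f ρ v = ∑ g : G, f g • ρ g⁻¹ v := by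
  simp [classOp]

theorem classOp_comm {V : Type*} [AddCommGroup V] [Module ℂ V] {f : G → ℂ}
    (hf : Cfsg.IsClassFunction G f) (ρ : Representation ℂ G V) (h : G) :
    classOp f ρ ∘ₗ ρ h = ρ h ∘ₗ classOp f ρ := by
  ext v
  simp only [LinearMap.comp_apply, classOp_apply, map_sum, map_smul]
  refine Fintype.sum_equiv (MulAut.conj h⁻¹).toEquiv _ _ fun g => ?_
  simp only [MulEquiv.toEquiv_eq_coe, MulEquiv.coe_toEquiv, MulAut.conj_apply, hf g h⁻¹]
  rw [← Module.End.mul_apply, ← map_mul, ← Module.End.mul_apply, ← map_mul]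
  congr 2
  group

/-- A class operator acts on an irreducible representation as a scalar. -/
theorem classOp_eq_scalar {V : Type*} [AddCommGroup V] [Module ℂ V] [FiniteDimensional ℂ V]
    {f : G → ℂ} (hf : Cfsg.IsClassFunction G f) (ρ : Representation ℂ G V) [ρ.IsIrreducible] :
    classOp f ρ = (((Nat.card G : ℂ) * Cfsg.classInner f ρ.character) / finrank ℂ V) •
      (LinearMap.id : V →ₗ[ℂ] V) := by
  have := nontrivial_of_isIrreducible ρ
  let T : Representation.IntertwiningMap ρ ρ := ⟨classOp f ρ, classOp_comm hf ρ⟩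
  obtain ⟨c, hc⟩ :=
    (Representation.IsIrreducible.algebraMap_intertwiningMap_bijective_of_isAlgClosed
      (ρ := ρ) (k := ℂ)).2 T
  have hc2 : classOp f ρ = c • (LinearMap.id : V →ₗ[ℂ] V) := by
    have := congr_arg Representation.IntertwiningMap.toLinearMap hc
    simp only [T] at this
    rw [← this]
    ext v
    simp [Algebra.algebraMap_eq_smul_one]
  have ht := congr_arg (LinearMap.trace ℂ V) hc2
  simp only [classOp, map_sum, map_smul, LinearMap.trace_id, smul_eq_mul] at ht
  rw [hc2]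
  congr 1
  rw [classInner_def, ← mul_assoc, mul_inv_cancel₀ natCard_ne_zero, one_mul]
  rw [eq_div_iff (by exact_mod_cast finrank_pos.ne'), ← ht]
  refine Finset.sum_congr rfl fun g _ => ?_
  rw [← char_inv_eq_conj]
  rfl

/-- A class function orthogonal to all irreducible characters vanishes. -/
theorem classFunction_eq_zero {f : G → ℂ} (hf : Cfsg.IsClassFunction G f)
    (h : ∀ χ, Cfsg.IsIrrCharacter G χ → Cfsg.classInner f χ = 0) : f = 0 := by
  classical
  have hz : classOp f (Representation.leftRegular ℂ G) = 0 := by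
    refine eq_zero_of_forall_irreducible (Representation.leftRegular ℂ G) _ fun p hp x hx => ?_
    have h1 := LinearMap.congr_fun (classOp_eq_scalar hf p.toRepresentation)
      (⟨x, hx⟩ : p.toSubmodule)
    rw [h _ (isIrrCharacter_of_rep p.toRepresentation), mul_zero, zero_div, zero_smul] at h1
    have h2 := congr_arg Subtype.val h1
    simp only [classOp_apply, Submodule.coe_sum, Submodule.coe_smul, LinearMap.zero_apply,
      ZeroMemClass.coe_zero] at h2
    rw [classOp_apply]
    exact h2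
  ext g
  have h3 := LinearMap.congr_fun hz (MonoidAlgebra.single 1 1)
  rw [classOp_apply] at h3
  have h4 := congr_arg (fun x : MonoidAlgebra ℂ G => MonoidAlgebra.coeff x g⁻¹) h3
  simpa [Finset.sum_eq_single g, Finsupp.single_apply] using h4

/-- Irreducible characters span the class functions. -/
theorem classFunction_eq_sum {ψ : G → ℂ} (hψ : Cfsg.IsClassFunction G ψ)
    [Fintype (Cfsg.IrrCharacter G)] :
    ψ = ∑ χ : Cfsg.IrrCharacter G, Cfsg.classInner ψ (χ : G → ℂ) • (χ : G → ℂ) := by
  classical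
  rw [← sub_eq_zero]
  refine classFunction_eq_zero (fun g h => ?_) fun χ hχ => ?_
  · simp only [Pi.sub_apply, Finset.sum_apply, Pi.smul_apply, hψ g h]
    congr 1
    exact Finset.sum_congr rfl fun c _ => by rw [irr_isClassFunction c.2 g h]
  · rw [classInner_sub_left, classInner_sum_left, Finset.sum_eq_single (⟨χ, hχ⟩ : Cfsg.IrrCharacter G)]
    · rw [classInner_smul_left, irr_classInner_self hχ, mul_one, sub_self]
    · intro c _ hc
      rw [classInner_smul_left, irr_classInner_ne c.2 hχ (fun h => hc (Subtype.ext h)), mul_zero]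
    · simp

theorem classFunction_eq_finsum {ψ : G → ℂ} (hψ : Cfsg.IsClassFunction G ψ) :
    ψ = ∑ᶠ χ : Cfsg.IrrCharacter G, Cfsg.classInner ψ (χ : G → ℂ) • (χ : G → ℂ) := by
  have := Fintype.ofFinite (Cfsg.IrrCharacter G)
  rw [finsum_eq_sum_of_fintype]
  exact classFunction_eq_sum hψ

theorem classFunction_apply_eq_sum {ψ : G → ℂ} (hψ : Cfsg.IsClassFunction G ψ)
    [Fintype (Cfsg.IrrCharacter G)] (g : G) :
    ψ g = ∑ χ : Cfsg.IrrCharacter G, Cfsg.classInner ψ (χ : G → ℂ) * (χ : G → ℂ) g := by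
  conv_lhs => rw [classFunction_eq_sum hψ]
  simp

/-- Class functions with equal inner products with all irreducible characters are equal. -/
theorem classFunction_ext {φ ψ : G → ℂ} (hφ : Cfsg.IsClassFunction G φ)
    (hψ : Cfsg.IsClassFunction G ψ)
    (h : ∀ χ, Cfsg.IsIrrCharacter G χ → Cfsg.classInner φ χ = Cfsg.classInner ψ χ) : φ = ψ := by
  have := Fintype.ofFinite (Cfsg.IrrCharacter G)
  rw [classFunction_eq_sum hφ, classFunction_eq_sum hψ]
  exact Finset.sum_congr rfl fun c _ => by rw [h c.1 c.2]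

theorem classInner_eq_sum_mul {φ : G → ℂ} (hφ : Cfsg.IsClassFunction G φ) (ψ : G → ℂ)
    [Fintype (Cfsg.IrrCharacter G)] :
    Cfsg.classInner φ ψ = ∑ χ : Cfsg.IrrCharacter G,
      Cfsg.classInner φ (χ : G → ℂ) * conj (Cfsg.classInner ψ (χ : G → ℂ)) := by
  conv_lhs => rw [classFunction_eq_sum hφ]
  simp only [classInner_sum_left, classInner_smul_left, classInner_conj_symm]

end Completeness

end CfsgLib.Char
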