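import Mathlib.LinearAlgebra.Eigenspace.Semisimple
import Mathlib.LinearAlgebra.Eigenspace.Triangularizable
import Mathlib.Analysis.Complex.Basic
import Mathlib.FieldTheory.Separable
import Mathlib.RepresentationTheory.Character
import Mathlib.Analysis.Complex.Polynomial.Basic
import Mathlib.RingTheory.IntegralClosure.IsIntegral.Basic
import Mathlib.GroupTheory.OrderOfElement
import Mathlib.Tactic

/-!
# Operators of finite order over ℂ, values of characters
-/

namespace CfsgLib.Char

open Module Polynomial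
open scoped ComplexConjugate

variable {V : Type*} [AddCommGroup V] [Module ℂ V] [FiniteDimensional ℂ V]

theorem exists_eigenbasis (f : Module.End ℂ V) {m : ℕ} (hm : 0 < m) (hf : f ^ m = 1) :
    ∃ (ι : Type) (_ : Fintype ι) (b : Basis ι ℂ V) (μ : ι → ℂ),
      (∀ i, f (b i) = μ i • b i) ∧ (∀ i, μ i ^ m = 1) := by
  classical
  have hsq : Squarefree ((X : ℂ[X]) ^ m - 1) :=
    Separable.squarefree (X_pow_sub_one_separable_iff.mpr (by exact_mod_cast hm.ne'))
  have hss : f.IsSemisimple :=
    Module.End.isSemisimple_of_squarefree_aeval_eq_zero hsq (by simp [hf])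
  have htop : ⨆ μ : ℂ, f.eigenspace μ = ⊤ := by
    apply hss.iSup_eigenspace_eq_top
  have hint : DirectSum.IsInternal (fun μ : ℂ => f.eigenspace μ) :=
    DirectSum.isInternal_submodule_of_iSupIndep_of_iSup_eq_top f.eigenspaces_iSupIndep htop
  let bb := hint.collectedBasis (fun μ => Module.finBasis ℂ (f.eigenspace μ))
  have : Fintype (Σ μ : ℂ, Fin (finrank ℂ (f.eigenspace μ))) :=
    FiniteDimensional.fintypeBasisIndex bb
  let e := (Fintype.equivFin (Σ μ : ℂ, Fin (finrank ℂ (f.eigenspace μ))))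
  refine ⟨Fin _, inferInstance, bb.reindex e, fun i => (e.symm i).1, ?_, ?_⟩
  · intro i
    have := hint.collectedBasis_mem (fun μ => Module.finBasis ℂ (f.eigenspace μ)) (e.symm i)
    simpa [bb] using Module.End.mem_eigenspace_iff.mp this
  · intro i
    have hmem := hint.collectedBasis_mem (fun μ => Module.finBasis ℂ (f.eigenspace μ)) (e.symm i)
    have hev : f.HasEigenvector (e.symm i).1 (bb (e.symm i)) := ⟨hmem, bb.ne_zero _⟩
    have := hev.pow_apply m
    rw [hf] at this
    have h2 : ((e.symm i).1 ^ m - 1) • bb (e.symm i) = 0 := by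
      rw [sub_smul, one_smul, ← this]; simp
    rcases smul_eq_zero.mp h2 with h | h
    · exact sub_eq_zero.mp h
    · exact absurd h (bb.ne_zero _)

theorem trace_eq_sum_eigen {ι : Type*} [Fintype ι] (b : Basis ι ℂ V) (f : V →ₗ[ℂ] V) (μ : ι → ℂ)
    (h : ∀ i, f (b i) = μ i • b i) : LinearMap.trace ℂ V f = ∑ i, μ i := by
  classical
  rw [LinearMap.trace_eq_matrix_trace ℂ b, Matrix.trace]
  refine Finset.sum_congr rfl fun i _ => ?_
  simp [LinearMap.toMatrix_apply, h]

section Rep

variable {G : Type*} [Group G] [Finite G] (ρ : Representation ℂ G V)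

theorem rep_pow_orderOf (g : G) : ρ g ^ orderOf g = 1 := by
  rw [← map_pow, pow_orderOf_eq_one, map_one]

/-- A basis of eigenvectors of `ρ g`, with the values of the character at all powers of `g`. -/
theorem exists_char_eigen (g : G) :
    ∃ (ι : Type) (_ : Fintype ι) (b : Basis ι ℂ V) (μ : ι → ℂ),
      (∀ i, ρ g (b i) = μ i • b i) ∧ (∀ i, μ i ^ orderOf g = 1) ∧
      (∀ n : ℕ, ρ.character (g ^ n) = ∑ i, μ i ^ n) ∧ ρ.character g⁻¹ = ∑ i, (μ i)⁻¹ := by
  obtain ⟨ι, hι, b, μ, h1, h2⟩ := exists_eigenbasis (ρ g) (orderOf_pos g) (rep_pow_orderOf ρ g)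
  refine ⟨ι, hι, b, μ, h1, h2, fun n => ?_, ?_⟩
  · refine trace_eq_sum_eigen b _ _ fun i => ?_
    induction n with
    | zero => simp
    | succ n ih =>
      rw [pow_succ, map_mul, Module.End.mul_apply, h1, map_smul, ih, smul_smul, pow_succ, mul_comm]
  · refine trace_eq_sum_eigen b _ _ fun i => ?_
    have hne : μ i ≠ 0 := fun h => by
      have := h2 i
      rw [h, zero_pow (orderOf_pos g).ne'] at this
      exact zero_ne_one this
    have h3 : ρ g⁻¹ (ρ g (b i)) = b i := by
      rw [← Module.End.mul_apply, ← map_mul, inv_mul_cancel, map_one, Module.End.one_apply]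
    rw [h1, map_smul] at h3
    rw [eq_inv_smul_iff₀ hne, h3]

theorem norm_eigen_eq_one {z : ℂ} {n : ℕ} (hn : 0 < n) (h : z ^ n = 1) : ‖z‖ = 1 :=
  Complex.norm_eq_one_of_pow_eq_one h hn.ne'

theorem char_inv_eq_conj (g : G) : ρ.character g⁻¹ = conj (ρ.character g) := by
  obtain ⟨ι, hι, b, μ, -, h2, h3, h4⟩ := exists_char_eigen ρ g
  have h5 := h3 1
  simp only [pow_one] at h5
  rw [h4, h5, map_sum]
  exact Finset.sum_congr rfl fun i _ =>
    Complex.inv_eq_conj (norm_eigen_eq_one (orderOf_pos g) (h2 i))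

theorem char_isIntegral (g : G) : IsIntegral ℤ (ρ.character g) := by
  obtain ⟨ι, hι, b, μ, -, h2, h3, -⟩ := exists_char_eigen ρ g
  have h5 := h3 1
  simp only [pow_one] at h5
  rw [h5]
  refine IsIntegral.sum _ fun i _ => IsIntegral.of_pow (orderOf_pos g) ?_
  rw [h2 i]; exact isIntegral_one

theorem norm_char_le (g : G) : ‖ρ.character g‖ ≤ (finrank ℂ V : ℝ) := by
  obtain ⟨ι, hι, b, μ, -, h2, h3, -⟩ := exists_char_eigen ρ g
  have h5 := h3 1
  simp only [pow_one] at h5
  rw [h5]
  refine (norm_sum_le _ _).trans ?_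
  simp [norm_eigen_eq_one (orderOf_pos g) (h2 _), finrank_eq_card_basis b]

/-- If the norm of a character value is the degree then the element acts as a scalar. -/
theorem eq_smul_id_of_norm_char_eq (g : G) (h : ‖ρ.character g‖ = (finrank ℂ V : ℝ)) :
    ∃ ω : ℂ, ρ g = ω • (LinearMap.id : V →ₗ[ℂ] V) ∧ (0 < finrank ℂ V → ρ.character g = finrank ℂ V * ω) := by
  classical
  obtain ⟨ι, hι, b, μ, h1, h2, h3, -⟩ := exists_char_eigen ρ g
  have h5 := h3 1
  simp only [pow_one] at h5
  rw [finrank_eq_card_basis b] at h ⊢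
  set S := ρ.character g with hS
  rcases Nat.eq_zero_or_pos (Fintype.card ι) with h0 | h0
  · refine ⟨0, b.ext fun i => ?_, fun h' => absurd h' (by omega)⟩
    exact (Fintype.card_eq_zero_iff.mp h0).elim i
  set n : ℝ := (Fintype.card ι : ℝ) with hn
  have hnpos : 0 < n := Nat.cast_pos.mpr h0
  set ω : ℂ := S / (n : ℂ) with hω
  have hμ : ∀ i, Complex.normSq (μ i) = 1 := fun i => by
    rw [Complex.normSq_eq_norm_sq, norm_eigen_eq_one (orderOf_pos g) (h2 i), one_pow]
  have hsum : ∑ i, Complex.normSq (μ i - ω) = 0 := by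
    simp only [Complex.normSq_sub, hμ, Finset.sum_add_distrib, Finset.sum_sub_distrib, ← Finset.mul_sum]
    rw [← Complex.re_sum, ← Finset.sum_mul, ← h5, hω]
    simp only [Finset.sum_const, Finset.card_univ, nsmul_eq_mul, map_div₀, Complex.conj_ofReal, Complex.normSq_div, Complex.normSq_ofReal]
    rw [← mul_div_assoc S, Complex.mul_conj, Complex.normSq_eq_norm_sq, h]
    rw [← Complex.ofReal_div, Complex.ofReal_re]
    field_simp
    ring
  have heq : ∀ i, μ i = ω := fun i => by
    have := (Finset.sum_eq_zero_iff_of_nonneg (fun i _ => Complex.normSq_nonneg _)).mp hsum i (Finset.mem_univ i)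
    exact sub_eq_zero.mp (Complex.normSq_eq_zero.mp this)
  refine ⟨ω, b.ext fun i => by rw [h1, heq]; simp, fun _ => ?_⟩
  rw [h5, Finset.sum_congr rfl (fun i _ => heq i)]
  simp

theorem norm_char_eq_iff (g : G) :
    ‖ρ.character g‖ = (finrank ℂ V : ℝ) ↔ ∃ ω : ℂ, ρ g = ω • (LinearMap.id : V →ₗ[ℂ] V) := by
  refine ⟨fun h => (eq_smul_id_of_norm_char_eq ρ g h).imp fun ω h => h.1, fun ⟨ω, hω⟩ => ?_⟩
  rcases Nat.eq_zero_or_pos (finrank ℂ V) with h0 | h0
  · have := norm_char_le ρ g
    rw [h0] at this ⊢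
    simp only [Nat.cast_zero] at this ⊢
    exact le_antisymm this (norm_nonneg _)
  have hne : Nontrivial V := Module.finrank_pos_iff.mp h0
  have hω1 : ω ^ orderOf g = 1 := by
    obtain ⟨v, hv⟩ := exists_ne (0 : V)
    have hpow : ∀ n : ℕ, (ρ g ^ n) v = ω ^ n • v := fun n => by
      induction n with
      | zero => simp
      | succ n ih => rw [pow_succ', Module.End.mul_apply, ih, map_smul, hω]; simp [smul_smul, pow_succ, mul_comm]
    have := hpow (orderOf g)
    rw [rep_pow_orderOf, Module.End.one_apply] at this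
    have h2 : (ω ^ orderOf g - 1) • v = 0 := by rw [sub_smul, one_smul, ← this, sub_self]
    exact sub_eq_zero.mp ((smul_eq_zero.mp h2).resolve_right hv)
  simp [Representation.character, hω, norm_eigen_eq_one (orderOf_pos g) hω1]

theorem char_eq_finrank_iff (g : G) :
    ρ.character g = (finrank ℂ V : ℂ) ↔ ρ g = LinearMap.id := by
  refine ⟨fun h => ?_, fun h => by simp [Representation.character, h]⟩
  obtain ⟨ω, h1, h2⟩ := eq_smul_id_of_norm_char_eq ρ g (by rw [h]; simp)
  rcases Nat.eq_zero_or_pos (finrank ℂ V) with h0 | h0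
  · have : Subsingleton V := Module.finrank_zero_iff.mp h0
    exact LinearMap.ext fun v => Subsingleton.elim _ _
  · have h3 := h2 h0
    rw [h] at h3
    have hne : (finrank ℂ V : ℂ) ≠ 0 := by exact_mod_cast h0.ne'
    have : ω = 1 := mul_left_cancel₀ hne (by rw [← h3, mul_one])
    rw [h1, this, one_smul]

end Rep

end CfsgLib.Char
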