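import Cfsg.Prelude.Def_Characters
import Cfsg.Agent.Lib.Char.Diag
import Mathlib.RepresentationTheory.Maschke

/-!
# Characters: basic closure properties, decomposition into irreducibles
-/

namespace CfsgLib.Char

open Module
open scoped ComplexConjugate

universe u v

variable {G : Type u} [Group G]

section Transport

variable {V : Type*} [AddCommGroup V] [Module ℂ V] {W : Type*} [AddCommGroup W] [Module ℂ W]

/-- Transport a representation along a linear equivalence. -/
def mapRep (e : V ≃ₗ[ℂ] W) (ρ : Representation ℂ G V) : Representation ℂ G W where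
  toFun g := e.conj (ρ g)
  map_one' := by ext; simp [LinearEquiv.conj_apply_apply]
  map_mul' a b := by ext; simp [LinearEquiv.conj_apply_apply]

theorem mapRep_apply (e : V ≃ₗ[ℂ] W) (ρ : Representation ℂ G V) (g : G) (w : W) :
    mapRep e ρ g w = e (ρ g (e.symm w)) := rfl

/-- The equivalence between a representation and its transport. -/
def mapRepEquiv (e : V ≃ₗ[ℂ] W) (ρ : Representation ℂ G V) : ρ.Equiv (mapRep e ρ) :=
  Representation.Equiv.mk e (fun g => by ext v; simp [mapRep_apply])

/-- Subrepresentations correspond along an equivalence. -/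
def subrepIso {ρ : Representation ℂ G V} {σ : Representation ℂ G W} (φ : ρ.Equiv σ) :
    Subrepresentation ρ ≃o Subrepresentation σ where
  toFun p := ⟨p.toSubmodule.map φ.toLinearEquiv.toLinearMap, fun g w hw => by
    obtain ⟨v, hv, rfl⟩ := Submodule.mem_map.mp hw
    exact Submodule.mem_map.mpr ⟨ρ g v, p.apply_mem_toSubmodule g hv,
      φ.toIntertwiningMap.isIntertwining ρ σ g v⟩⟩
  invFun q := ⟨q.toSubmodule.comap φ.toLinearEquiv.toLinearMap, fun g v hv => by
    rw [Submodule.mem_comap] at hv ⊢
    have h := φ.toIntertwiningMap.isIntertwining ρ σ g v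
    change φ.toLinearEquiv (ρ g v) = σ g (φ.toLinearEquiv v) at h
    change φ.toLinearEquiv (ρ g v) ∈ q.toSubmodule
    rw [h]
    exact q.apply_mem_toSubmodule g hv⟩
  left_inv p := Subrepresentation.toSubmodule_injective
    (Submodule.comap_map_eq_of_injective φ.toLinearEquiv.injective _)
  right_inv q := Subrepresentation.toSubmodule_injective
    (Submodule.map_comap_eq_of_surjective φ.toLinearEquiv.surjective _)
  map_rel_iff' := by
    intro p q
    exact Submodule.map_le_map_iff_of_injective φ.toLinearEquiv.injective p.toSubmodule q.toSubmodule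

theorem isIrreducible_of_equiv {ρ : Representation ℂ G V} {σ : Representation ℂ G W}
    (φ : ρ.Equiv σ) [hρ : ρ.IsIrreducible] : σ.IsIrreducible :=
  (OrderIso.isSimpleOrder_iff (subrepIso φ)).mp hρ

theorem nontrivial_of_isIrreducible (ρ : Representation ℂ G V) [hρ : ρ.IsIrreducible] :
    Nontrivial V := by
  by_contra h
  rw [not_nontrivial_iff_subsingleton] at h
  have : Subsingleton (Subrepresentation ρ) :=
    ⟨fun p q => Subrepresentation.toSubmodule_injective (Subsingleton.elim _ _)⟩
  exact not_nontrivial (Subrepresentation ρ) hρ.toNontrivial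

/-- The character of a product representation is the sum of the characters. -/
theorem char_prod [FiniteDimensional ℂ V] [FiniteDimensional ℂ W] (ρ : Representation ℂ G V)
    (σ : Representation ℂ G W) : (ρ.prod σ).character = ρ.character + σ.character := by
  ext g
  exact LinearMap.trace_prodMap' _ _

end Transport

section Class

variable {V : Type*} [AddCommGroup V] [Module ℂ V] [FiniteDimensional ℂ V]

theorem isCharacter_of_rep (ρ : Representation ℂ G V) : Cfsg.IsCharacter G ρ.character := by
  refine ⟨finrank ℂ V, mapRep (Module.finBasis ℂ V).equivFun ρ, ?_⟩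
  exact (Representation.char_iso (mapRepEquiv _ ρ)).symm

theorem isIrrCharacter_of_rep (ρ : Representation ℂ G V) [ρ.IsIrreducible] :
    Cfsg.IsIrrCharacter G ρ.character := by
  refine ⟨finrank ℂ V, mapRep (Module.finBasis ℂ V).equivFun ρ, ?_, ?_⟩
  · exact isIrreducible_of_equiv (mapRepEquiv _ ρ)
  · exact (Representation.char_iso (mapRepEquiv _ ρ)).symm

theorem irr_isCharacter {χ : G → ℂ} (h : Cfsg.IsIrrCharacter G χ) : Cfsg.IsCharacter G χ := by
  obtain ⟨n, ρ, -, h⟩ := h
  exact ⟨n, ρ, h⟩

theorem isCharacter_isClassFunction {χ : G → ℂ} (h : Cfsg.IsCharacter G χ) :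
    Cfsg.IsClassFunction G χ := by
  obtain ⟨n, ρ, rfl⟩ := h
  intro g x
  exact ρ.char_conj g x

theorem irr_isClassFunction {χ : G → ℂ} (h : Cfsg.IsIrrCharacter G χ) :
    Cfsg.IsClassFunction G χ := isCharacter_isClassFunction (irr_isCharacter h)

theorem isClassFunction_isConj {θ : G → ℂ} (h : Cfsg.IsClassFunction G θ) {a b : G}
    (hab : IsConj a b) : θ a = θ b := by
  obtain ⟨c, hc⟩ := isConj_iff.mp hab
  rw [← hc, h]

theorem isClassFunction_mul_comm {θ : G → ℂ} (h : Cfsg.IsClassFunction G θ) (a b : G) :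
    θ (a * b) = θ (b * a) := by
  rw [← h (a * b) b]
  group

theorem isCharacter_zero : Cfsg.IsCharacter G (0 : G → ℂ) := by
  refine ⟨0, Representation.trivial ℂ G (Fin 0 → ℂ), ?_⟩
  ext g
  simp [Representation.character, Subsingleton.elim (Representation.trivial ℂ G (Fin 0 → ℂ) g) 0]

theorem isCharacter_add {χ ψ : G → ℂ} (hχ : Cfsg.IsCharacter G χ) (hψ : Cfsg.IsCharacter G ψ) :
    Cfsg.IsCharacter G (χ + ψ) := by
  obtain ⟨n, ρ, rfl⟩ := hχ
  obtain ⟨m, σ, rfl⟩ := hψ
  rw [← char_prod]
  exact isCharacter_of_rep _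

theorem isCharacter_mul {χ ψ : G → ℂ} (hχ : Cfsg.IsCharacter G χ) (hψ : Cfsg.IsCharacter G ψ) :
    Cfsg.IsCharacter G (χ * ψ) := by
  obtain ⟨n, ρ, rfl⟩ := hχ
  obtain ⟨m, σ, rfl⟩ := hψ
  rw [← Representation.char_tensor]
  exact isCharacter_of_rep _

theorem isCharacter_nsmul {χ : G → ℂ} (hχ : Cfsg.IsCharacter G χ) :
    ∀ k : ℕ, Cfsg.IsCharacter G (k • χ)
  | 0 => by rw [zero_smul]; exact isCharacter_zero
  | k + 1 => by rw [succ_nsmul]; exact isCharacter_add (isCharacter_nsmul hχ k) hχ

theorem isCharacter_sum {ι : Type*} (s : Finset ι) {f : ι → G → ℂ}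
    (h : ∀ i ∈ s, Cfsg.IsCharacter G (f i)) : Cfsg.IsCharacter G (∑ i ∈ s, f i) :=
  Finset.sum_induction f (Cfsg.IsCharacter G) (fun _ _ => isCharacter_add) isCharacter_zero h

/-- The one-dimensional representation attached to a linear character. -/
def linRep (lam : G →* ℂˣ) : Representation ℂ G ℂ where
  toFun g := (lam g : ℂ) • LinearMap.id
  map_one' := by ext; simp
  map_mul' a b := by ext; simp [mul_comm]

theorem char_linRep (lam : G →* ℂˣ) : (linRep lam).character = fun g => (lam g : ℂ) := by
  ext g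
  simp [Representation.character, linRep]

theorem isIrreducible_of_finrank_eq_one (ρ : Representation ℂ G V) (h : finrank ℂ V = 1) :
    ρ.IsIrreducible where
  exists_pair_ne := ⟨⊥, ⊤, fun hbt => by
    have : (⊥ : Submodule ℂ V) = ⊤ := congr_arg Subrepresentation.toSubmodule hbt
    have h2 := finrank_top ℂ V
    rw [← this, finrank_bot, h] at h2
    exact zero_ne_one h2⟩
  eq_bot_or_eq_top p := by
    have hb : p.toSubmodule = ⊥ ∨ p.toSubmodule = ⊤ := by
      have h1 := Submodule.finrank_le p.toSubmodule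
      rw [h] at h1
      rcases Nat.le_one_iff_eq_zero_or_eq_one.mp h1 with h2 | h2
      · exact Or.inl (Submodule.finrank_eq_zero.mp h2)
      · exact Or.inr (Submodule.eq_top_of_finrank_eq (h2.trans h.symm))
    rcases hb with hp | hp
    · exact Or.inl (Subrepresentation.toSubmodule_injective hp)
    · exact Or.inr (Subrepresentation.toSubmodule_injective hp)

theorem isIrrCharacter_linear (lam : G →* ℂˣ) :
    Cfsg.IsIrrCharacter G (fun g => (lam g : ℂ)) := by
  have := isIrreducible_of_finrank_eq_one (linRep lam) (finrank_self ℂ)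
  rw [← char_linRep]
  exact isIrrCharacter_of_rep _

theorem isIrrCharacter_one : Cfsg.IsIrrCharacter G (fun _ => (1 : ℂ)) := by
  simpa using isIrrCharacter_linear (1 : G →* ℂˣ)

theorem isCharacter_one : Cfsg.IsCharacter G (fun _ => (1 : ℂ)) :=
  irr_isCharacter isIrrCharacter_one

/-- Pullback of a character along a homomorphism. -/
theorem isCharacter_comp {H : Type*} [Group H] {χ : G → ℂ} (hχ : Cfsg.IsCharacter G χ)
    (f : H →* G) : Cfsg.IsCharacter H (χ ∘ f) := by
  obtain ⟨n, ρ, rfl⟩ := hχ
  exact ⟨n, ρ.comp f, rfl⟩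

theorem isCharacter_restrict {χ : G → ℂ} (hχ : Cfsg.IsCharacter G χ) (H : Subgroup G) :
    Cfsg.IsCharacter H (fun h : H => χ h) :=
  isCharacter_comp hχ H.subtype

omit [FiniteDimensional ℂ V] in
theorem isIrreducible_comp_surjective {H : Type*} [Group H] (ρ : Representation ℂ G V)
    [hρ : ρ.IsIrreducible] (f : H →* G) (hf : Function.Surjective f) :
    Representation.IsIrreducible (ρ.comp f : Representation ℂ H V) := by
  let e : Subrepresentation ρ ≃o Subrepresentation (ρ.comp f : Representation ℂ H V) :=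
    { toFun := fun p => ⟨p.toSubmodule, fun h => p.apply_mem_toSubmodule (f h)⟩
      invFun := fun q => ⟨q.toSubmodule, fun g => by
        obtain ⟨h, rfl⟩ := hf g; exact q.apply_mem_toSubmodule h⟩
      left_inv := fun p => rfl
      right_inv := fun q => rfl
      map_rel_iff' := Iff.rfl }
  exact (OrderIso.isSimpleOrder_iff e).mp hρ

theorem isIrrCharacter_comp_surjective {H : Type*} [Group H] {χ : G → ℂ}
    (hχ : Cfsg.IsIrrCharacter G χ) (f : H →* G) (hf : Function.Surjective f) :
    Cfsg.IsIrrCharacter H (χ ∘ f) := by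
  obtain ⟨n, ρ, hρ, rfl⟩ := hχ
  exact ⟨n, ρ.comp f, isIrreducible_comp_surjective ρ f hf, rfl⟩

theorem char_inv {χ : G → ℂ} [Finite G] (hχ : Cfsg.IsCharacter G χ) (g : G) :
    χ g⁻¹ = conj (χ g) := by
  obtain ⟨n, ρ, rfl⟩ := hχ
  exact char_inv_eq_conj ρ g

theorem isCharacter_conj {χ : G → ℂ} [Finite G] (hχ : Cfsg.IsCharacter G χ) :
    Cfsg.IsCharacter G (fun g => conj (χ g)) := by
  obtain ⟨n, ρ, rfl⟩ := hχ
  have : (fun g => conj (ρ.character g)) = ρ.dual.character := by
    ext g; rw [Representation.char_dual, char_inv_eq_conj]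
  rw [this]
  exact isCharacter_of_rep _

theorem char_apply_one_eq_nat {χ : G → ℂ} (hχ : Cfsg.IsCharacter G χ) : ∃ d : ℕ, χ 1 = d := by
  obtain ⟨n, ρ, rfl⟩ := hχ
  exact ⟨_, ρ.char_one⟩

theorem irr_apply_one_pos {χ : G → ℂ} (hχ : Cfsg.IsIrrCharacter G χ) :
    ∃ d : ℕ, 0 < d ∧ χ 1 = d := by
  obtain ⟨n, ρ, hρ, rfl⟩ := hχ
  have := nontrivial_of_isIrreducible ρ
  exact ⟨_, finrank_pos, ρ.char_one⟩

theorem irr_apply_one_ne_zero {χ : G → ℂ} (hχ : Cfsg.IsIrrCharacter G χ) : χ 1 ≠ 0 := by
  obtain ⟨d, hd, h⟩ := irr_apply_one_pos hχ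
  rw [h]; exact_mod_cast hd.ne'

end Class

section Decomp

/-- Complementary subrepresentations give a product decomposition. -/
noncomputable def prodEquivOfCompl {V : Type v} [AddCommGroup V] [Module ℂ V]
    {ρ : Representation ℂ G V} (p q : Subrepresentation ρ) (h : IsCompl p q) :
    (p.toRepresentation.prod q.toRepresentation).Equiv ρ :=
  Representation.Equiv.mk
    (Submodule.prodEquivOfIsCompl p.toSubmodule q.toSubmodule
      ⟨disjoint_iff.mpr (congr_arg Subrepresentation.toSubmodule h.inf_eq_bot),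
        codisjoint_iff.mpr (congr_arg Subrepresentation.toSubmodule h.sup_eq_top)⟩)
    (fun g => LinearMap.ext fun x => by
      simp only [LinearMap.comp_apply, LinearEquiv.coe_coe, Submodule.coe_prodEquivOfIsCompl']
      change _ = ρ g (_ + _)
      rw [map_add]
      rfl)

theorem char_compl {V : Type v} [AddCommGroup V] [Module ℂ V] [FiniteDimensional ℂ V]
    {ρ : Representation ℂ G V} (p q : Subrepresentation ρ) (h : IsCompl p q) :
    ρ.character = p.toRepresentation.character + q.toRepresentation.character := by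
  rw [← char_prod, Representation.char_iso (prodEquivOfCompl p q h)]

theorem finrank_compl {V : Type v} [AddCommGroup V] [Module ℂ V] [FiniteDimensional ℂ V]
    {ρ : Representation ℂ G V} (p q : Subrepresentation ρ) (h : IsCompl p q) :
    finrank ℂ p.toSubmodule + finrank ℂ q.toSubmodule = finrank ℂ V := by
  rw [← Module.finrank_prod]
  exact (prodEquivOfCompl p q h).toLinearEquiv.finrank_eq

theorem finrank_pos_of_ne_bot {V : Type v} [AddCommGroup V] [Module ℂ V] [FiniteDimensional ℂ V]
    {ρ : Representation ℂ G V} (p : Subrepresentation ρ) (h : p ≠ ⊥) :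
    0 < finrank ℂ p.toSubmodule := by
  rw [Nat.pos_iff_ne_zero]
  intro h0
  exact h (Subrepresentation.toSubmodule_injective (Submodule.finrank_eq_zero.mp h0))

variable [Finite G]

/-- Every representation's character is a sum of irreducible characters. -/
theorem exists_multiset_irr {V : Type v} [AddCommGroup V] [Module ℂ V] [FiniteDimensional ℂ V]
    (ρ : Representation ℂ G V) :
    ∃ l : Multiset (G → ℂ), (∀ χ ∈ l, Cfsg.IsIrrCharacter G χ) ∧ ρ.character = l.sum := by
  suffices ∀ (n : ℕ) {V : Type v} [AddCommGroup V] [Module ℂ V] [FiniteDimensional ℂ V]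
      (ρ : Representation ℂ G V), finrank ℂ V = n →
      ∃ l : Multiset (G → ℂ), (∀ χ ∈ l, Cfsg.IsIrrCharacter G χ) ∧ ρ.character = l.sum from
    this _ ρ rfl
  intro n
  induction n using Nat.strong_induction_on with
  | _ n ih =>
    intro V _ _ _ ρ hn
    rcases Nat.eq_zero_or_pos n with rfl | hpos
    · refine ⟨0, by simp, ?_⟩
      have : Subsingleton V := Module.finrank_zero_iff.mp hn
      ext g
      simp [Representation.character, Subsingleton.elim (ρ g) 0]
    by_cases hirr : ρ.IsIrreducible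
    · exact ⟨{ρ.character}, by simpa using isIrrCharacter_of_rep ρ, by simp⟩
    have : Nontrivial (Subrepresentation ρ) := by
      refine ⟨⊥, ⊤, fun hbt => ?_⟩
      have h2 := finrank_top ℂ V
      rw [← show (⊥ : Submodule ℂ V) = ⊤ from congr_arg Subrepresentation.toSubmodule hbt,
        finrank_bot, hn] at h2
      omega
    obtain ⟨p, hp⟩ : ∃ p : Subrepresentation ρ, p ≠ ⊥ ∧ p ≠ ⊤ := by
      by_contra hcon
      push Not at hcon
      exact hirr ⟨fun p => or_iff_not_imp_left.mpr (hcon p)⟩
    obtain ⟨q, hq⟩ := exists_isCompl p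
    have hqb : q ≠ ⊥ := fun h => hp.2 (by simpa [h] using hq.sup_eq_top)
    have hsum := finrank_compl p q hq
    have hp0 := finrank_pos_of_ne_bot p hp.1
    have hq0 := finrank_pos_of_ne_bot q hqb
    obtain ⟨l₁, hl₁, e₁⟩ := ih _ (by omega) p.toRepresentation rfl
    obtain ⟨l₂, hl₂, e₂⟩ := ih _ (by omega) q.toRepresentation rfl
    refine ⟨l₁ + l₂, fun χ hχ => (Multiset.mem_add.mp hχ).elim (hl₁ χ) (hl₂ χ), ?_⟩
    rw [char_compl p q hq, e₁, e₂, Multiset.sum_add]

theorem isCharacter_exists_multiset {χ : G → ℂ} (hχ : Cfsg.IsCharacter G χ) :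
    ∃ l : Multiset (G → ℂ), (∀ ψ ∈ l, Cfsg.IsIrrCharacter G ψ) ∧ χ = l.sum := by
  obtain ⟨n, ρ, rfl⟩ := hχ
  exact exists_multiset_irr ρ

omit [Finite G] in
theorem isCharacter_multiset_sum {l : Multiset (G → ℂ)}
    (h : ∀ ψ ∈ l, Cfsg.IsCharacter G ψ) : Cfsg.IsCharacter G l.sum := by
  induction l using Multiset.induction with
  | empty => simpa using isCharacter_zero
  | cons a s ih =>
    rw [Multiset.sum_cons]
    exact isCharacter_add (h a (by simp)) (ih fun ψ hψ => h ψ (by simp [hψ]))

/-- An endomorphism of a representation killing every irreducible subrepresentation is zero. -/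
theorem eq_zero_of_forall_irreducible {V : Type v} [AddCommGroup V] [Module ℂ V]
    [FiniteDimensional ℂ V] (ρ : Representation ℂ G V) (T : V →ₗ[ℂ] V)
    (h : ∀ p : Subrepresentation ρ, p.toRepresentation.IsIrreducible →
      ∀ x ∈ p.toSubmodule, T x = 0) : T = 0 := by
  suffices ∀ (n : ℕ) (p : Subrepresentation ρ), finrank ℂ p.toSubmodule = n →
      ∀ x ∈ p.toSubmodule, T x = 0 from
    LinearMap.ext fun x => this _ ⊤ rfl x trivial
  intro n
  induction n using Nat.strong_induction_on with
  | _ n ih =>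
    intro p hn x hx
    by_cases hirr : p.toRepresentation.IsIrreducible
    · exact h p hirr x hx
    by_cases hbot : p = ⊥
    · subst hbot
      rw [(Submodule.mem_bot ℂ).mp hx, map_zero]
    have : Nontrivial (Subrepresentation p.toRepresentation) := by
      refine ⟨⊥, ⊤, fun hbt => ?_⟩
      have h2 := finrank_top ℂ p.toSubmodule
      rw [← show (⊥ : Submodule ℂ p.toSubmodule) = ⊤ from
        congr_arg Subrepresentation.toSubmodule hbt, finrank_bot] at h2
      have := finrank_pos_of_ne_bot p hbot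
      omega
    obtain ⟨a, ha⟩ : ∃ a : Subrepresentation p.toRepresentation, a ≠ ⊥ ∧ a ≠ ⊤ := by
      by_contra hcon
      push Not at hcon
      exact hirr ⟨fun a => or_iff_not_imp_left.mpr (hcon a)⟩
    obtain ⟨b, hb⟩ := exists_isCompl a
    have hbb : b ≠ ⊥ := fun h => ha.2 (by simpa [h] using hb.sup_eq_top)
    let lift : Subrepresentation p.toRepresentation → Subrepresentation ρ := fun c =>
      ⟨c.toSubmodule.map p.toSubmodule.subtype, fun g v hv => by
        obtain ⟨w, hw, rfl⟩ := Submodule.mem_map.mp hv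
        exact Submodule.mem_map.mpr ⟨_, c.apply_mem_toSubmodule g hw, rfl⟩⟩
    have hsum := finrank_compl a b hb
    have ha0 := finrank_pos_of_ne_bot a ha.1
    have hb0 := finrank_pos_of_ne_bot b hbb
    have hfr : ∀ c, finrank ℂ (lift c).toSubmodule = finrank ℂ c.toSubmodule := fun c =>
      (Submodule.equivMapOfInjective _ p.toSubmodule.injective_subtype c.toSubmodule).finrank_eq.symm
    have hx' : (⟨x, hx⟩ : p.toSubmodule) ∈ (a ⊔ b).toSubmodule := by rw [hb.sup_eq_top]; trivial
    obtain ⟨y, hy, z, hz, hyz⟩ := Submodule.mem_sup.mp hx'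
    have : x = (y : V) + (z : V) := (congr_arg Subtype.val hyz).symm
    have h1 : T (y : V) = 0 :=
      ih _ (by omega) (lift a) (hfr a) _ (Submodule.mem_map.mpr ⟨y, hy, rfl⟩)
    have h2 : T (z : V) = 0 :=
      ih _ (by omega) (lift b) (hfr b) _ (Submodule.mem_map.mpr ⟨z, hz, rfl⟩)
    rw [this, map_add, h1, h2, add_zero]

end Decomp

end CfsgLib.Char
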