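import Cfsg.Agent.Lib.Char.Induce

/-!
# Trivial intersection sets, coherent families
-/

namespace CfsgLib.Char

open scoped ComplexConjugate

universe u

variable {G : Type u} [Group G] [Fintype G]

theorem indFun_ti_apply (T : Set G)
    (hTI : ∀ g : G, g ∉ Subgroup.normalizer T → ∀ t ∈ T, g * t * g⁻¹ ∈ T → t = 1)
    (ψ : Subgroup.normalizer T → ℂ) (hψ : Cfsg.IsClassFunction (Subgroup.normalizer T) ψ)
    (hψT : ∀ x : Subgroup.normalizer T, (x : G) ∉ T → ψ x = 0) (t : Subgroup.normalizer T)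
    (htT : (t : G) ∈ T) (ht1 : t ≠ 1) :
    Cfsg.indFun (Subgroup.normalizer T) ψ t = ψ t := by
  classical
  have hterm : ∀ x : G, Cfsg.extendByZero (Subgroup.normalizer T) ψ (x⁻¹ * (t : G) * x) =
      if x ∈ Subgroup.normalizer T then ψ t else 0 := by
    intro x
    split_ifs with hx
    · rw [show x⁻¹ * (t : G) * x =
        ((⟨x, hx⟩⁻¹ * t * ⟨x, hx⟩ : Subgroup.normalizer T) : G) from rfl, extendByZero_coe]
      have h := hψ t (⟨x, hx⟩ : Subgroup.normalizer T)⁻¹
      rw [inv_inv] at h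
      exact h
    · by_cases hm : x⁻¹ * (t : G) * x ∈ Subgroup.normalizer T
      · rw [extendByZero_of_mem _ hm]
        refine hψT _ fun hmT => ht1 (Subtype.ext ?_)
        refine hTI x⁻¹ (fun h => hx (by simpa using (Subgroup.normalizer T).inv_mem h)) t htT ?_
        simpa using hmT
      · exact extendByZero_of_not_mem _ hm
  rw [indFun_def, Finset.sum_congr rfl fun x _ => hterm x, ← Finset.sum_filter, Finset.sum_const,
    nsmul_eq_mul, ← Fintype.card_subtype, ← Nat.card_eq_fintype_card,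
    inv_mul_cancel_left₀ (by exact_mod_cast Nat.card_pos.ne')]

theorem classInner_indFun_ti (T : Set G)
    (hTI : ∀ g : G, g ∉ Subgroup.normalizer T → ∀ t ∈ T, g * t * g⁻¹ ∈ T → t = 1)
    [Fintype (Subgroup.normalizer T)] (ψ θ : Subgroup.normalizer T → ℂ)
    (hθ : Cfsg.IsClassFunction (Subgroup.normalizer T) θ)
    (hψT : ∀ x : Subgroup.normalizer T, (x : G) ∉ T → ψ x = 0)
    (hθT : ∀ x : Subgroup.normalizer T, (x : G) ∉ T → θ x = 0) (hψ1 : ψ 1 = 0) :
    Cfsg.classInner (Cfsg.indFun (Subgroup.normalizer T) ψ)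
      (Cfsg.indFun (Subgroup.normalizer T) θ) = Cfsg.classInner ψ θ := by
  rw [frobenius_reciprocity _ ψ _ (indFun_isClassFunction _ θ), classInner_def, classInner_def]
  congr 1
  refine Finset.sum_congr rfl fun x _ => ?_
  by_cases hx : (x : G) ∈ T
  · by_cases hx1 : x = 1
    · subst hx1; rw [hψ1, zero_mul, zero_mul]
    · rw [indFun_ti_apply T hTI θ hθ hθT x hx hx1]
  · rw [hψT x hx, zero_mul, zero_mul]

open scoped Classical in
/-- Generalized characters of degree zero and norm two are differences of irreducibles. -/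
theorem exists_irr_sub {τ : G → ℂ} (hgen : Cfsg.IsGeneralizedCharacter G τ) (h1 : τ 1 = 0)
    (h2 : Cfsg.classInner τ τ = 2) :
    ∃ a b : Cfsg.IrrCharacter G, a ≠ b ∧ τ = (a : G → ℂ) - (b : G → ℂ) := by
  have := Fintype.ofFinite (Cfsg.IrrCharacter G)
  have hcl := isGeneralized_isClassFunction hgen
  choose k hk using fun χ : Cfsg.IrrCharacter G =>
    classInner_isGeneralized_int hgen (isGeneralized_of_isCharacter (irr_isCharacter χ.2))
  choose d hd hd1 using fun χ : Cfsg.IrrCharacter G => irr_apply_one_pos χ.2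
  have hsq : ∑ χ, k χ * k χ = 2 := by
    rw [classInner_eq_sum_mul hcl τ] at h2
    simp only [hk, map_intCast] at h2
    exact_mod_cast h2
  have hdeg : ∑ χ, k χ * (d χ : ℤ) = 0 := by
    have h3 := classFunction_apply_eq_sum hcl (1 : G)
    rw [h1] at h3
    simp only [hk, hd1] at h3
    exact_mod_cast h3.symm
  have hexp : τ = ∑ χ : Cfsg.IrrCharacter G, (k χ : ℂ) • (χ : G → ℂ) := by
    conv_lhs => rw [classFunction_eq_sum hcl]
    simp only [hk]
  set s := (Finset.univ : Finset (Cfsg.IrrCharacter G)).filter fun χ => k χ ≠ 0 with hs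
  have hsum' : ∀ f : Cfsg.IrrCharacter G → ℤ, ∑ χ ∈ s, k χ * f χ = ∑ χ, k χ * f χ := fun f =>
    Finset.sum_filter_of_ne fun χ _ h h0 => h (by rw [h0, zero_mul])
  have hone : ∀ χ ∈ s, 1 ≤ k χ * k χ := fun χ hχ => by
    have := mul_self_pos.mpr (Finset.mem_filter.mp hχ).2
    omega
  rw [← hsum'] at hsq
  have hcard : (s.card : ℤ) ≤ 2 := by
    have h := Finset.sum_le_sum hone
    rw [Finset.sum_const, hsq] at h
    simpa using h
  have hne : s.Nonempty := by
    rw [Finset.nonempty_iff_ne_empty]; intro h0; rw [h0] at hsq; simp at hsq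
  have hcard2 : s.card = 2 := by
    by_contra hc
    have h1c : s.card = 1 := by have := hne.card_pos; omega
    obtain ⟨a, ha⟩ := Finset.card_eq_one.mp h1c
    rw [← hsum', ha, Finset.sum_singleton] at hdeg
    have : k a ≠ 0 := (Finset.mem_filter.mp (ha ▸ Finset.mem_singleton_self a : a ∈ s)).2
    have hda : (d a : ℤ) ≠ 0 := by have := hd a; omega
    exact mul_ne_zero this hda hdeg
  obtain ⟨a, b, hab, hsab⟩ := Finset.card_eq_two.mp hcard2
  rw [hsab, Finset.sum_pair hab] at hsq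
  have hka := hone a (by simp [hsab])
  have hkb := hone b (by simp [hsab])
  rw [← hsum', hsab, Finset.sum_pair hab] at hdeg
  have ha' := Int.eq_one_or_neg_one_of_mul_eq_one (show k a * k a = 1 by omega)
  have hb' := Int.eq_one_or_neg_one_of_mul_eq_one (show k b * k b = 1 by omega)
  have hfs : ∑ χ ∈ s, (k χ : ℂ) • (χ : G → ℂ) =
      ∑ χ : Cfsg.IrrCharacter G, (k χ : ℂ) • (χ : G → ℂ) :=
    Finset.sum_filter_of_ne (s := Finset.univ) (p := fun χ : Cfsg.IrrCharacter G => k χ ≠ 0)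
      (f := fun χ : Cfsg.IrrCharacter G => (k χ : ℂ) • (χ : G → ℂ))
      fun χ _ h h0 => h (by simp [h0])
  have hτ : τ = (k a : ℂ) • (a : G → ℂ) + (k b : ℂ) • (b : G → ℂ) := by
    rw [hexp, ← hfs, hsab, Finset.sum_pair hab]
  have := hd a
  have := hd b
  rcases ha' with ha' | ha' <;> rcases hb' with hb' | hb' <;>
    simp only [ha', hb', one_mul, neg_mul] at hdeg
  · omega
  · exact ⟨a, b, hab, by rw [hτ, ha', hb']; simp [sub_eq_add_neg]⟩
  · exact ⟨b, a, hab.symm, by rw [hτ, ha', hb']; simp [sub_eq_add_neg, add_comm]⟩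
  · omega

theorem coherent_family (n : ℕ) (i₀ : Fin n) (τ : Fin n → (G → ℂ)) (h0 : τ i₀ = 0)
    (hgen : ∀ i, Cfsg.IsGeneralizedCharacter G (τ i)) (hone : ∀ i, τ i 1 = 0)
    (hgram : ∀ i j, i ≠ i₀ → j ≠ i₀ →
      Cfsg.classInner (τ i) (τ j) = if i = j then 2 else 1) :
    ∃ ε : ℂ, (ε = 1 ∨ ε = -1) ∧ ∃ μ : Fin n → (G → ℂ), (∀ i, Cfsg.IsIrrCharacter G (μ i)) ∧
      Function.Injective μ ∧ ∀ i, τ i = ε • (μ i - μ i₀) := by
  classical
  choose a b hab hτ using fun i : {i : Fin n // i ≠ i₀} =>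
    exists_irr_sub (hgen i) (hone i) ((hgram i i i.2 i.2).trans (if_pos rfl))
  have hexcl : ∀ i j : {i : Fin n // i ≠ i₀}, i ≠ j →
      (a i = a j ∧ b i ≠ b j) ∨ (a i ≠ a j ∧ b i = b j) := by
    intro i j hij
    have h := hgram i j i.2 j.2
    rw [if_neg fun h => hij (Subtype.ext h), hτ i, hτ j] at h
    simp only [classInner_sub_left, classInner_sub_right, irr_classInner (a _).2 (a _).2,
      irr_classInner (a _).2 (b _).2, irr_classInner (b _).2 (a _).2,
      irr_classInner (b _).2 (b _).2, ← Subtype.ext_iff] at h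
    by_cases h1 : a i = a j
    · left
      refine ⟨h1, fun h2 => ?_⟩
      have h3 : a i ≠ b j := fun e => hab j (h1.symm.trans e)
      have h4 : b i ≠ a j := fun e => hab i (h1.trans e.symm)
      simp [h1, h2, h3, h4, hab j, (hab j).symm] at h
    · right
      refine ⟨h1, ?_⟩
      by_contra h2
      simp only [h1, h2, if_false] at h
      split_ifs at h <;> norm_num at h
  -- the common side
  have hside : (∀ i j : {i : Fin n // i ≠ i₀}, i ≠ j → a i = a j ∧ b i ≠ b j) ∨
      (∀ i j : {i : Fin n // i ≠ i₀}, i ≠ j → a i ≠ a j ∧ b i = b j) := by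
    by_contra hc
    push Not at hc
    obtain ⟨⟨i, j, hij, h1⟩, k, l, hkl, h2⟩ := hc
    have e1 : a i ≠ a j ∧ b i = b j := (hexcl i j hij).resolve_left fun h => h.2 (h1 h.1)
    have e2 : a k = a l ∧ b k ≠ b l := (hexcl k l hkl).resolve_right fun h => h2 h.1 h.2
    have step : ∀ m, m ≠ i → a m ≠ a i ∧ b m = b i := by
      intro m hm
      rcases hexcl m i hm with h | h
      · exfalso
        by_cases hmj : m = j
        · subst hmj; exact e1.1 h.1.symm
        rcases hexcl m j hmj with h' | h'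
        · exact e1.1 (h.1.symm.trans h'.1)
        · exact h.2 (h'.2.trans e1.2.symm)
      · exact h
    have hb : ∀ m, b m = b i := fun m => by
      rcases eq_or_ne m i with rfl | hm
      · rfl
      · exact (step m hm).2
    exact e2.2 ((hb k).trans (hb l).symm)
  have mk : ∀ (c : Cfsg.IrrCharacter G) (f : {i : Fin n // i ≠ i₀} → Cfsg.IrrCharacter G),
      (∀ i, f i ≠ c) → Function.Injective f → ∀ ε : ℂ,
      (∀ i : {i : Fin n // i ≠ i₀}, τ i = ε • ((f i : G → ℂ) - (c : G → ℂ))) →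
      ∃ μ : Fin n → (G → ℂ), (∀ i, Cfsg.IsIrrCharacter G (μ i)) ∧ Function.Injective μ ∧
        ∀ i, τ i = ε • (μ i - μ i₀) := by
    intro c f hfc hf ε he
    let ν : Fin n → Cfsg.IrrCharacter G := fun i => if h : i = i₀ then c else f ⟨i, h⟩
    have hν0 : ν i₀ = c := dif_pos rfl
    refine ⟨fun i => (ν i : G → ℂ), fun i => (ν i).2, Subtype.val_injective.comp ?_, fun i => ?_⟩
    · intro i j hij
      simp only [ν] at hij
      split_ifs at hij with h h' h'
      · exact h.trans h'.symm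
      · exact absurd hij.symm (hfc _)
      · exact absurd hij (hfc _)
      · exact congr_arg Subtype.val (hf hij)
    · by_cases h : i = i₀
      · subst h; simp [h0]
      · simp only [hν0]
        rw [show ν i = f ⟨i, h⟩ from dif_neg h]
        exact he ⟨i, h⟩
  by_cases hn : Nonempty {i : Fin n // i ≠ i₀}
  swap
  · refine ⟨1, Or.inl rfl, mk ⟨_, isIrrCharacter_one⟩ (fun i => absurd ⟨i⟩ hn)
      (fun i => absurd ⟨i⟩ hn) (fun i => absurd ⟨i⟩ hn) 1 fun i => absurd ⟨i⟩ hn⟩
  obtain ⟨i₁⟩ := hn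
  rcases hside with hA | hB
  · refine ⟨-1, Or.inr rfl, mk (a i₁) b (fun i => ?_) (fun i j h => ?_) (-1) fun i => ?_⟩
    · rcases eq_or_ne i i₁ with rfl | hi
      · exact (hab _).symm
      · rw [← (hA i i₁ hi).1]; exact (hab _).symm
    · by_contra hij; exact (hA i j hij).2 h
    · rcases eq_or_ne i i₁ with rfl | hi
      · rw [hτ]; simp
      · rw [hτ, (hA i i₁ hi).1]; simp
  · refine ⟨1, Or.inl rfl, mk (b i₁) a (fun i => ?_) (fun i j h => ?_) 1 fun i => ?_⟩
    · rcases eq_or_ne i i₁ with rfl | hi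
      · exact hab _
      · rw [← (hB i i₁ hi).2]; exact hab _
    · by_contra hij; exact (hB i j hij).1 h
    · rcases eq_or_ne i i₁ with rfl | hi
      · rw [hτ]; simp
      · rw [hτ, (hB i i₁ hi).2]; simp

theorem exceptional_characters (S : Set G)
    (hTI : ∀ g : G, g ∉ Subgroup.normalizer S → ∀ s ∈ S, g * s * g⁻¹ ∈ S → s = 1)
    (n : ℕ) (hn : 2 ≤ n) (χ : Fin n → (Subgroup.normalizer S → ℂ))
    (hirr : ∀ i, Cfsg.IsIrrCharacter (Subgroup.normalizer S) (χ i))
    (hinj : Function.Injective χ)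
    (hvan : ∀ i, ∀ x : Subgroup.normalizer S, (x : G) ∉ S → χ i x = 0)
    (hdeg : ∀ i j, χ i 1 = χ j 1) :
    ∃ ε : ℂ, (ε = 1 ∨ ε = -1) ∧ ∃ θ : Fin n → (G → ℂ), (∀ i, Cfsg.IsIrrCharacter G (θ i)) ∧
      Function.Injective θ ∧ ∀ i j, Cfsg.indFun (Subgroup.normalizer S) (χ i) -
        Cfsg.indFun (Subgroup.normalizer S) (χ j) = ε • (θ i - θ j) := by
  classical
  have := Fintype.ofFinite (Subgroup.normalizer S)
  let i₀ : Fin n := ⟨0, by omega⟩
  have hgen : ∀ i, Cfsg.IsGeneralizedCharacter (Subgroup.normalizer S) (χ i - χ i₀) := fun i =>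
    isGeneralized_sub (isGeneralized_of_isCharacter (irr_isCharacter (hirr i)))
      (isGeneralized_of_isCharacter (irr_isCharacter (hirr i₀)))
  have hcl : ∀ i, Cfsg.IsClassFunction (Subgroup.normalizer S) (χ i - χ i₀) := fun i =>
    isGeneralized_isClassFunction (hgen i)
  have hv : ∀ i, ∀ x : Subgroup.normalizer S, (x : G) ∉ S → (χ i - χ i₀) x = 0 := fun i x hx => by
    simp [hvan i x hx, hvan i₀ x hx]
  have h1 : ∀ i, (χ i - χ i₀) 1 = 0 := fun i => by simp [hdeg i i₀]
  obtain ⟨ε, hε, θ, hθ, hθinj, he⟩ := coherent_family n i₀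
    (fun i => Cfsg.indFun (Subgroup.normalizer S) (χ i - χ i₀))
    (by simp [indFun_zero]) (fun i => isGeneralized_indFun _ (hgen i))
    (fun i => by simp [indFun_apply_one, hdeg i i₀])
    (fun i j hi hj => by
      rw [classInner_indFun_ti S hTI _ _ (hcl j) (hv i) (hv j) (h1 i)]
      simp only [classInner_sub_left, classInner_sub_right, irr_classInner (hirr _) (hirr _),
        hinj.eq_iff, hi, Ne.symm hj, if_true, if_false]
      split_ifs <;> norm_num)
  refine ⟨ε, hε, θ, hθ, hθinj, fun i j => ?_⟩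
  have hi := he i
  have hj := he j
  simp only [indFun_sub] at hi hj
  rw [← sub_sub_sub_cancel_right _ _ (Cfsg.indFun (Subgroup.normalizer S) (χ i₀)), hi, hj,
    ← smul_sub, sub_sub_sub_cancel_right]

end CfsgLib.Char
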