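import Mathlib.FieldTheory.IsAlgClosed.Basic
import Mathlib.FieldTheory.Minpoly.IsIntegrallyClosed
import Mathlib.Analysis.Complex.Polynomial.Basic
import Mathlib.FieldTheory.IntermediateField.Algebraic
import Mathlib.Analysis.Normed.Field.Basic
import Mathlib.RingTheory.Algebraic.Integral
import Mathlib.RingTheory.Polynomial.RationalRoot
import Mathlib.Algebra.Algebra.Hom.Rat
import Mathlib.Tactic

/-!
# An algebraic integer that is an average of roots of unity
-/

namespace CfsgLib.Char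

open Polynomial

theorem algebraicInteger_conj_bound_zero {K : Type*} [Field K] [Algebra ℚ K]
    [Algebra.IsAlgebraic ℚ K] (x : K) (hx : IsIntegral ℤ x)
    (hb : ∀ ψ : K →ₐ[ℚ] ℂ, ‖ψ x‖ ≤ 1) (ψ₀ : K →ₐ[ℚ] ℂ) (hlt : ‖ψ₀ x‖ < 1) : x = 0 := by
  classical
  have hqx : IsIntegral ℚ x := hx.tower_top
  set f : ℂ[X] := (minpoly ℚ x).map (algebraMap ℚ ℂ) with hf
  have hmon : f.Monic := (minpoly.monic hqx).map _
  have hroots : ∀ β ∈ f.roots, ‖β‖ ≤ 1 := fun β hβ => by
    have : β ∈ (minpoly ℚ x).rootSet ℂ := by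
      rw [Polynomial.rootSet_def, Finset.mem_coe, Multiset.mem_toFinset]
      exact hβ
    rw [← Algebra.IsAlgebraic.range_eval_eq_rootSet_minpoly] at this
    obtain ⟨ψ, rfl⟩ := this
    exact hb ψ
  have h0 : ψ₀ x ∈ f.roots := by
    have : ψ₀ x ∈ (minpoly ℚ x).rootSet ℂ := by
      rw [← Algebra.IsAlgebraic.range_eval_eq_rootSet_minpoly]
      exact ⟨ψ₀, rfl⟩
    rwa [Polynomial.rootSet_def, Finset.mem_coe, Multiset.mem_toFinset] at this
  have hle : ∀ s : Multiset ℂ, (∀ β ∈ s, ‖β‖ ≤ 1) → ‖s.prod‖ ≤ 1 := fun s => by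
    induction s using Multiset.induction with
    | empty => simp
    | cons a s ih =>
      intro h
      rw [Multiset.prod_cons, norm_mul]
      exact mul_le_one₀ (h a (by simp)) (norm_nonneg _) (ih fun β hβ => h β (by simp [hβ]))
  have hprod : ‖f.roots.prod‖ < 1 := by
    obtain ⟨s, hs⟩ := Multiset.exists_cons_of_mem h0
    rw [hs, Multiset.prod_cons, norm_mul]
    refine lt_of_le_of_lt (mul_le_of_le_one_right (norm_nonneg _) ?_) hlt
    exact hle s fun β hβ => hroots β (by rw [hs]; exact Multiset.mem_cons_of_mem hβ)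
  have hcoeff : f.coeff 0 = (((minpoly ℤ x).coeff 0 : ℤ) : ℂ) := by
    rw [hf, coeff_map, minpoly.isIntegrallyClosed_eq_field_fractions' ℚ hx, coeff_map]
    simp
  have hnorm : ‖f.coeff 0‖ < 1 := by
    rw [(IsAlgClosed.splits f).coeff_zero_eq_prod_roots_of_monic hmon, norm_mul, norm_pow, norm_neg,
      norm_one, one_pow, one_mul]
    exact hprod
  rw [hcoeff, Complex.norm_intCast] at hnorm
  have hz : (minpoly ℤ x).coeff 0 = 0 := by
    have : |(minpoly ℤ x).coeff 0| < 1 := by exact_mod_cast hnorm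
    exact abs_eq_zero.mp (by have := abs_nonneg ((minpoly ℤ x).coeff 0); omega)
  refine (minpoly.coeff_zero_eq_zero hqx).mp ?_
  rw [minpoly.isIntegrallyClosed_eq_field_fractions' ℚ hx, coeff_map, hz, map_zero]

/-- If the average of some roots of unity is an algebraic integer then it is zero or has
absolute value one. -/
theorem sum_rootsOfUnity_eq_zero_or_norm {ι : Type*} [Fintype ι] (μ : ι → ℂ) {m : ℕ} (hm : 0 < m)
    (hμ : ∀ i, μ i ^ m = 1) (h : IsIntegral ℤ ((∑ i, μ i) / (Fintype.card ι : ℂ))) :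
    ∑ i, μ i = 0 ∨ ‖∑ i, μ i‖ = (Fintype.card ι : ℝ) := by
  have hn1 : ∀ {w : ℂ}, w ^ m = 1 → ‖w‖ = 1 :=
    fun {w} hw => Complex.norm_eq_one_of_pow_eq_one hw hm.ne'
  have hle : ∀ f : ι → ℂ, (∀ i, f i ^ m = 1) → ‖∑ i, f i‖ ≤ Fintype.card ι := fun f hf => by
    refine (norm_sum_le _ _).trans ?_
    simp [hn1 (hf _)]
  rcases (hle μ hμ).lt_or_eq with hlt | heq
  swap
  · exact Or.inr heq
  left
  have hn : (0 : ℝ) < Fintype.card ι := lt_of_le_of_lt (norm_nonneg _) hlt
  let K := algebraicClosure ℚ ℂ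
  have hKalg : Algebra.IsAlgebraic ℚ K := algebraicClosure.isAlgebraic ℚ ℂ
  have hmem : ∀ i, μ i ∈ K := fun i => by
    rw [mem_algebraicClosure_iff]
    have hint : IsIntegral ℚ (μ i) := IsIntegral.of_pow hm (by rw [hμ i]; exact isIntegral_one)
    exact hint.isAlgebraic
  let x : K := (∑ i, (⟨μ i, hmem i⟩ : K)) / (Fintype.card ι : K)
  have hx : algebraMap K ℂ x = (∑ i, μ i) / (Fintype.card ι : ℂ) := by
    simp only [x, map_div₀, map_sum, map_natCast]
    rfl
  have hxi : IsIntegral ℤ x := by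
    rw [← isIntegral_algebraMap_iff (A := K) (B := ℂ) (algebraMap K ℂ).injective, hx]
    exact h
  have hx0 : x = 0 := by
    refine algebraicInteger_conj_bound_zero x hxi (fun ψ => ?_) (algebraMap K ℂ).toRatAlgHom ?_
    · simp only [x, map_div₀, map_sum, map_natCast, norm_div, Complex.norm_natCast]
      rw [div_le_one hn]
      refine hle _ fun i => ?_
      rw [← map_pow, show ((⟨μ i, hmem i⟩ : K) ^ m) = 1 from Subtype.ext (hμ i), map_one]
    · change ‖algebraMap K ℂ x‖ < 1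
      rw [hx, norm_div, Complex.norm_natCast, div_lt_one hn]
      exact hlt
  have h2 := congr_arg (algebraMap K ℂ) hx0
  rw [hx, map_zero] at h2
  exact (div_eq_zero_iff.mp h2).resolve_right (by exact_mod_cast hn.ne')

end CfsgLib.Char
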