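import Cfsg.Agent.Lib.Char.Column
import Cfsg.Agent.Lib.Char.RootsAverage
import Mathlib.RingTheory.IntegralClosure.Algebra.Basic
import Mathlib.RingTheory.IntegralClosure.IsIntegralClosure.Basic
import Mathlib.RingTheory.Finiteness.Basic
import Mathlib.Algebra.MonoidAlgebra.Basic

/-!
# Algebraic integers in character theory: central characters, degree divides order
-/

namespace CfsgLib.Char

open Module
open scoped ComplexConjugate

universe u

variable {G : Type u} [Group G]

/-- If `f` takes algebraic integer values, the operator `∑ f g • ρ g⁻¹` is integral over the ring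
of algebraic integers; hence its eigenvalue on an irreducible representation is an algebraic
integer. -/
theorem classOp_scalar_isIntegral [Fintype G] {V : Type*} [AddCommGroup V] [Module ℂ V]
    [FiniteDimensional ℂ V] {f : G → ℂ} (hf : Cfsg.IsClassFunction G f)
    (hint : ∀ g, IsIntegral ℤ (f g)) (ρ : Representation ℂ G V) [ρ.IsIrreducible] :
    IsIntegral ℤ (((Nat.card G : ℂ) * Cfsg.classInner f ρ.character) / finrank ℂ V) := by
  classical
  have := nontrivial_of_isIrreducible ρ
  set R : Subalgebra ℤ ℂ := integralClosure ℤ ℂ with hR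
  set c := ((Nat.card G : ℂ) * Cfsg.classInner f ρ.character) / finrank ℂ V with hc
  let φ : MonoidAlgebra R G →ₐ[R] Module.End ℂ V := MonoidAlgebra.lift R (Module.End ℂ V) G ρ
  let S : MonoidAlgebra R G :=
    ∑ g : G, MonoidAlgebra.single g⁻¹ (⟨f g, hint g⟩ : R)
  have : Module.Finite R (MonoidAlgebra R G) :=
    Module.Finite.of_basis (MonoidAlgebra.basis G R)
  have h1 : φ S = algebraMap ℂ (Module.End ℂ V) c := by
    rw [map_sum, Algebra.algebraMap_eq_smul_one, Module.End.one_eq_id, ← classOp_eq_scalar hf ρ,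
      classOp]
    refine Finset.sum_congr rfl fun g _ => ?_
    simp only [φ, MonoidAlgebra.lift_single]
    rfl
  have h2 : IsIntegral R (φ S) := (Algebra.IsIntegral.isIntegral S).map φ
  rw [h1, isIntegral_algebraMap_iff (algebraMap ℂ (Module.End ℂ V)).injective] at h2
  exact isIntegral_trans c h2

theorem centralChar_isIntegral [Finite G] {V : Type*} [AddCommGroup V] [Module ℂ V]
    [FiniteDimensional ℂ V] (ρ : Representation ℂ G V) [ρ.IsIrreducible] (g : G) :
    IsIntegral ℤ (((Subgroup.centralizer ({g} : Set G)).index : ℂ) * ρ.character g /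
      (finrank ℂ V : ℂ)) := by
  classical
  have := Fintype.ofFinite G
  have h := classOp_scalar_isIntegral (classIndicator_isClassFunction (ConjClasses.mk g⁻¹))
    (fun x => by unfold classIndicator; split_ifs <;> [exact isIntegral_one; exact isIntegral_zero]) ρ
  convert h using 2
  rw [classInner_def, sum_classIndicator_mul _ _ (irr_isClassFunction (isIrrCharacter_of_rep ρ))
    g⁻¹ rfl, ← mul_assoc, mul_inv_cancel₀ natCard_ne_zero, one_mul, char_inv_eq_conj,
    Complex.conj_conj, natCard_carrier_eq_index]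
  congr 2
  congr 1
  ext x
  simp only [Subgroup.mem_centralizer_singleton_iff]
  exact (Commute.inv_right_iff (a := x) (b := g)).symm

/-- A rational algebraic integer is an integer. -/
theorem exists_int_of_isIntegral_rat {q : ℚ} (h : IsIntegral ℤ (q : ℂ)) : ∃ k : ℤ, q = k := by
  have h' : IsIntegral ℤ q := by
    rw [← isIntegral_algebraMap_iff (A := ℚ) (B := ℂ) (algebraMap ℚ ℂ).injective]
    rwa [eq_ratCast]
  obtain ⟨k, hk⟩ := IsIntegrallyClosed.isIntegral_iff.mp h'
  exact ⟨k, by simpa using hk.symm⟩

theorem dvd_of_isIntegral_div {a b : ℕ} (hb : 0 < b) (h : IsIntegral ℤ ((a : ℂ) / (b : ℂ))) :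
    b ∣ a := by
  obtain ⟨k, hk⟩ := exists_int_of_isIntegral_rat (q := (a : ℚ) / b) (by push_cast; exact h)
  rw [div_eq_iff (by exact_mod_cast hb.ne')] at hk
  have : (a : ℤ) = k * b := by exact_mod_cast hk
  exact Int.natCast_dvd_natCast.mp ⟨k, by rw [this, mul_comm]⟩

theorem degree_dvd_card [Finite G] {V : Type*} [AddCommGroup V] [Module ℂ V]
    [FiniteDimensional ℂ V] (ρ : Representation ℂ G V) [ρ.IsIrreducible] :
    finrank ℂ V ∣ Nat.card G := by
  have := Fintype.ofFinite G
  have := nontrivial_of_isIrreducible ρ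
  have h := classOp_scalar_isIntegral (irr_isClassFunction (isIrrCharacter_of_rep ρ))
    (fun g => char_isIntegral ρ g) ρ
  rw [irr_classInner_self (isIrrCharacter_of_rep ρ), mul_one] at h
  exact dvd_of_isIntegral_div finrank_pos h

theorem char_eq_zero_or_norm_of_coprime [Finite G] {V : Type*} [AddCommGroup V] [Module ℂ V]
    [FiniteDimensional ℂ V] (ρ : Representation ℂ G V) [ρ.IsIrreducible] (g : G)
    (hcop : Nat.Coprime (finrank ℂ V) (Subgroup.centralizer ({g} : Set G)).index) :
    ρ.character g = 0 ∨ ‖ρ.character g‖ = (finrank ℂ V : ℝ) := by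
  have := nontrivial_of_isIrreducible ρ
  obtain ⟨ι, hι, b, μ, -, h2, h3, -⟩ := exists_char_eigen ρ g
  have h5 := h3 1
  simp only [pow_one] at h5
  rw [h5, finrank_eq_card_basis b]
  refine sum_rootsOfUnity_eq_zero_or_norm μ (orderOf_pos g) h2 ?_
  rw [← h5, ← finrank_eq_card_basis b]
  obtain ⟨u, v, huv⟩ : IsCoprime (finrank ℂ V : ℤ)
      ((Subgroup.centralizer ({g} : Set G)).index : ℤ) :=
    Int.isCoprime_iff_nat_coprime.mpr (by simpa using hcop)
  have hd : (finrank ℂ V : ℂ) ≠ 0 := by exact_mod_cast finrank_pos.ne'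
  have e : ρ.character g / (finrank ℂ V : ℂ) = (u : ℂ) * ρ.character g + (v : ℂ) *
      (((Subgroup.centralizer ({g} : Set G)).index : ℂ) * ρ.character g / (finrank ℂ V : ℂ)) := by
    have huv' : (u : ℂ) * (finrank ℂ V : ℂ) +
        (v : ℂ) * ((Subgroup.centralizer ({g} : Set G)).index : ℂ) = 1 := by exact_mod_cast huv
    field_simp
    linear_combination (-ρ.character g) * huv'
  rw [e]
  exact ((isIntegral_algebraMap (x := u)).mul (char_isIntegral ρ g)).add
    ((isIntegral_algebraMap (x := v)).mul (centralChar_isIntegral ρ g))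

end CfsgLib.Char
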