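import Cfsg.Agent.Lib.Char.Orthogonality
import Mathlib.GroupTheory.GroupAction.Quotient
import Mathlib.LinearAlgebra.FiniteDimensional.Basic
import Mathlib.LinearAlgebra.Pi

/-!
# Number of irreducible characters, second orthogonality, regular character
-/

namespace CfsgLib.Char

open Module
open scoped ComplexConjugate

universe u

variable {G : Type u} [Group G]

/-- The indicator function of a conjugacy class, as a function on the group. -/
noncomputable def classIndicator (C : ConjClasses G) : G → ℂ :=
  open scoped Classical in fun x => if ConjClasses.mk x = C then 1 else 0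

theorem classIndicator_isClassFunction (C : ConjClasses G) :
    Cfsg.IsClassFunction G (classIndicator C) := by
  intro g h
  have : ConjClasses.mk (h * g * h⁻¹) = ConjClasses.mk g :=
    ConjClasses.mk_eq_mk_iff_isConj.mpr (isConj_iff.mpr ⟨h, rfl⟩).symm
  unfold classIndicator
  rw [this]

theorem irr_card_eq [Finite G] :
    Nat.card (Cfsg.IrrCharacter G) = Nat.card (ConjClasses G) := by
  classical
  have : Fintype G := Fintype.ofFinite G
  have := Fintype.ofFinite (Cfsg.IrrCharacter G)
  have : Finite (ConjClasses G) := Finite.of_surjective _ ConjClasses.mk_surjective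
  have := Fintype.ofFinite (ConjClasses G)
  let L : (ConjClasses G → ℂ) →ₗ[ℂ] (G → ℂ) := LinearMap.funLeft ℂ ℂ ConjClasses.mk
  have hLinj : Function.Injective L :=
    LinearMap.funLeft_injective_of_surjective ℂ ℂ _ ConjClasses.mk_surjective
  have hrange : LinearMap.range L =
      Submodule.span ℂ (Set.range fun χ : Cfsg.IrrCharacter G => (χ : G → ℂ)) := by
    apply le_antisymm
    · rintro f ⟨a, rfl⟩
      have hf : Cfsg.IsClassFunction G (L a) := fun g h => congr_arg a
        (ConjClasses.mk_eq_mk_iff_isConj.mpr (isConj_iff.mpr ⟨h, rfl⟩).symm)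
      rw [classFunction_eq_sum hf]
      exact Submodule.sum_mem _ fun χ _ =>
        Submodule.smul_mem _ _ (Submodule.subset_span ⟨χ, rfl⟩)
    · rw [Submodule.span_le]
      rintro f ⟨χ, rfl⟩
      refine ⟨fun C => Quotient.liftOn C (χ : G → ℂ)
        (fun a b h => isClassFunction_isConj (irr_isClassFunction χ.2) h), ?_⟩
      rfl
  have h1 := LinearMap.finrank_range_of_inj hLinj
  rw [hrange, finrank_span_eq_card irr_linearIndependent, Module.finrank_pi] at h1
  simpa [Nat.card_eq_fintype_card] using h1

section Fintype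

variable [Fintype G]

open scoped Classical in
theorem sum_classIndicator_mul (C : ConjClasses G) (χ : G → ℂ) (hχ : Cfsg.IsClassFunction G χ)
    (h : G) (hC : ConjClasses.mk h = C) :
    ∑ g : G, classIndicator C g * conj (χ g) = (Nat.card C.carrier : ℂ) * conj (χ h) := by
  simp only [classIndicator, ite_mul, one_mul, zero_mul, ← Finset.sum_filter]
  rw [Finset.sum_congr rfl (g := fun _ => conj (χ h)), Finset.sum_const, nsmul_eq_mul]
  · congr
    rw [Nat.card_eq_fintype_card, Fintype.card_subtype]
    congr 1
    ext x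
    simp [ConjClasses.mem_carrier_iff_mk_eq]
  · intro x hx
    rw [Finset.mem_filter] at hx
    rw [isClassFunction_isConj hχ (ConjClasses.mk_eq_mk_iff_isConj.mp (hx.2.trans hC.symm))]

theorem natCard_carrier_eq_index (g : G) :
    Nat.card (ConjClasses.mk g).carrier = (Subgroup.centralizer ({g} : Set G)).index := by
  have h1 : (Subgroup.centralizer ({g} : Set G)).index =
      (Subgroup.centralizer ({ConjAct.toConjAct g} : Set (ConjAct G))).index := rfl
  rw [h1, ← ConjAct.stabilizer_eq_centralizer, MulAction.index_stabilizer,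
    ConjAct.orbit_eq_carrier_conjClasses, Nat.card_coe_set_eq]

theorem natCard_carrier_mul_centralizer (g : G) :
    Nat.card (ConjClasses.mk g).carrier * Nat.card (Subgroup.centralizer ({g} : Set G)) =
      Nat.card G := by
  rw [natCard_carrier_eq_index]
  exact Subgroup.index_mul_card _

open scoped Classical in
/-- The second orthogonality relation. -/
theorem column_orthogonality [Fintype (Cfsg.IrrCharacter G)] (g h : G) :
    ∑ χ : Cfsg.IrrCharacter G, (χ : G → ℂ) g * conj ((χ : G → ℂ) h) =
      if IsConj g h then (Nat.card (Subgroup.centralizer ({g} : Set G)) : ℂ) else 0 := by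
  have hne : (Nat.card (ConjClasses.mk h).carrier : ℂ) ≠ 0 := by
    have : Nonempty (ConjClasses.mk h).carrier := ⟨⟨h, ConjClasses.mem_carrier_mk⟩⟩
    exact_mod_cast Nat.card_pos.ne'
  have h1 := classFunction_apply_eq_sum (classIndicator_isClassFunction (ConjClasses.mk h)) g
  simp only [classInner_def,
    fun χ : Cfsg.IrrCharacter G =>
      sum_classIndicator_mul _ _ (irr_isClassFunction χ.2) h rfl] at h1
  have h2 : classIndicator (ConjClasses.mk h) g = (Nat.card (ConjClasses.mk h).carrier : ℂ) *
      (Nat.card G : ℂ)⁻¹ * ∑ χ : Cfsg.IrrCharacter G, (χ : G → ℂ) g * conj ((χ : G → ℂ) h) := by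
    rw [h1, Finset.mul_sum]
    exact Finset.sum_congr rfl fun χ _ => by ring
  by_cases hgh : IsConj g h
  · rw [if_pos hgh]
    have e : ConjClasses.mk g = ConjClasses.mk h := ConjClasses.mk_eq_mk_iff_isConj.mpr hgh
    simp only [classIndicator, if_pos e] at h2
    have h3 : (Nat.card (ConjClasses.mk h).carrier : ℂ) *
        (Nat.card (Subgroup.centralizer ({g} : Set G)) : ℂ) = (Nat.card G : ℂ) := by
      rw [← e]; exact_mod_cast natCard_carrier_mul_centralizer g
    rw [← h3] at h2
    have hc : (Nat.card (Subgroup.centralizer ({g} : Set G)) : ℂ) ≠ 0 := by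
      exact_mod_cast Nat.card_pos.ne'
    field_simp at h2
    linear_combination -h2
  · rw [if_neg hgh]
    have e : ConjClasses.mk g ≠ ConjClasses.mk h := fun e =>
      hgh (ConjClasses.mk_eq_mk_iff_isConj.mp e)
    simp only [classIndicator, if_neg e] at h2
    exact (mul_eq_zero.mp h2.symm).resolve_left
      (mul_ne_zero hne (inv_ne_zero natCard_ne_zero))

theorem isConj_iff_forall_irr (g h : G) :
    IsConj g h ↔ ∀ χ : Cfsg.IrrCharacter G, (χ : G → ℂ) g = (χ : G → ℂ) h := by
  refine ⟨fun hc χ => isClassFunction_isConj (irr_isClassFunction χ.2) hc, fun hall => ?_⟩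
  have := Fintype.ofFinite (Cfsg.IrrCharacter G)
  by_contra hn
  have h1 := column_orthogonality g h
  rw [if_neg hn] at h1
  simp only [hall] at h1
  have h2 := column_orthogonality h h
  rw [if_pos (IsConj.refl h), h1] at h2
  exact absurd h2.symm (by exact_mod_cast Nat.card_pos.ne')

theorem sum_irr_mul_degree [DecidableEq G] [Fintype (Cfsg.IrrCharacter G)] (g : G) :
    ∑ χ : Cfsg.IrrCharacter G, (χ : G → ℂ) 1 * (χ : G → ℂ) g =
      if g = 1 then (Nat.card G : ℂ) else 0 := by
  have h1 := column_orthogonality g 1
  have hc : ∀ χ : Cfsg.IrrCharacter G, conj ((χ : G → ℂ) 1) = (χ : G → ℂ) 1 := fun χ => by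
    obtain ⟨d, hd⟩ := char_apply_one_eq_nat (irr_isCharacter χ.2)
    simp [hd]
  simp only [hc, isConj_one_left] at h1
  rw [Finset.sum_congr rfl (fun χ _ => mul_comm _ _), h1]
  split_ifs with h
  · subst h
    rw [Subgroup.centralizer_eq_top_iff_subset.mpr (by simp), Subgroup.card_top]
  · rfl

theorem sum_irr_sq [Fintype (Cfsg.IrrCharacter G)] :
    ∑ χ : Cfsg.IrrCharacter G, (χ : G → ℂ) 1 ^ 2 = (Nat.card G : ℂ) := by
  classical
  simpa [sq] using sum_irr_mul_degree (1 : G)

end Fintype

/-- The regular character. -/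
theorem char_leftRegular [Fintype G] [DecidableEq G] (g : G) :
    (Representation.leftRegular ℂ G).character g = if g = 1 then (Nat.card G : ℂ) else 0 := by
  rw [Representation.character, LinearMap.trace_eq_matrix_trace ℂ (MonoidAlgebra.basis G ℂ),
    Matrix.trace]
  by_cases hg : g = 1
  · subst hg; simp [LinearMap.toMatrix_apply]
  · rw [if_neg hg]
    refine Finset.sum_eq_zero fun x _ => ?_
    simp [LinearMap.toMatrix_apply, Finsupp.single_apply, MonoidAlgebra.basis, hg]

end CfsgLib.Char
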