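import Cfsg.Agent.Lib.Char.CNSimple

/-!
# A group of odd order is not covered by TI Frobenius kernels
-/

namespace CfsgLib.Char

open scoped Pointwise

universe u

variable {G : Type u} [Group G]

/-- A TI subgroup containing the centralisers relative to its normaliser is centraliser-closed. -/
theorem isCentralizerClosed_of_isTI {H : Subgroup G} (hTI : Cfsg.IsTISubset (H : Set G))
    (hfrob : ∀ h ∈ H, h ≠ 1 →
      Subgroup.normalizer (H : Set G) ⊓ Subgroup.centralizer ({h} : Set G) ≤ H) :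
    IsCentralizerClosed H := by
  intro h hh hh1 y hy
  refine hfrob h hh hh1 ⟨?_, hy⟩
  by_contra hyn
  refine hh1 (hTI y hyn h hh ?_)
  rw [Subgroup.mem_centralizer_singleton_iff.mp hy, mul_assoc, mul_inv_cancel, mul_one]
  exact hh

/-- An element of prime order of `L \ H` when `H` contains the `L`-centralisers of its elements. -/
theorem exists_prime_orderOf_of_frobenius [Finite G] {L H : Subgroup G} (hlt : H < L)
    (hfrob : ∀ h ∈ H, h ≠ 1 → L ⊓ Subgroup.centralizer ({h} : Set G) ≤ H) :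
    ∃ x ∈ L, x ∉ H ∧ (orderOf x).Prime := by
  classical
  obtain ⟨a, haL, haH⟩ := SetLike.exists_of_lt hlt
  -- the least positive power of `a` lying in `H`
  have hex : ∃ n, 0 < n ∧ a ^ n ∈ H :=
    ⟨orderOf a, orderOf_pos a, by rw [pow_orderOf_eq_one]; exact one_mem H⟩
  obtain ⟨hn, hnH⟩ := Nat.find_spec hex
  set n := Nat.find hex with hndef
  have hn1 : n ≠ 1 := fun h => haH (by rwa [h, pow_one] at hnH)
  obtain ⟨q, hq, m, hm⟩ := (Nat.exists_prime_and_dvd hn1)
  have hm0 : 0 < m := Nat.pos_of_ne_zero fun h => by simp [h] at hm; omega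
  have hmn : m < n := by rw [hm]; exact (Nat.lt_mul_iff_one_lt_left hm0).mpr hq.one_lt
  set x := a ^ m with hx
  have hxH : x ∉ H := fun h => Nat.find_min hex hmn ⟨hm0, h⟩
  have hxL : x ∈ L := pow_mem haL m
  have hxq : x ^ q ∈ H := by rw [hx, ← pow_mul, mul_comm, ← hm]; exact hnH
  have hxq1 : x ^ q = 1 := by
    by_contra h
    exact hxH (hfrob _ hxq h ⟨hxL, Subgroup.mem_centralizer_singleton_iff.mpr
      ((Commute.refl x).pow_right q).eq⟩)
  have : Fact q.Prime := ⟨hq⟩
  exact ⟨x, hxL, hxH,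
    (orderOf_eq_prime hxq1 fun h => hxH (h ▸ one_mem H)).symm ▸ hq⟩

/-- No group of odd order is covered by TI kernels of Frobenius normalisers, granting Thompson's
theorem on fixed-point-free automorphisms of prime order. -/
theorem not_odd_frobenius_cover [Finite G] (hodd : Odd (Nat.card G))
    (hthompson : ∀ (K : Subgroup G) (φ : K ≃* K), MonoidHom.FixedPointFree (φ : K →* K) →
      ∀ p : ℕ, p.Prime → orderOf φ = p → Group.IsNilpotent K)
    {ι : Type*} (i₀ : ι) (L H : ι → Subgroup G) (hHL : ∀ i, H i < L i) (hH1 : ∀ i, H i ≠ ⊥)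
    (hfrob : ∀ i, ∀ h ∈ H i, h ≠ 1 → L i ⊓ Subgroup.centralizer ({h} : Set G) ≤ H i)
    (hTI : ∀ i, Cfsg.IsTISubset (H i : Set G) ∧ Subgroup.normalizer (H i : Set G) = L i)
    (hcover : ∀ g : G, g ≠ 1 → ∃ i, ∃ x : G, x * g * x⁻¹ ∈ H i) : False := by
  classical
  have := Fintype.ofFinite G
  have : Nontrivial G := by
    obtain ⟨x, -, hx⟩ := SetLike.exists_of_lt (hHL i₀)
    exact ⟨x, 1, fun h => hx (h ▸ one_mem _)⟩
  have hclosed : ∀ i, IsCentralizerClosed (H i) := fun i =>
    isCentralizerClosed_of_isTI (hTI i).1 (by rw [(hTI i).2]; exact hfrob i)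
  have hnil : ∀ i, Group.IsNilpotent (H i) := by
    intro i
    obtain ⟨x, hxL, hxH, hxp⟩ := exists_prime_orderOf_of_frobenius (hHL i) (hfrob i)
    have hxN : x ∈ Subgroup.normalizer (H i : Set G) := (hTI i).2 ▸ hxL
    let f : Subgroup.normalizer (H i : Set G) →* MulAut (H i) := Subgroup.normalizerMonoidHom (H i)
    have hne : f ⟨x, hxN⟩ ≠ 1 := by
      intro h
      obtain ⟨t, ht, ht1⟩ := (Subgroup.ne_bot_iff_exists_ne_one.mp (hH1 i)) |> fun ⟨t, ht⟩ =>
        (⟨t.1, t.2, fun e => ht (Subtype.ext e)⟩ : ∃ t, t ∈ H i ∧ t ≠ (1 : G))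
      have h2 : x * t * x⁻¹ = t := congrArg Subtype.val (DFunLike.congr_fun h (⟨t, ht⟩ : H i))
      exact hxH (hfrob i t ht ht1 ⟨hxL, Subgroup.mem_centralizer_singleton_iff.mpr (by
        rwa [mul_inv_eq_iff_eq_mul] at h2)⟩)
    refine hthompson (H i) (f ⟨x, hxN⟩) (fun t ht => ?_) (orderOf x) hxp ?_
    · by_contra ht1
      have h2 : x * (t : G) * x⁻¹ = t := congrArg Subtype.val ht
      exact hxH (hfrob i t t.2 (fun e => ht1 (Subtype.ext e))
        ⟨hxL, Subgroup.mem_centralizer_singleton_iff.mpr (by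
          rwa [mul_inv_eq_iff_eq_mul] at h2)⟩)
    · refine ((hxp.eq_one_or_self_of_dvd _ ((orderOf_map_dvd f ⟨x, hxN⟩).trans ?_)).resolve_left
        fun h => hne (orderOf_eq_one_iff.mp h))
      rw [Subgroup.orderOf_mk]
  refine not_odd_closed_cover hodd (fun g hg => ?_) fun A hA hAn hA1 hle => ?_
  · obtain ⟨i, x, hx⟩ := hcover g hg
    exact ⟨MulAut.conj x⁻¹ • H i, isNilpotent_conj (hnil i) _,
      Solvable.mem_conj_smul.mpr (by simpa using hx), (hclosed i).conj _⟩
  · rw [Finite.one_lt_card_iff_nontrivial, Subgroup.nontrivial_iff_exists_ne_one] at hA1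
    obtain ⟨a, ha, ha1⟩ := hA1
    obtain ⟨i, x, hx⟩ := hcover a ha1
    obtain rfl : A = MulAut.conj x⁻¹ • H i := hA.eq_of_mem ((hclosed i).conj _) hAn
      (isNilpotent_conj (hnil i) _) ha (Solvable.mem_conj_smul.mpr (by simpa using hx)) ha1
    obtain ⟨y, hyL, hyH⟩ := SetLike.exists_of_lt (hHL i)
    have e : MulAut.conj y • H i = H i := by
      rw [Solvable.conj_smul_eq_self_iff, (hTI i).2]; exact hyL
    have hy : x⁻¹ * y * x ∈ Subgroup.normalizer
        ((MulAut.conj x⁻¹ • H i : Subgroup G) : Set G) := by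
      rw [← Solvable.conj_smul_eq_self_iff, Solvable.conj_smul_conj_smul,
        show x⁻¹ * y * x * x⁻¹ = x⁻¹ * y by group, ← Solvable.conj_smul_conj_smul, e]
    refine hyH ?_
    have := Solvable.mem_conj_smul.mp (hle hy)
    simpa [mul_assoc] using this

end CfsgLib.Char
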