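import Cfsg.Agent.Lib.Char.CNLocal
import Cfsg.Agent.Lib.OddLocal.ZJ
import Cfsg.Agent.Lib.Transfer.Focal
import Cfsg.Agent.Lib.Transfer.SylowLemmas

/-!
# Sylow subgroups are TI when centralisers of `p`-elements are `p`-groups (odd order, simple)
-/

namespace CfsgLib.Char

open scoped Pointwise

universe u

variable {G : Type u} [Group G] [Finite G] {p : ℕ} [hp : Fact p.Prime]

/-- Any two `p`-subgroups of `H` generate a `p`-group. -/
def PJoinClosed (p : ℕ) (H : Subgroup G) : Prop :=
  ∀ A B : Subgroup G, A ≤ H → B ≤ H → IsPGroup p A → IsPGroup p B → IsPGroup p ↥(A ⊔ B)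

omit [Finite G] hp in
theorem PJoinClosed.mono {H K : Subgroup G} (h : PJoinClosed p K) (hle : H ≤ K) :
    PJoinClosed p H := fun A B hA hB => h A B (hA.trans hle) (hB.trans hle)

theorem pJoinClosed_of_normal_sylow {H : Subgroup G} (S : Sylow p H)
    (hS : (S : Subgroup H).Normal) : PJoinClosed p H := by
  intro A B hA hB hAp hBp
  have key : ∀ C : Subgroup G, C ≤ H → IsPGroup p C → C ≤ (S : Subgroup H).map H.subtype := by
    intro C hC hCp
    have hC' : IsPGroup p (C.subgroupOf H) := hCp.of_equiv (Subgroup.subgroupOfEquivOfLe hC).symm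
    obtain ⟨T, hT⟩ := hC'.exists_le_sylow
    have := Sylow.unique_of_normal S hS
    rw [Subsingleton.elim T S] at hT
    intro x hx
    exact ⟨⟨x, hC hx⟩, hT (Subgroup.mem_subgroupOf.mpr hx), rfl⟩
  exact (S.2.map H.subtype).to_le (sup_le (key A hA hAp) (key B hB hBp))

theorem centerThompsonOf_ne_bot {R : Subgroup G} (hR : IsPGroup p R) (hne : R ≠ ⊥) :
    Cfsg.centerThompsonOf p R ≠ ⊥ := by
  have : Nontrivial R := (Subgroup.nontrivial_iff_ne_bot R).mpr hne
  have : Nontrivial (Subgroup.center R) := hR.center_nontrivial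
  have hdvd : p ∣ Nat.card (Subgroup.center R) := by
    obtain ⟨k, hk⟩ := IsPGroup.iff_card.mp (hR.to_subgroup (Subgroup.center R))
    rw [hk]
    refine dvd_pow_self p fun h0 => ?_
    rw [h0, pow_zero] at hk
    exact (Finite.one_lt_card (α := Subgroup.center R)).ne' hk
  obtain ⟨z, hz⟩ := exists_prime_orderOf_dvd_card' (G := Subgroup.center R) p hdvd
  set y : G := ((z : R) : G) with hy
  have hyp : y ^ p = 1 := by
    have h := congr_arg (fun t : Subgroup.center R => ((t : R) : G)) (pow_orderOf_eq_one z)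
    rw [hz] at h
    simpa [y] using h
  have hyc : ∀ r ∈ R, r * y = y * r := fun r hr =>
    congr_arg Subtype.val (Subgroup.mem_center_iff.mp z.2 ⟨r, hr⟩)
  have hy1 : y ≠ 1 := fun h => by
    rw [show z = 1 from Subtype.ext (Subtype.ext h), orderOf_one] at hz
    exact hp.out.one_lt.ne hz
  obtain ⟨A, hA⟩ := PLocal.exists_maxElemIn p R
  have hyA : y ∈ A := PLocal.mem_maxElemIn_of_centralizes hA (z : R).2 hyp
    (Subgroup.mem_centralizer_iff.mpr fun a ha => hyc a (hA.1 ha))
  refine fun h => hy1 ((Subgroup.mem_bot).mp (h ▸ ?_))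
  exact ⟨PLocal.le_thompsonOf hA hyA, fun j hj => hyc j (PLocal.thompsonOf_le R hj)⟩

omit hp in
theorem centerThompsonOf_conj (g : G) (R : Subgroup G) :
    MulAut.conj g • Cfsg.centerThompsonOf p R = Cfsg.centerThompsonOf p (MulAut.conj g • R) :=
  OddLocal.centerThompsonOf_map (p := p) (MulAut.conj g).toMonoidHom
    fun x _ hx => (MulAut.conj g).injective (hx.trans (map_one _).symm)

variable [IsSimpleGroup G]

theorem normalizer_ne_top_of_pGroup (hG : ¬ IsMulCommutative G) {D : Subgroup G}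
    (hD : IsPGroup p D) (hne : D ≠ ⊥) : Subgroup.normalizer (D : Set G) ≠ ⊤ := by
  intro h
  rcases IsSimpleGroup.eq_bot_or_eq_top_of_normal D (Subgroup.normalizer_eq_top_iff.mp h) with
    h' | h'
  · exact hne h'
  · have : Nontrivial G := IsSimpleGroup.toNontrivial
    have hpG : IsPGroup p G := (IsPGroup.iff_card.mpr (by
      obtain ⟨k, hk⟩ := IsPGroup.iff_card.mp hD
      exact ⟨k, by rw [← hk, h', Subgroup.card_top]⟩))
    have := hpG.isNilpotent
    have hlt : commutator G < ⊤ := Group.IsSolvable.commutator_lt_top_of_nontrivial G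
    exact hlt.ne (Transfer.commutator_eq_top_of_simple hG)

/-- Each proper non-closed subgroup with nontrivial normal `p`-subgroup lies in the normalizer of
`Z(J(P))` for some Sylow subgroup `P`. -/
theorem exists_le_normalizer_centerThompsonOf (hodd : Odd (Nat.card G))
    (hG : ¬ IsMulCommutative G) (hsolv : ∀ H : Subgroup G, H ≠ ⊤ → Group.IsSolvable H)
    (hB : ∀ x : G, x ≠ 1 → (∃ k, orderOf x = p ^ k) → IsPGroup p (Subgroup.centralizer ({x} : Set G)))
    {H : Subgroup G} (hH : H ≠ ⊤) {D : Subgroup G} (hDp : IsPGroup p D) (hD : D ≠ ⊥)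
    (hDH : D ≤ H) (hHD : H ≤ Subgroup.normalizer (D : Set G)) (hncl : ¬ PJoinClosed p H) :
    ∃ P : Sylow p G, H ≤ Subgroup.normalizer (Cfsg.centerThompsonOf p (P : Subgroup G) : Set G) := by
  suffices ∀ (n : ℕ) (H D : Subgroup G) (S : Sylow p H), H ≠ ⊤ → IsPGroup p D → D ≠ ⊥ → D ≤ H →
      H ≤ Subgroup.normalizer (D : Set G) → ¬ PJoinClosed p H →
      Nat.card G - Nat.card (S : Subgroup H) = n →
      ∃ P : Sylow p G, H ≤ Subgroup.normalizer (Cfsg.centerThompsonOf p (P : Subgroup G) : Set G) from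
    this _ H D Classical.ofNonempty hH hDp hD hDH hHD hncl rfl
  intro n
  induction n using Nat.strong_induction_on with
  | _ n ih =>
  intro H D S hH hDp hD hDH hHD hncl hn
  have := hsolv H hH
  have hDn : (D.subgroupOf H).Normal := (Subgroup.normal_subgroupOf_iff_le_normalizer hDH).mpr hHD
  have hO : Cfsg.pPrimeCore p H = ⊥ := by
    rw [Subgroup.eq_bot_iff_forall]
    intro x hx
    obtain ⟨d, hd, hd1⟩ := (Subgroup.bot_or_exists_ne_one D).resolve_left hD
    let d' : H := ⟨d, hDH hd⟩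
    have hKn : (Cfsg.pPrimeCore p H).Normal := Solvable.pPrimeCore_normal p H
    have hcop : (Nat.card (D.subgroupOf H)).Coprime (Nat.card (Cfsg.pPrimeCore p H)) := by
      obtain ⟨k, hk⟩ := IsPGroup.iff_card.mp hDp
      rw [Nat.card_congr (Subgroup.subgroupOfEquivOfLe hDH).toEquiv, hk]
      exact Nat.Coprime.pow_left k (Solvable.pPrimeCore_coprime p).symm
    have hcomm : d' * x = x * d' := Subgroup.commute_of_normal_of_disjoint _ _ hDn hKn
      (disjoint_iff.mpr (Subgroup.inf_eq_bot_of_coprime hcop)) d' x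
      (Subgroup.mem_subgroupOf.mpr hd) hx
    obtain ⟨i, hi⟩ := isPGroup_of_commute_pElement hB hd1 (exists_orderOf_eq_pow hDp hd)
      (congr_arg Subtype.val hcomm).symm
    have h1 : orderOf x ∣ Nat.card (Cfsg.pPrimeCore p H) := by
      rw [← Subgroup.orderOf_mk x hx]; exact orderOf_dvd_natCard _
    rw [← Subgroup.orderOf_coe] at h1
    rw [hi] at h1
    have h2 : p ^ i = 1 := Nat.Coprime.eq_one_of_dvd
      (Nat.Coprime.pow_left i (Solvable.pPrimeCore_coprime (G := H) p).symm) h1
    rw [h2, orderOf_eq_one_iff] at hi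
    exact Subtype.ext hi
  set R := (S : Subgroup H).map H.subtype with hR
  set Z := Cfsg.centerThompsonOf p R with hZ
  have hZn := OddLocal.centerThompsonOf_normal (hodd.of_dvd_nat H.card_subgroup_dvd_card) hO S
  have hRp : IsPGroup p R := S.2.map H.subtype
  have hRne : R ≠ ⊥ := by
    intro h
    obtain ⟨T, hT⟩ := (hDp.of_equiv (Subgroup.subgroupOfEquivOfLe hDH).symm).exists_le_sylow
    have h1 : Nat.card (T : Subgroup H) = 1 := by
      rw [T.card_eq_multiplicity, ← S.card_eq_multiplicity,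
        ← Solvable.card_map_subtype (S : Subgroup H), ← hR, h, Subgroup.card_bot]
    rw [Subgroup.card_eq_one] at h1
    refine hD (le_bot_iff.mp fun x hx => ?_)
    have := hT (show (⟨x, hDH hx⟩ : H) ∈ D.subgroupOf H from Subgroup.mem_subgroupOf.mpr hx)
    rw [h1, Subgroup.mem_bot] at this
    exact congr_arg Subtype.val this
  have hZne : Z ≠ ⊥ := centerThompsonOf_ne_bot hRp hRne
  have hHZ : H ≤ Subgroup.normalizer (Z : Set G) := by
    have h := Subgroup.le_normalizer_map (H := Cfsg.centerThompsonOf p (S : Subgroup H)) H.subtype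
    rw [Subgroup.normalizer_eq_top, ← MonoidHom.range_eq_map, Subgroup.range_subtype,
      OddLocal.centerThompsonOf_map H.subtype (fun x _ hx => Subtype.ext hx)] at h
    exact h
  set H' := Subgroup.normalizer (Z : Set G) with hH'
  obtain ⟨P, hP⟩ := hRp.exists_le_sylow
  rcases eq_or_lt_of_le hP with heq | hlt
  · exact ⟨P, by rw [← heq]; exact hHZ⟩
  obtain ⟨g, hgP, hgN, hgR⟩ := Transfer.exists_mem_normalizer_not_mem P.2 hlt
  have hZR : Z ≤ R := OddLocal.centerThompsonOf_le R
  have hZp : IsPGroup p Z := hRp.to_le hZR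
  have hRN : (R ⊔ Subgroup.zpowers g) ≤ H' := by
    refine sup_le (le_trans Subgroup.le_normalizer
      (OddLocal.normalizer_le_normalizer_centerThompsonOf R)) ?_
    exact Subgroup.zpowers_le.mpr (OddLocal.normalizer_le_normalizer_centerThompsonOf R hgN)
  obtain ⟨S', hS'⟩ := ((P.2.to_le (sup_le hP (Subgroup.zpowers_le.mpr hgP))).of_equiv
    (Subgroup.subgroupOfEquivOfLe hRN).symm).exists_le_sylow
  have hcard : Nat.card (S : Subgroup H) < Nat.card (S' : Subgroup H') := by
    rw [← Solvable.card_map_subtype (S : Subgroup H), ← hR]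
    refine lt_of_lt_of_le ?_ (Subgroup.card_le_of_le hS')
    rw [Nat.card_congr (Subgroup.subgroupOfEquivOfLe hRN).toEquiv]
    refine lt_of_le_of_ne (Subgroup.card_le_of_le le_sup_left) fun h => hgR ?_
    rw [Subgroup.eq_of_le_of_card_ge (le_sup_left : R ≤ R ⊔ Subgroup.zpowers g) h.ge]
    exact le_sup_right (a := R) (Subgroup.mem_zpowers g)
  have hle : Nat.card (S' : Subgroup H') ≤ Nat.card G :=
    (Subgroup.card_le_card_group _).trans (Subgroup.card_le_card_group _)
  obtain ⟨Q, hQ⟩ := ih _ (by omega) H' Z S' (normalizer_ne_top_of_pGroup hG hZp hZne) hZp hZne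
    Subgroup.le_normalizer le_rfl (fun h => hncl (h.mono hHZ)) rfl
  exact ⟨Q, hHZ.trans hQ⟩

/-- Sylow `p`-subgroups of a simple group of odd order meet trivially when centralisers of
`p`-elements are `p`-groups and proper subgroups are solvable. -/
theorem sylow_eq_of_inf_ne_bot (hodd : Odd (Nat.card G))
    (hG : ¬ IsMulCommutative G) (hsolv : ∀ H : Subgroup G, H ≠ ⊤ → Group.IsSolvable H)
    (hB : ∀ x : G, x ≠ 1 → (∃ k, orderOf x = p ^ k) → IsPGroup p (Subgroup.centralizer ({x} : Set G))) :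
    ∀ P Q : Sylow p G, (P : Subgroup G) ⊓ Q ≠ ⊥ → P = Q := by
  let M : Sylow p G → Subgroup G :=
    fun P => Subgroup.normalizer (Cfsg.centerThompsonOf p (P : Subgroup G) : Set G)
  have hPM : ∀ P : Sylow p G, (P : Subgroup G) ≤ M P := fun P =>
    Subgroup.le_normalizer.trans (OddLocal.normalizer_le_normalizer_centerThompsonOf _)
  have hNM : ∀ P : Sylow p G, Subgroup.normalizer ((P : Subgroup G) : Set G) ≤ M P := fun P =>
    OddLocal.normalizer_le_normalizer_centerThompsonOf _
  have hMconj : ∀ (g : G) (P : Sylow p G), M (g • P) = MulAut.conj g • M P := fun g P => by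
    show Subgroup.normalizer (Cfsg.centerThompsonOf p ((g • P : Sylow p G) : Subgroup G) : Set G) = _
    rw [Sylow.coe_subgroup_smul, ← centerThompsonOf_conj]
    exact (Subgroup.map_normalizer_eq_of_bijective _ (f := (MulAut.conj g).toMonoidHom)
      (MulAut.conj g).bijective).symm
  have hMeq : ∀ P T : Sylow p G, (P : Subgroup G) ≤ M T → M P = M T := fun P T h => by
    obtain ⟨m, hm⟩ := MulAction.exists_smul_eq (M T) (T.subtype (hPM T)) (P.subtype h)
    rw [Sylow.smul_subtype] at hm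
    rw [← Sylow.subtype_injective hm, show (m • T : Sylow p G) = (m : G) • T from rfl, hMconj]
    exact Solvable.conj_smul_eq_self_iff.mpr (Subgroup.le_normalizer m.2)
  -- Sylow subgroups meeting nontrivially share the normalizer
  have hclaim : ∀ (n : ℕ) (P Q : Sylow p G), Nat.card G - Nat.card ↥((P : Subgroup G) ⊓ Q) = n →
      (P : Subgroup G) ⊓ Q ≠ ⊥ → M P = M Q ∧
        ((∀ H D : Subgroup G, H ≠ ⊤ → IsPGroup p D → D ≠ ⊥ → D ≤ H →
          H ≤ Subgroup.normalizer (D : Set G) → PJoinClosed p H) → P = Q) := by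
    intro n
    induction n using Nat.strong_induction_on with
    | _ n ih =>
    intro P Q hn hne
    set D := (P : Subgroup G) ⊓ Q with hDdef
    by_cases hPQ : P = Q
    · exact ⟨by rw [hPQ], fun _ => hPQ⟩
    have hDP : D < (P : Subgroup G) := lt_of_le_of_ne inf_le_left fun h => hPQ (Sylow.ext
      (Subgroup.eq_of_le_of_card_ge (h ▸ inf_le_right)
        (Q.card_eq_multiplicity.trans P.card_eq_multiplicity.symm).le))
    have hDQ : D < (Q : Subgroup G) := lt_of_le_of_ne inf_le_right fun h => hPQ (Sylow.ext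
      (Subgroup.eq_of_le_of_card_ge (h ▸ inf_le_left)
        (P.card_eq_multiplicity.trans Q.card_eq_multiplicity.symm).le).symm)
    have hDp : IsPGroup p D := P.2.to_le inf_le_left
    set H := Subgroup.normalizer (D : Set G) with hH
    set A := (P : Subgroup G) ⊓ H
    set B := (Q : Subgroup G) ⊓ H
    obtain ⟨x, hxP, hxN, hxD⟩ := Transfer.exists_mem_normalizer_not_mem P.2 hDP
    obtain ⟨y, hyQ, hyN, hyD⟩ := Transfer.exists_mem_normalizer_not_mem Q.2 hDQ
    have hstep : ∀ (P S : Sylow p G), D ≤ (P : Subgroup G) → (P : Subgroup G) ⊓ H ≤ S →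
        (∃ x ∈ (P : Subgroup G) ⊓ H, x ∉ D) →
        (P : Subgroup G) ⊓ S ≠ ⊥ ∧
          Nat.card G - Nat.card ↥((P : Subgroup G) ⊓ S) < n := by
      intro P S hD hS ⟨x, hx, hxD⟩
      have hlt : D < (P : Subgroup G) ⊓ S := by
        refine lt_of_le_of_ne (le_inf hD ((le_inf hD Subgroup.le_normalizer).trans hS)) fun h => hxD ?_
        rw [h]; exact ⟨hx.1, hS hx⟩
      refine ⟨ne_bot_of_le_ne_bot hne hlt.le, ?_⟩
      have h1 : Nat.card D < Nat.card ↥((P : Subgroup G) ⊓ S) :=
        lt_of_le_of_ne (Subgroup.card_le_of_le hlt.le)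
          fun h => hlt.ne (Subgroup.eq_of_le_of_card_ge hlt.le h.ge)
      have h2 := Subgroup.card_le_card_group ((P : Subgroup G) ⊓ S)
      omega
    by_cases hcl : PJoinClosed p H
    · obtain ⟨S, hS⟩ := (hcl A B inf_le_right inf_le_right (P.2.to_le inf_le_left)
        (Q.2.to_le inf_le_left)).exists_le_sylow
      obtain ⟨h1, h1'⟩ := hstep P S inf_le_left (le_sup_left.trans hS) ⟨x, ⟨hxP, hxN⟩, hxD⟩
      obtain ⟨h2, h2'⟩ := hstep Q S inf_le_right (le_sup_right.trans hS) ⟨y, ⟨hyQ, hyN⟩, hyD⟩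
      obtain ⟨e1, f1⟩ := ih _ h1' P S rfl h1
      obtain ⟨e2, f2⟩ := ih _ h2' Q S rfl h2
      exact ⟨e1.trans e2.symm, fun h => (f1 h).trans (f2 h).symm⟩
    · have hHtop := normalizer_ne_top_of_pGroup hG hDp hne
      refine ⟨?_, fun h => absurd (h H D hHtop hDp hne Subgroup.le_normalizer le_rfl) hcl⟩
      obtain ⟨T, hT⟩ := exists_le_normalizer_centerThompsonOf hodd hG hsolv hB hHtop hDp hne
        Subgroup.le_normalizer le_rfl hcl
      have key : ∀ C : Subgroup G, C ≤ M T → IsPGroup p C →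
          ∃ S : Sylow p G, C ≤ (S : Subgroup G) ∧ M S = M T := by
        intro C hC hCp
        obtain ⟨S', hS'⟩ := (hCp.of_equiv (Subgroup.subgroupOfEquivOfLe hC).symm).exists_le_sylow
        obtain ⟨m, hm⟩ := MulAction.exists_smul_eq (M T) (T.subtype (hPM T)) S'
        rw [Sylow.smul_subtype] at hm
        refine ⟨(m : G) • T, fun c hc => ?_, hMeq _ T ?_⟩
        · have h := hS' (show (⟨c, hC hc⟩ : M T) ∈ C.subgroupOf (M T) from
            Subgroup.mem_subgroupOf.mpr hc)
          rw [← hm] at h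
          exact h
        · rw [Sylow.coe_subgroup_smul]
          exact (Solvable.conj_smul_mono _ (hPM T)).trans
            (Solvable.conj_smul_eq_self_iff.mpr (Subgroup.le_normalizer (H := M T) m.2)).le
      obtain ⟨S1, hS1, e1⟩ := key A (inf_le_right.trans hT) (P.2.to_le inf_le_left)
      obtain ⟨S2, hS2, e2⟩ := key B (inf_le_right.trans hT) (Q.2.to_le inf_le_left)
      obtain ⟨h1, h1'⟩ := hstep P S1 inf_le_left hS1 ⟨x, ⟨hxP, hxN⟩, hxD⟩
      obtain ⟨h2, h2'⟩ := hstep Q S2 inf_le_right hS2 ⟨y, ⟨hyQ, hyN⟩, hyD⟩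
      rw [(ih _ h1' P S1 rfl h1).1, (ih _ h2' Q S2 rfl h2).1, e1, e2]
  intro P Q hne
  refine (hclaim _ P Q rfl hne).2 fun H D hH hDp hD hDH hHD => ?_
  by_contra hncl
  obtain ⟨T, hT⟩ := exists_le_normalizer_centerThompsonOf hodd hG hsolv hB hH hDp hD hDH hHD hncl
  have hcontrol : ∀ x ∈ T, ∀ g : G, g * x * g⁻¹ ∈ T → ∃ v ∈ M T, v * x * v⁻¹ = g * x * g⁻¹ := by
    intro x hx g hg
    by_cases hx1 : x = 1
    · exact ⟨1, one_mem _, by simp [hx1]⟩
    have hmem : g * x * g⁻¹ ∈ ((g • T : Sylow p G) : Subgroup G) := by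
      rw [Sylow.coe_subgroup_smul, Solvable.mem_conj_smul]
      simpa [mul_assoc] using (show x ∈ (T : Subgroup G) from hx)
    have hne' : (T : Subgroup G) ⊓ (g • T : Sylow p G) ≠ ⊥ := fun h => hx1 (by
      have h' : g * x * g⁻¹ ∈ (T : Subgroup G) ⊓ (g • T : Sylow p G) := ⟨hg, hmem⟩
      rw [h, Subgroup.mem_bot] at h'
      simpa using h')
    have hgT : ((g • T : Sylow p G) : Subgroup G) ≤ M T :=
      (hclaim _ T (g • T) rfl hne').1 ▸ hPM _
    obtain ⟨m, hm⟩ := MulAction.exists_smul_eq (M T) (T.subtype (hPM T))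
      ((g • T).subtype hgT)
    rw [Sylow.smul_subtype] at hm
    have h := Sylow.subtype_injective hm
    have hmg : (m : G)⁻¹ * g ∈ M T := hNM T (Sylow.smul_eq_iff_mem_normalizer.mp (by
      rw [mul_smul, ← h]; exact inv_smul_smul _ _))
    refine ⟨g, ?_, rfl⟩
    have := mul_mem m.2 hmg
    rwa [mul_inv_cancel_left] at this
  have hTne : (T : Subgroup G) ≠ ⊥ := by
    intro h
    obtain ⟨S, hS⟩ := hDp.exists_le_sylow
    refine hD (Subgroup.card_eq_one.mp (Nat.dvd_one.mp ?_))
    have := Subgroup.card_dvd_of_le hS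
    rwa [S.card_eq_multiplicity, ← T.card_eq_multiplicity, h, Subgroup.card_bot] at this
  set Z := Cfsg.centerThompsonOf p (T : Subgroup G)
  have hZp : IsPGroup p Z := T.2.to_le (OddLocal.centerThompsonOf_le _)
  have hZne : Z ≠ ⊥ := centerThompsonOf_ne_bot T.2 hTne
  have hMtop : M T ≠ ⊤ := normalizer_ne_top_of_pGroup hG hZp hZne
  have := hsolv (M T) hMtop
  refine not_sylow_le_commutator (G := M T) (p := p) ?_ ?_
    (T.subtype (hPM T)) (fun hn => hncl ((pJoinClosed_of_normal_sylow _ hn).mono hT)) ?_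
  · intro x hx ⟨k, hk⟩ y
    obtain ⟨j, hj⟩ := hB (x : G) (fun h => hx (Subtype.ext h)) ⟨k, by rw [Subgroup.orderOf_coe, hk]⟩
      ⟨((y : M T) : G), Subgroup.mem_centralizer_singleton_iff.mpr
        (congr_arg Subtype.val (Subgroup.mem_centralizer_singleton_iff.mp y.2))⟩
    exact ⟨j, Subtype.ext (Subtype.ext (congr_arg Subtype.val hj :))⟩
  · intro h
    have hZn : (Z.subgroupOf (M T)).Normal :=
      (Subgroup.normal_subgroupOf_iff_le_normalizer Subgroup.le_normalizer).mpr le_rfl
    have h1 := Solvable.le_pCore hZn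
      (hZp.of_equiv (Subgroup.subgroupOfEquivOfLe Subgroup.le_normalizer).symm)
    rw [h, le_bot_iff, Subgroup.subgroupOf_eq_bot, disjoint_iff] at h1
    exact hZne (by rwa [inf_eq_left.mpr Subgroup.le_normalizer] at h1)
  · have h := Transfer.commutator_inf_eq_of_controls T (hPM T) hcontrol
    rw [Transfer.commutator_eq_top_of_simple hG, top_inf_eq] at h
    intro y hy
    have hy' : (y : G) ∈ ⁅M T, M T⁆ := (h ▸ hy : (y : G) ∈ ⁅M T, M T⁆ ⊓ (T : Subgroup G)).1
    rw [← Subgroup.map_subtype_commutator] at hy'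
    obtain ⟨z, hz, hzy⟩ := hy'
    rwa [← Subtype.ext hzy]

end CfsgLib.Char
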