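import Cfsg.Prelude.Def_LieExceptional
import Cfsg.Agent.Lib.Char.CNSylow
import Cfsg.Agent.Lib.OddLocal.FittingHall

/-!
# The centraliser structure of CN-groups of odd order
-/

namespace CfsgLib.Char

open scoped Pointwise

universe u

variable {G : Type u} [Group G]

theorem mem_of_pow_mem_of_coprime {H : Subgroup G} {x : G} {a b : ℕ} (hab : a.Coprime b)
    (ha : x ^ a ∈ H) (hb : x ^ b ∈ H) : x ∈ H := by
  have h : x = (x ^ a) ^ a.gcdA b * (x ^ b) ^ a.gcdB b := by
    rw [← zpow_natCast, ← zpow_natCast x b, ← zpow_mul, ← zpow_mul, ← zpow_add,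
      ← Nat.gcd_eq_gcd_ab, hab.gcd_eq_one, Nat.cast_one, zpow_one]
  rw [h]
  exact mul_mem (zpow_mem ha _) (zpow_mem hb _)

theorem exists_pow_orderOf_prime [Finite G] {g : G} (hg : g ≠ 1) :
    ∃ (n q : ℕ), q.Prime ∧ orderOf (g ^ n) = q :=
  have hne : orderOf g ≠ 1 := fun h => hg (orderOf_eq_one_iff.mp h)
  ⟨_, (orderOf g).minFac, Nat.minFac_prime hne,
    orderOf_pow_orderOf_div (orderOf_pos g).ne' (Nat.minFac_dvd _)⟩

theorem centralizer_le_centralizer_pow (g : G) (n : ℕ) :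
    Subgroup.centralizer ({g} : Set G) ≤ Subgroup.centralizer ({g ^ n} : Set G) := fun x hx =>
  Subgroup.mem_centralizer_singleton_iff.mpr
    ((Commute.pow_right (Subgroup.mem_centralizer_singleton_iff.mp hx) n))

theorem commute_of_isNilpotent_subgroup [Finite G] {H : Subgroup G} (hH : Group.IsNilpotent H)
    {a b : G} (ha : a ∈ H) (hb : b ∈ H) (hcop : (orderOf a).Coprime (orderOf b)) : a * b = b * a :=
  congr_arg Subtype.val (OddLocal.commute_of_coprime_of_isNilpotent hH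
    (x := (⟨a, ha⟩ : H)) (y := ⟨b, hb⟩) (by rwa [Subgroup.orderOf_mk, Subgroup.orderOf_mk])).eq

theorem mem_sylow_of_isNilpotent [Finite G] {p : ℕ} [Fact p.Prime] {H : Subgroup G}
    (hH : Group.IsNilpotent H) (P : Sylow p G) (hP : (P : Subgroup G) ≤ H) {u : G} (hu : u ∈ H)
    (hup : ∃ k, orderOf u = p ^ k) : u ∈ (P : Subgroup G) := by
  obtain ⟨k, hk⟩ := hup
  have hn : ((P.subtype hP : Sylow p H) : Subgroup H).Normal :=
    Sylow.normal_of_normalizerCondition Group.normalizerCondition_of_isNilpotent _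
  have := Sylow.unique_of_normal _ hn
  have hpg : IsPGroup p (Subgroup.zpowers (⟨u, hu⟩ : H)) :=
    IsPGroup.of_card (n := k) (by rw [Nat.card_zpowers, Subgroup.orderOf_mk, hk])
  obtain ⟨T, hT⟩ := hpg.exists_le_sylow
  have h := hT (Subgroup.mem_zpowers (⟨u, hu⟩ : H))
  rw [Subsingleton.elim T (P.subtype hP)] at h
  exact h

section CN

variable [Finite G] {p : ℕ} [hp : Fact p.Prime] (hCN : Cfsg.IsCNGroup G) (P : Sylow p G) {z : G}

theorem exists_split_pow (p : ℕ) [hp : Fact p.Prime] (u : G) :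
    ∃ a b : ℕ, a.Coprime b ∧ (orderOf (u ^ a)).Coprime p ∧ ∃ k, orderOf (u ^ b) = p ^ k := by
  obtain ⟨i, r, hr, hur⟩ := Nat.exists_eq_pow_mul_and_not_dvd (orderOf_pos u).ne' p hp.out.ne_one
  have hr0 : r ≠ 0 := fun h => hr (h ▸ dvd_zero p)
  have hpi : p ^ i ≠ 0 := pow_ne_zero _ hp.out.ne_zero
  have hcop : (p ^ i).Coprime r := Nat.Coprime.pow_left i ((hp.out.coprime_iff_not_dvd).mpr hr)
  refine ⟨p ^ i, r, hcop, ?_, i, ?_⟩
  · rw [orderOf_pow_of_dvd hpi ⟨r, hur⟩, hur, Nat.mul_div_cancel_left _ (Nat.pos_of_ne_zero hpi)]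
    exact ((hp.out.coprime_iff_not_dvd).mpr hr).symm
  · rw [orderOf_pow_of_dvd hr0 ⟨p ^ i, by rw [hur, mul_comm]⟩, hur,
      Nat.mul_div_cancel _ (Nat.pos_of_ne_zero hr0)]

include hCN

theorem cn_pPrime_mem {x u : G} (hxp : x ∈ (P : Subgroup G)) (hx1 : x ≠ 1)
    (hzP : z ∈ (P : Subgroup G)) (hzc : ∀ y ∈ (P : Subgroup G), y * z = z * y)
    (hu : u ∈ Subgroup.centralizer ({x} : Set G)) (hup : (orderOf u).Coprime p) :
    u ∈ Subgroup.centralizer ({z} : Set G) := by
  obtain ⟨k, hk⟩ := exists_orderOf_eq_pow P.2 hzP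
  exact Subgroup.mem_centralizer_singleton_iff.mpr (commute_of_isNilpotent_subgroup (hCN x hx1) hu
    (Subgroup.mem_centralizer_singleton_iff.mpr (hzc x hxp).symm)
    (hk ▸ Nat.Coprime.pow_right k hup))

/-- If `C(z)` has an element of order prime to `p`, it contains the centralisers of its elements. -/
theorem cn_centralizer_le (hzP : z ∈ (P : Subgroup G)) (hz : z ≠ 1)
    (hzc : ∀ y ∈ (P : Subgroup G), y * z = z * y) {k : G}
    (hk : k ∈ Subgroup.centralizer ({z} : Set G)) (hk1 : k ≠ 1) (hkp : (orderOf k).Coprime p)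
    {h : G} (hh : h ∈ Subgroup.centralizer ({z} : Set G)) (hh1 : h ≠ 1) :
    Subgroup.centralizer ({h} : Set G) ≤ Subgroup.centralizer ({z} : Set G) := by
  set C := Subgroup.centralizer ({z} : Set G) with hC
  have hPC : (P : Subgroup G) ≤ C := fun y hy =>
    Subgroup.mem_centralizer_singleton_iff.mpr (hzc y hy)
  have hcommP : ∀ v ∈ C, (orderOf v).Coprime p → ∀ y ∈ (P : Subgroup G), v * y = y * v := by
    intro v hv hvp y hy
    obtain ⟨j, hj⟩ := exists_orderOf_eq_pow P.2 hy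
    exact commute_of_isNilpotent_subgroup (hCN z hz) hv (hPC hy) (hj ▸ Nat.Coprime.pow_right j hvp)
  obtain ⟨n, q, hq, hy⟩ := exists_pow_orderOf_prime hh1
  refine (centralizer_le_centralizer_pow h n).trans fun u hu => ?_
  have hy1 : h ^ n ≠ 1 := fun e => hq.one_lt.ne' (by rw [← hy, e, orderOf_one])
  have hyC : h ^ n ∈ C := pow_mem hh n
  obtain ⟨a, b, hab, ha, hb⟩ := exists_split_pow p u
  refine mem_of_pow_mem_of_coprime hab ?_ ?_
  · by_cases hqp : q = p
    · exact cn_pPrime_mem hCN P (mem_sylow_of_isNilpotent (hCN z hz) P hPC hyC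
        ⟨1, by rw [hy, hqp, pow_one]⟩) hy1 hzP hzc (pow_mem hu a) ha
    · obtain ⟨j, hj⟩ := exists_orderOf_eq_pow P.2 hzP
      refine Subgroup.mem_centralizer_singleton_iff.mpr (commute_of_isNilpotent_subgroup
        (hCN _ hy1) (pow_mem hu a) ?_ (hj ▸ Nat.Coprime.pow_right j ha))
      exact Subgroup.mem_centralizer_singleton_iff.mpr
        (Subgroup.mem_centralizer_singleton_iff.mp hyC).symm
  · refine hPC ?_
    by_cases hqp : q = p
    · have hyP := mem_sylow_of_isNilpotent (hCN z hz) P hPC hyC ⟨1, by rw [hy, hqp, pow_one]⟩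
      obtain ⟨i, hi⟩ := hb
      have hkx : k ∈ Subgroup.centralizer ({h ^ n} : Set G) :=
        Subgroup.mem_centralizer_singleton_iff.mpr (hcommP k hk hkp _ hyP)
      have hck : u ^ b ∈ Subgroup.centralizer ({k} : Set G) :=
        Subgroup.mem_centralizer_singleton_iff.mpr (commute_of_isNilpotent_subgroup (hCN _ hy1)
          (pow_mem hu b) hkx (hi ▸ Nat.Coprime.pow_left i hkp.symm))
      exact mem_sylow_of_isNilpotent (hCN k hk1) P (fun y hy =>
        Subgroup.mem_centralizer_singleton_iff.mpr (hcommP k hk hkp y hy).symm) hck ⟨i, hi⟩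
    · have hyp : (orderOf (h ^ n)).Coprime p := hy ▸ (Nat.coprime_primes hq hp.out).mpr hqp
      exact mem_sylow_of_isNilpotent (hCN _ hy1) P (fun y hy =>
        Subgroup.mem_centralizer_singleton_iff.mpr (hcommP _ hyC hyp y hy).symm) (pow_mem hu b) hb

/-- Otherwise every centraliser of a nontrivial `p`-element is a `p`-group. -/
theorem cn_isPGroup_centralizer (hzP : z ∈ (P : Subgroup G))
    (hzc : ∀ y ∈ (P : Subgroup G), y * z = z * y)
    (hB : ¬ ∃ k ∈ Subgroup.centralizer ({z} : Set G), k ≠ 1 ∧ (orderOf k).Coprime p)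
    {x : G} (hx1 : x ≠ 1) (hxp : ∃ k, orderOf x = p ^ k) :
    IsPGroup p (Subgroup.centralizer ({x} : Set G)) := by
  obtain ⟨k, hk⟩ := hxp
  obtain ⟨S, hS⟩ := (IsPGroup.of_card (n := k) (G := Subgroup.zpowers x)
    (by rw [Nat.card_zpowers, hk])).exists_le_sylow
  obtain ⟨g, hg⟩ := MulAction.exists_smul_eq G S P
  have hxP : g * x * g⁻¹ ∈ (P : Subgroup G) := by
    rw [← hg, Sylow.coe_subgroup_smul, Solvable.mem_conj_smul]
    simpa [mul_assoc] using hS (Subgroup.mem_zpowers x)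
  rintro ⟨u, hu⟩
  obtain ⟨a, b, hab, ha, j, hj⟩ := exists_split_pow p u
  have hua : u ^ a = 1 := by
    by_contra hne
    refine hB ⟨g * u ^ a * g⁻¹, ?_, fun e => hne (by simpa using e), ?_⟩
    · refine cn_pPrime_mem hCN P hxP (fun e => hx1 (by simpa using e)) hzP hzc ?_ ?_
      · rw [Subgroup.mem_centralizer_singleton_iff]
        have h := Subgroup.mem_centralizer_singleton_iff.mp (pow_mem hu a)
        calc g * u ^ a * g⁻¹ * (g * x * g⁻¹) = g * (u ^ a * x) * g⁻¹ := by group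
          _ = g * (x * u ^ a) * g⁻¹ := by rw [h]
          _ = _ := by group
      · rwa [show g * u ^ a * g⁻¹ = MulAut.conj g (u ^ a) from rfl,
          MulEquiv.orderOf_eq (MulAut.conj g)]
    · rwa [show g * u ^ a * g⁻¹ = MulAut.conj g (u ^ a) from rfl,
        MulEquiv.orderOf_eq (MulAut.conj g)]
  obtain ⟨t, ht⟩ : orderOf u ∣ a := orderOf_dvd_of_pow_eq_one hua
  have hbne : (orderOf u).gcd b = 1 := Nat.Coprime.coprime_dvd_left ⟨t, ht⟩ hab
  refine ⟨j, Subtype.ext ?_⟩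
  have : orderOf u = p ^ j := by rw [← hj, orderOf_pow, hbne, Nat.div_one]
  show u ^ p ^ j = 1
  rw [← this, pow_orderOf_eq_one]

end CN

end CfsgLib.Char
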