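import Cfsg.Agent.Lib.Char.Induce
import Cfsg.Agent.Lib.Char.Linear
import Cfsg.Agent.Lib.Char.Burnside
import Mathlib.GroupTheory.Nilpotent
import Mathlib.GroupTheory.SpecificGroups.Cyclic

/-!
# Imprimitivity from normal subgroups with commutative image; monomial characters
-/

namespace CfsgLib.Char

open Module
open scoped ComplexConjugate

universe u v

variable {G : Type u} [Group G]

theorem exists_irreducible_subrep [Finite G] {V : Type v} [AddCommGroup V] [Module ℂ V]
    [FiniteDimensional ℂ V] (ρ : Representation ℂ G V) [Nontrivial V] :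
    ∃ p : Subrepresentation ρ, p.toRepresentation.IsIrreducible := by
  by_contra h
  push Not at h
  have h0 : (LinearMap.id : V →ₗ[ℂ] V) = 0 :=
    eq_zero_of_forall_irreducible ρ _ fun p hp => absurd hp (h p)
  obtain ⟨v, hv⟩ := exists_ne (0 : V)
  exact hv (LinearMap.congr_fun h0 v)

/-- Schur: an operator commuting with an irreducible representation is a scalar. -/
theorem exists_scalar_of_commute {V : Type v} [AddCommGroup V] [Module ℂ V] [FiniteDimensional ℂ V]
    (ρ : Representation ℂ G V) [ρ.IsIrreducible] (T : V →ₗ[ℂ] V)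
    (hT : ∀ g, T ∘ₗ ρ g = ρ g ∘ₗ T) : ∃ c : ℂ, T = c • (LinearMap.id : V →ₗ[ℂ] V) := by
  let T' : Representation.IntertwiningMap ρ ρ := ⟨T, hT⟩
  obtain ⟨c, hc⟩ := (Representation.IsIrreducible.algebraMap_intertwiningMap_bijective_of_isAlgClosed
    (ρ := ρ) (k := ℂ)).2 T'
  refine ⟨c, ?_⟩
  have := congr_arg Representation.IntertwiningMap.toLinearMap hc
  simp only [T'] at this
  rw [← this]
  ext v
  simp [Algebra.algebraMap_eq_smul_one]

/-- If a normal subgroup has commutative, non-scalar image, an irreducible representation is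
induced from a proper subgroup containing it. -/
theorem exists_induced_of_not_scalar [Fintype G] {V : Type v} [AddCommGroup V] [Module ℂ V]
    [FiniteDimensional ℂ V] (ρ : Representation ℂ G V) [hρirr : ρ.IsIrreducible] (A : Subgroup G)
    (hN : A.Normal) (hcomm : ∀ a ∈ A, ∀ b ∈ A, ρ a * ρ b = ρ b * ρ a)
    (hns : ¬ ∀ a ∈ A, ∃ ω : ℂ, ρ a = ω • (LinearMap.id : V →ₗ[ℂ] V)) :
    ∃ (T : Subgroup G) (ψ : T → ℂ), A ≤ T ∧ T ≠ ⊤ ∧ Cfsg.IsIrrCharacter T ψ ∧
      ρ.character = Cfsg.indFun T ψ := by
  classical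
  have hVnt := nontrivial_of_isIrreducible ρ
  let σ : Representation ℂ A V := ρ.comp A.subtype
  obtain ⟨p, hp⟩ := exists_irreducible_subrep σ
  have hscal : ∀ a : A, ∃ c : ℂ, p.toRepresentation a = c • LinearMap.id := fun a => by
    refine exists_scalar_of_commute p.toRepresentation _ fun b => LinearMap.ext fun w =>
      Subtype.ext ?_
    exact LinearMap.congr_fun (hcomm a a.2 b b.2) w
  have h1 := finrank_eq_one_of_scalar p.toRepresentation hscal
  obtain ⟨lam, hlam⟩ := exists_hom_of_degree_one (isCharacter_of_rep p.toRepresentation)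
    (by rw [Representation.char_one, h1, Nat.cast_one])
  have hact : ∀ (a : A) (w : p.toSubmodule), p.toRepresentation a w = (lam a : ℂ) • w := by
    intro a w
    obtain ⟨c, hc⟩ := hscal a
    have h2 := congr_fun hlam a
    simp only [Representation.character, hc, map_smul, LinearMap.trace_id, h1, Nat.cast_one,
      smul_eq_mul, mul_one] at h2
    rw [hc, h2]
    rfl
  -- the eigenspace
  let W : Submodule ℂ V :=
    { carrier := {v | ∀ a : A, ρ (a : G) v = (lam a : ℂ) • v}
      zero_mem' := fun a => by simp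
      add_mem' := fun {x y} hx hy a => by rw [map_add, hx a, hy a, smul_add]
      smul_mem' := fun c x hx a => by rw [map_smul, hx a, smul_comm] }
  have hpW : p.toSubmodule ≤ W := fun v hv a => congr_arg Subtype.val (hact a ⟨v, hv⟩)
  let T : Subgroup G :=
    { carrier := {g | ∀ a : A, lam ⟨g * a * g⁻¹, hN.conj_mem a a.2 g⟩ = lam a}
      one_mem' := fun a => by simp
      mul_mem' := fun {x y} hx hy a => by
        rw [← hy a, ← hx ⟨y * a * y⁻¹, hN.conj_mem a a.2 y⟩]
        congr 1
        ext
        simp [mul_assoc]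
      inv_mem' := fun {x} hx a => by
        rw [← hx ⟨x⁻¹ * a * x⁻¹⁻¹, hN.conj_mem a a.2 x⁻¹⟩]
        congr 1
        ext
        simp [mul_assoc] }
  have hAT : A ≤ T := fun g hg a => by
    have e : (⟨g * a * g⁻¹, hN.conj_mem a a.2 g⟩ : A) = ⟨g, hg⟩ * a * ⟨g, hg⟩⁻¹ := rfl
    rw [e, map_mul, map_mul, map_inv, mul_comm (lam ⟨g, hg⟩), mul_inv_cancel_right]
  have hconj : ∀ (g : G) (a : A) (v : V), v ∈ W →
      ρ (a : G) (ρ g v) = (lam ⟨g⁻¹ * a * g, by
        simpa using hN.conj_mem a a.2 g⁻¹⟩ : ℂ) • ρ g v := by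
    intro g a v hv
    have h2 := hv ⟨g⁻¹ * a * g, by simpa using hN.conj_mem a a.2 g⁻¹⟩
    rw [← map_smul, ← h2, ← Module.End.mul_apply, ← map_mul, ← Module.End.mul_apply, ← map_mul]
    simp [mul_assoc]
  have hTinv : ∀ t : T, ∀ v ∈ W, ρ (t : G) v ∈ W := by
    intro t v hv a
    rw [hconj t a v hv]
    congr 2
    have h2 := T.inv_mem t.2 a
    simpa using h2
  have hTne : T ≠ ⊤ := by
    intro htop
    apply hns
    intro a ha
    let q : Subrepresentation ρ := ⟨W, fun g v hv => hTinv ⟨g, htop ▸ Subgroup.mem_top g⟩ v hv⟩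
    rcases eq_bot_or_eq_top q with hq | hq
    · exfalso
      have hbot : W = ⊥ := congr_arg Subrepresentation.toSubmodule hq
      have := nontrivial_of_isIrreducible p.toRepresentation
      obtain ⟨w, hw⟩ := exists_ne (0 : p.toSubmodule)
      exact hw (Subtype.ext ((Submodule.mem_bot ℂ).mp (hbot ▸ hpW w.2)))
    · have hWtop : W = ⊤ := congr_arg Subrepresentation.toSubmodule hq
      exact ⟨(lam ⟨a, ha⟩ : ℂ), LinearMap.ext fun v =>
        (hWtop ▸ Submodule.mem_top : v ∈ W) ⟨a, ha⟩⟩
  let σT : Representation ℂ T W :=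
    { toFun := fun t => (ρ (t : G)).restrict fun v hv => hTinv t v hv
      map_one' := by ext; simp
      map_mul' := fun s t => by ext; simp }
  let ψ : T → ℂ := σT.character
  have hψchar : Cfsg.IsCharacter T ψ := isCharacter_of_rep σT
  -- `χ` is a constituent of the induced character
  have := Fintype.ofFinite T
  let ι : Representation.IntertwiningMap σT (ρ.comp T.subtype) :=
    ⟨W.subtype, fun t => rfl⟩
  have hW0 : 0 < finrank ℂ W := by
    have := nontrivial_of_isIrreducible p.toRepresentation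
    exact lt_of_lt_of_le finrank_pos (Submodule.finrank_mono hpW)
  have hι : ι ≠ 0 := by
    intro h0
    have := Module.finrank_pos_iff.mp hW0
    obtain ⟨w, hw⟩ := exists_ne (0 : W)
    apply hw
    have h2 := congr_arg (fun f : Representation.IntertwiningMap σT (ρ.comp T.subtype) => f w) h0
    exact Subtype.ext h2
  have hinner : Cfsg.classInner (Cfsg.indFun T ψ) ρ.character ≠ 0 := by
    rw [frobenius_reciprocity T ψ _ (irr_isClassFunction (isIrrCharacter_of_rep ρ))]
    intro h0
    have h2 := congr_arg conj h0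
    rw [classInner_conj_symm, map_zero] at h2
    change Cfsg.classInner (Representation.character (ρ.comp T.subtype)) σT.character = 0 at h2
    rw [classInner_char_eq_finrank, Nat.cast_eq_zero] at h2
    have : Nontrivial (Representation.IntertwiningMap σT (ρ.comp T.subtype)) := ⟨⟨ι, 0, hι⟩⟩
    have h3 := Module.finrank_pos (R := ℂ)
      (M := Representation.IntertwiningMap σT (ρ.comp T.subtype))
    omega
  -- the degree bound
  have := Fintype.ofFinite (G ⧸ T)
  have := Fintype.ofFinite A
  let mu : (G ⧸ T) → (A →* ℂˣ) := fun q => lam.comp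
    (((MulAut.conj (Quotient.out q)⁻¹).toMonoidHom.comp A.subtype).codRestrict A
      fun a => by simpa using hN.conj_mem a a.2 (Quotient.out q)⁻¹)
  have hmu : ∀ q (a : A) (v : V), v ∈ W →
      ρ (a : G) (ρ (Quotient.out q) v) = (mu q a : ℂ) • ρ (Quotient.out q) v := by
    intro q a v hv
    rw [hconj _ a v hv]
    congr 2
    simp [mu]
  have hmuinj : Function.Injective mu := by
    intro q q' h
    have hmem : (Quotient.out q)⁻¹ * Quotient.out q' ∈ T := by
      intro a
      have h2 := DFunLike.congr_fun h (⟨Quotient.out q' * a * (Quotient.out q')⁻¹,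
        hN.conj_mem a a.2 _⟩ : A)
      simp only [mu, MonoidHom.comp_apply] at h2
      refine Eq.trans (congr_arg lam (Subtype.ext ?_)) (h2.trans (congr_arg lam (Subtype.ext ?_)))
      · simp [mul_assoc]
      · simp [mul_assoc]
    rw [← QuotientGroup.out_eq' q, ← QuotientGroup.out_eq' q']
    exact QuotientGroup.eq.mpr hmem
  let F : ((G ⧸ T) → W) →ₗ[ℂ] V :=
    ∑ q : G ⧸ T, (ρ (Quotient.out q)).comp (W.subtype.comp (LinearMap.proj q))
  have hFinj : Function.Injective F := by
    rw [← LinearMap.ker_eq_bot, LinearMap.ker_eq_bot']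
    intro f hf
    ext q
    have h2 := congr_arg (fun v => ∑ a : A, conj (mu q a : ℂ) • ρ (a : G) v) hf
    simp only [F, LinearMap.sum_apply, LinearMap.comp_apply, map_sum, map_zero, smul_zero,
      Finset.sum_const_zero, Finset.smul_sum] at h2
    rw [Finset.sum_comm] at h2
    have h3 : ∀ q', ∑ a : A, conj (mu q a : ℂ) • ρ (a : G)
        (ρ (Quotient.out q') (f q' : V)) = ((Nat.card A : ℂ) * Cfsg.classInner
          (fun a => (mu q' a : ℂ)) (fun a => (mu q a : ℂ))) • ρ (Quotient.out q') (f q' : V) := by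
      intro q'
      rw [classInner_def, ← mul_assoc, mul_inv_cancel₀ natCard_ne_zero, one_mul, Finset.sum_smul]
      refine Finset.sum_congr rfl fun a _ => ?_
      rw [hmu q' a _ (f q').2, smul_smul, mul_comm]
    have h4 : ∑ q' : G ⧸ T, ((Nat.card A : ℂ) * Cfsg.classInner
        (fun a => (mu q' a : ℂ)) (fun a => (mu q a : ℂ))) • ρ (Quotient.out q') (f q' : V) = 0 := by
      exact (Fintype.sum_congr _ _ fun q' => h3 q').symm.trans h2
    have hother : ∀ q' : G ⧸ T, q' ≠ q → ((Nat.card A : ℂ) * Cfsg.classInner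
        (fun a => (mu q' a : ℂ)) (fun a => (mu q a : ℂ))) • ρ (Quotient.out q') (f q' : V) = 0 := by
      intro q' hne
      rw [irr_classInner_ne (isIrrCharacter_linear _) (isIrrCharacter_linear _) (fun h =>
        hne (hmuinj (MonoidHom.ext fun a => Units.ext (congr_fun h a)))), mul_zero, zero_smul]
    have h5 := (Fintype.sum_eq_single q hother).symm.trans h4
    rw [irr_classInner_self (isIrrCharacter_linear _), mul_one, smul_eq_zero] at h5
    have h6 := congr_arg (ρ (Quotient.out q)⁻¹) (h5.resolve_left natCard_ne_zero)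
    rw [map_zero, ← Module.End.mul_apply, ← map_mul, inv_mul_cancel, map_one,
      Module.End.one_apply] at h6
    simpa using h6
  have hdim : T.index * finrank ℂ W ≤ finrank ℂ V := by
    have := LinearMap.finrank_le_finrank_of_injective hFinj
    rw [Module.finrank_pi_fintype, Finset.sum_const, smul_eq_mul, Finset.card_univ,
      ← Nat.card_eq_fintype_card, ← T.index_eq_card] at this
    exact this
  -- compare
  have hindchar := isCharacter_indFun T hψchar
  obtain ⟨l, hl, hsum⟩ := isCharacter_exists_multiset hindchar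
  have hmem : ρ.character ∈ l := by
    by_contra hnm
    apply hinner
    have hz : ∀ s : Multiset (G → ℂ), (∀ χ ∈ s, Cfsg.IsIrrCharacter G χ ∧ χ ≠ ρ.character) →
        Cfsg.classInner s.sum ρ.character = 0 := fun s => by
      induction s using Multiset.induction with
      | empty => intro _; simp [classInner_zero_left]
      | cons a s ih =>
        intro h
        rw [Multiset.sum_cons, classInner_add_left,
          ih fun χ hχ => h χ (Multiset.mem_cons_of_mem hχ),
          irr_classInner_ne (h a (Multiset.mem_cons_self a s)).1 (isIrrCharacter_of_rep ρ)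
            (h a (Multiset.mem_cons_self a s)).2, add_zero]
    rw [hsum]
    exact hz l fun χ hχ => ⟨hl χ hχ, fun h => hnm (h ▸ hχ)⟩
  obtain ⟨l', rfl⟩ := Multiset.exists_cons_of_mem hmem
  rw [Multiset.sum_cons] at hsum
  have hl'0 : l' = 0 := by
    by_contra hne
    obtain ⟨τ, hτ⟩ := Multiset.exists_mem_of_ne_zero hne
    obtain ⟨l'', rfl⟩ := Multiset.exists_cons_of_mem hτ
    obtain ⟨d, hd, hd1⟩ := irr_apply_one_pos (hl τ (by simp))
    obtain ⟨e, he1⟩ := char_apply_one_eq_nat (G := G) (isCharacter_multiset_sum (l := l'')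
      fun χ hχ => irr_isCharacter (hl χ (by simp [hχ])))
    have h2 := congr_fun hsum 1
    simp only [Multiset.sum_cons, Pi.add_apply, indFun_apply_one, Representation.char_one, hd1,
      he1, ψ] at h2
    have h3 : T.index * finrank ℂ W = finrank ℂ V + (d + e) := by exact_mod_cast h2
    omega
  subst hl'0
  rw [Multiset.sum_zero, add_zero] at hsum
  refine ⟨T, ψ, hAT, hTne, isIrrCharacter_iff.mpr ⟨hψchar, ?_⟩, hsum.symm⟩
  obtain ⟨k, hk, hk1⟩ := classInner_self_pos_nat σT hW0
  have h5 : Cfsg.classInner ψ (fun t : T => Cfsg.indFun T ψ t) = 1 := by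
    rw [← frobenius_reciprocity T ψ _ (indFun_isClassFunction T ψ), hsum,
      irr_classInner_self (isIrrCharacter_of_rep ρ)]
  have hres : Cfsg.IsCharacter T ((fun t : T => Cfsg.indFun T ψ t) - ψ) := by
    have : Cfsg.IsCharacter T (fun t : T => Cfsg.indFun T ψ t) := isCharacter_restrict hindchar T
    obtain ⟨q, hq⟩ := exists_isCompl (⟨W, fun t v hv => hTinv t v hv⟩ :
      Subrepresentation (ρ.comp T.subtype : Representation ℂ T V))
    have h6 : (fun t : T => Cfsg.indFun T ψ t) = ψ + q.toRepresentation.character := by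
      rw [hsum]
      exact char_compl _ q hq
    rw [h6, add_sub_cancel_left]
    exact isCharacter_of_rep _
  obtain ⟨j, hj⟩ := classInner_isCharacter_nat hψchar hres
  rw [classInner_sub_right, h5, hk1] at hj
  have hjk : ((j + k : ℕ) : ℂ) = ((1 : ℕ) : ℂ) := by push_cast; linear_combination -hj
  have := Nat.cast_inj.mp hjk
  have hkk : k = 1 := by omega
  show Cfsg.classInner σT.character σT.character = 1
  rw [hk1, hkk, Nat.cast_one]

/-- Induce in stages from a subgroup of a subgroup. -/
theorem indFun_map_subtype [Fintype G] (T : Subgroup G) [Fintype T] (H : Subgroup T) (θ : H → ℂ) :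
    Cfsg.indFun T (Cfsg.indFun H θ) =
      Cfsg.indFun (H.map T.subtype)
        (θ ∘ (Subgroup.equivMapOfInjective H T.subtype T.subtype_injective).symm) := by
  set θ' := θ ∘ (Subgroup.equivMapOfInjective H T.subtype T.subtype_injective).symm
  rw [← indFun_trans (H.map T.subtype) T (Subgroup.map_subtype_le H) θ']
  congr 1
  ext x
  simp only [indFun_def]
  have e : (H.map T.subtype).subgroupOf T = H :=
    Subgroup.comap_map_eq_self_of_injective T.subtype_injective H
  congr 1
  · rw [e]
  refine Finset.sum_congr rfl fun y _ => ?_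
  by_cases hy : y⁻¹ * x * y ∈ H
  · have hy' : y⁻¹ * x * y ∈ (H.map T.subtype).subgroupOf T := e.symm ▸ hy
    rw [extendByZero_of_mem θ hy, extendByZero_of_mem _ hy']
    show θ _ = θ _
    congr 1
    rw [MulEquiv.eq_symm_apply]
    rfl
  · rw [extendByZero_of_not_mem θ hy, extendByZero_of_not_mem _ fun h => hy (e ▸ h)]

/-- A group with a cyclic normal subgroup with nilpotent quotient. -/
def IsCyclicByNilpotent (G : Type u) [Group G] : Prop :=
  ∃ (C : Subgroup G) (_ : C.Normal), IsCyclic C ∧ Group.IsNilpotent (G ⧸ C)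

theorem isCyclicByNilpotent_of_isNilpotent [Group.IsNilpotent G] : IsCyclicByNilpotent G :=
  ⟨⊥, inferInstance, inferInstance, inferInstance⟩

theorem isCyclicByNilpotent_subgroup (h : IsCyclicByNilpotent G) (T : Subgroup G) :
    IsCyclicByNilpotent T := by
  obtain ⟨C, hC, hcyc, hnil⟩ := h
  refine ⟨C.subgroupOf T, inferInstance, ?_, ?_⟩
  · exact isCyclic_of_injective
      (⟨⟨fun x => ⟨((x : T) : G), Subgroup.mem_subgroupOf.mp x.2⟩, rfl⟩, fun _ _ => rfl⟩ :
        C.subgroupOf T →* C)
      fun a b h => Subtype.ext (Subtype.ext (congr_arg (fun z : C => (z : G)) h))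
  · let f : T ⧸ C.subgroupOf T →* G ⧸ C :=
      QuotientGroup.map (C.subgroupOf T) C T.subtype le_rfl
    refine Subgroup.isNilpotent_of_ker_le_center f (le_trans ?_ bot_le) (H := G ⧸ C)
    intro x hx
    induction x using QuotientGroup.induction_on with
    | H z =>
      rw [MonoidHom.mem_ker, show f (z : T ⧸ C.subgroupOf T) = ((z : G) : G ⧸ C) from rfl] at hx
      exact (QuotientGroup.eq_one_iff z).mpr
        (Subgroup.mem_subgroupOf.mpr ((QuotientGroup.eq_one_iff _).mp hx))

theorem isCyclicByNilpotent_surjective {Q : Type*} [Group Q] (h : IsCyclicByNilpotent G)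
    (f : G →* Q) (hf : Function.Surjective f) : IsCyclicByNilpotent Q := by
  obtain ⟨C, hC, hcyc, hnil⟩ := h
  have : (C.map f).Normal := Subgroup.Normal.map hC f hf
  refine ⟨C.map f, this, ?_, ?_⟩
  · exact isCyclic_of_surjective (f.subgroupMap C) (f.subgroupMap_surjective C)
  · let g : G ⧸ C →* Q ⧸ C.map f :=
      QuotientGroup.map C (C.map f) f (Subgroup.le_comap_map f C)
    refine Group.nilpotent_of_surjective g ?_
    intro x
    induction x using QuotientGroup.induction_on with
    | H z =>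
      obtain ⟨w, rfl⟩ := hf z
      exact ⟨(w : G ⧸ C), rfl⟩

theorem exists_abelian_normal_not_central (h : IsCyclicByNilpotent G)
    (hab : ¬ ∀ a b : G, a * b = b * a) :
    ∃ A : Subgroup G, A.Normal ∧ (∀ a ∈ A, ∀ b ∈ A, a * b = b * a) ∧
      ¬ A ≤ Subgroup.center G := by
  obtain ⟨C, hC, hcyc, hnil⟩ := h
  by_cases hCZ : C ≤ Subgroup.center G
  swap
  · exact ⟨C, hC, fun a ha b hb => congr_arg Subtype.val
      (hcyc.commGroup.mul_comm ⟨a, ha⟩ ⟨b, hb⟩), hCZ⟩
  have : Group.IsNilpotent G := Subgroup.isNilpotent_of_ker_le_center (QuotientGroup.mk' C)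
    (by rw [QuotientGroup.ker_mk']; exact hCZ)
  have hZ : Subgroup.center G ≠ ⊤ := fun ht => hab fun a b =>
    Subgroup.mem_center_iff.mp (ht ▸ Subgroup.mem_top b) a
  have : Nontrivial (G ⧸ Subgroup.center G) := QuotientGroup.nontrivial_iff.mpr hZ
  have : Group.IsNilpotent (G ⧸ Subgroup.center G) :=
    Group.nilpotent_of_surjective _ (QuotientGroup.mk'_surjective _)
  have : Nontrivial (Subgroup.center (G ⧸ Subgroup.center G)) :=
    (Subgroup.nontrivial_iff_ne_bot _).mpr (Group.IsNilpotent.center_ne_bot _)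
  obtain ⟨⟨zb, hzb⟩, hz1⟩ := exists_ne (1 : Subgroup.center (G ⧸ Subgroup.center G))
  obtain ⟨z, rfl⟩ := QuotientGroup.mk'_surjective (Subgroup.center G) zb
  let A := (Subgroup.zpowers (QuotientGroup.mk' (Subgroup.center G) z)).comap
    (QuotientGroup.mk' (Subgroup.center G))
  have hnorm : (Subgroup.zpowers (QuotientGroup.mk' (Subgroup.center G) z)).Normal := by
    refine ⟨fun x hx g => ?_⟩
    have hxc : x ∈ Subgroup.center (G ⧸ Subgroup.center G) :=
      Subgroup.zpowers_le.mpr hzb hx
    rw [Subgroup.mem_center_iff.mp hxc g, mul_inv_cancel_right]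
    exact hx
  have hmem : ∀ a ∈ A, ∃ (i : ℤ) (c : G), c ∈ Subgroup.center G ∧ a = z ^ i * c := fun a ha => by
    obtain ⟨i, hi⟩ := Subgroup.mem_zpowers_iff.mp (Subgroup.mem_comap.mp ha)
    refine ⟨i, (z ^ i)⁻¹ * a, ?_, by group⟩
    rw [← map_zpow] at hi
    exact QuotientGroup.eq.mp hi
  refine ⟨A, hnorm.comap _, fun a ha b hb => ?_, fun hle => hz1 ?_⟩
  · obtain ⟨i, c, hc, rfl⟩ := hmem a ha
    obtain ⟨j, d, hd, rfl⟩ := hmem b hb
    have h1 : Commute (z ^ i) (z ^ j) := Commute.zpow_zpow_self z i j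
    have h2 : ∀ g, Commute g c := fun g => Subgroup.mem_center_iff.mp hc g
    have h3 : ∀ g, Commute g d := fun g => Subgroup.mem_center_iff.mp hd g
    exact ((h1.mul_right (h3 _)).mul_left ((h2 _).symm)).eq
  · exact Subtype.ext ((QuotientGroup.eq_one_iff z).mpr
      (hle (Subgroup.mem_comap.mpr (Subgroup.mem_zpowers _))))

/-- Monomiality of irreducible characters of cyclic-by-nilpotent groups. -/
theorem monomial_of_isCyclicByNilpotent : ∀ (G : Type u) [Group G] [Fintype G],
    IsCyclicByNilpotent G → ∀ χ : G → ℂ, Cfsg.IsIrrCharacter G χ →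
      ∃ (H : Subgroup G) (lam : H →* ℂˣ), χ = Cfsg.indFun H (fun h => (lam h : ℂ)) := by
  suffices ∀ (n : ℕ) (G : Type u) [Group G] [Fintype G], Nat.card G = n →
      IsCyclicByNilpotent G → ∀ χ : G → ℂ, Cfsg.IsIrrCharacter G χ →
        ∃ (H : Subgroup G) (lam : H →* ℂˣ), χ = Cfsg.indFun H (fun h => (lam h : ℂ)) from
    fun G _ _ h => this _ G rfl h
  intro n
  induction n using Nat.strong_induction_on with
  | _ n ih =>
    intro G _ _ hn hG χ hχ
    by_cases hdeg : χ 1 = 1
    · obtain ⟨lam, hlam⟩ := exists_hom_of_degree_one (irr_isCharacter hχ) hdeg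
      refine ⟨⊤, lam.comp Subgroup.topEquiv.toMonoidHom, ?_⟩
      rw [hlam]
      ext g
      rw [indFun_def]
      have hterm : ∀ x : G, Cfsg.extendByZero (⊤ : Subgroup G)
          (fun h => ((lam.comp Subgroup.topEquiv.toMonoidHom) h : ℂ)) (x⁻¹ * g * x) =
            (lam g : ℂ) := fun x => by
        rw [extendByZero_of_mem _ (Subgroup.mem_top _)]
        simp [mul_comm]
      rw [Finset.sum_congr rfl fun x _ => hterm x, Finset.sum_const, Finset.card_univ,
        nsmul_eq_mul, Subgroup.card_top, ← Nat.card_eq_fintype_card,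
        inv_mul_cancel_left₀ natCard_ne_zero]
    obtain ⟨m, ρ, hρ, rfl⟩ := hχ
    have hKN : (MonoidHom.ker ρ : Subgroup G).Normal := MonoidHom.normal_ker ρ
    have hQab : ¬ ∀ a b : G ⧸ MonoidHom.ker ρ, a * b = b * a := by
      intro hc
      apply hdeg
      obtain ⟨ψ, hψ, hψe⟩ := isIrr_quotient_lift (MonoidHom.ker ρ)
        (isIrrCharacter_of_rep ρ) fun k hk => (mem_ker_iff_char ρ k).mp hk
      rw [hψe, Function.comp_apply, map_one]
      exact irr_degree_one_of_comm hc hψ
    obtain ⟨A, hAn, hAc, hAnc⟩ := exists_abelian_normal_not_central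
      (isCyclicByNilpotent_surjective hG _ (QuotientGroup.mk'_surjective _)) hQab
    have hns : ¬ ∀ a ∈ A.comap (QuotientGroup.mk' (MonoidHom.ker ρ)),
        ∃ ω : ℂ, ρ a = ω • (LinearMap.id : (Fin m → ℂ) →ₗ[ℂ] (Fin m → ℂ)) := by
      intro hs
      apply hAnc
      intro q hq
      obtain ⟨a, rfl⟩ := QuotientGroup.mk'_surjective _ q
      obtain ⟨ω, hω⟩ := hs a hq
      rw [Subgroup.mem_center_iff]
      intro y
      obtain ⟨b, rfl⟩ := QuotientGroup.mk'_surjective _ y
      rw [← map_mul, ← map_mul]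
      refine (MonoidHom.eq_iff (QuotientGroup.mk' (MonoidHom.ker ρ))).mpr ?_
      rw [QuotientGroup.ker_mk', MonoidHom.mem_ker]
      have h1 : ρ (b * a) = ρ (a * b) := by
        ext v; simp [map_mul, hω]
      rw [map_mul, h1, ← map_mul, inv_mul_cancel, map_one]
    have hcomm : ∀ a ∈ A.comap (QuotientGroup.mk' (MonoidHom.ker ρ)),
        ∀ b ∈ A.comap (QuotientGroup.mk' (MonoidHom.ker ρ)), ρ a * ρ b = ρ b * ρ a := by
      intro a ha b hb
      have h1 := hAc _ ha _ hb
      rw [← map_mul, ← map_mul, MonoidHom.eq_iff, QuotientGroup.ker_mk', MonoidHom.mem_ker] at h1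
      have h2 : ρ (b * a) * ρ ((b * a)⁻¹ * (a * b)) = ρ (b * a) := by rw [h1, mul_one]
      rw [← map_mul, mul_inv_cancel_left] at h2
      rw [← map_mul, ← map_mul, h2]
    obtain ⟨T, ψ, -, hT, hψ, he⟩ := exists_induced_of_not_scalar ρ _ (hAn.comap _) hcomm hns
    have := Fintype.ofFinite T
    have hlt : Nat.card T < n := by
      rw [← hn]
      exact lt_of_le_of_ne (Nat.le_of_dvd Nat.card_pos T.card_subgroup_dvd_card)
        fun h => hT (Subgroup.eq_top_of_card_eq T h)
    obtain ⟨H, lam, hψe⟩ := ih _ hlt T rfl (isCyclicByNilpotent_subgroup hG T) ψ hψ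
    refine ⟨H.map T.subtype,
      lam.comp (Subgroup.equivMapOfInjective H T.subtype T.subtype_injective).symm.toMonoidHom, ?_⟩
    rw [he, hψe, indFun_map_subtype]
    rfl

end CfsgLib.Char
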