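import Cfsg.Agent.Lib.Char.Induce
import Cfsg.Agent.Lib.Char.Linear
import Mathlib.Algebra.Group.Conj

/-!
# Fixed characters versus fixed classes; real characters; Frobenius groups
-/

namespace CfsgLib.Char

open scoped ComplexConjugate

universe u

variable {G : Type u} [Group G]

/-- Brauer's permutation lemma, counted. -/
theorem natCard_fixed_irr_eq [Finite G] (β : G → G)
    (hirr : ∀ χ, Cfsg.IsIrrCharacter G χ → Cfsg.IsIrrCharacter G (χ ∘ β)) :
    Nat.card {χ : Cfsg.IrrCharacter G // (χ : G → ℂ) ∘ β = (χ : G → ℂ)} =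
      Nat.card {C : ConjClasses G // ∀ g, ConjClasses.mk g = C → IsConj (β g) g} := by
  classical
  have := Fintype.ofFinite G
  have := Fintype.ofFinite (Cfsg.IrrCharacter G)
  have : Finite (ConjClasses G) := Finite.of_surjective _ ConjClasses.mk_surjective
  have := Fintype.ofFinite (ConjClasses G)
  have h1 : (Nat.card {χ : Cfsg.IrrCharacter G // (χ : G → ℂ) ∘ β = (χ : G → ℂ)} : ℂ) =
      ∑ χ : Cfsg.IrrCharacter G, Cfsg.classInner ((χ : G → ℂ) ∘ β) (χ : G → ℂ) := by
    rw [Nat.card_eq_fintype_card, Fintype.card_subtype, ← Finset.sum_boole]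
    exact Finset.sum_congr rfl fun χ _ => (irr_classInner (hirr _ χ.2) χ.2).symm
  have hcl : ∀ g g' : G, IsConj g g' → IsConj (β g) g → IsConj (β g') g' := fun g g' hgg' hb => by
    have h2 : IsConj (β g) (β g') := by
      rw [isConj_iff_forall_irr]
      intro χ
      exact isClassFunction_isConj (irr_isClassFunction (hirr _ χ.2)) hgg'
    exact h2.symm.trans (hb.trans hgg')
  have h2 : ∑ χ : Cfsg.IrrCharacter G, Cfsg.classInner ((χ : G → ℂ) ∘ β) (χ : G → ℂ) =
      (Nat.card {C : ConjClasses G // ∀ g, ConjClasses.mk g = C → IsConj (β g) g} : ℂ) := by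
    simp only [classInner_def, ← Finset.mul_sum, Function.comp_apply]
    rw [Finset.sum_comm]
    simp only [column_orthogonality]
    rw [← Finset.sum_fiberwise Finset.univ ConjClasses.mk, Finset.mul_sum,
      show (Nat.card {C : ConjClasses G // ∀ g, ConjClasses.mk g = C → IsConj (β g) g} : ℂ) =
        ∑ C : ConjClasses G, if ∀ g, ConjClasses.mk g = C → IsConj (β g) g then 1 else 0 by
          rw [Finset.sum_boole, Nat.card_eq_fintype_card, Fintype.card_subtype]]
    refine Finset.sum_congr rfl fun C _ => ?_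
    obtain ⟨h, rfl⟩ := ConjClasses.mk_surjective C
    by_cases hh : IsConj (β h) h
    · rw [if_pos fun g hg => hcl h g (ConjClasses.mk_eq_mk_iff_isConj.mp hg).symm hh]
      have hcard : ∀ g ∈ Finset.univ.filter (fun g : G => ConjClasses.mk g = ConjClasses.mk h),
          (if IsConj (β g) g then (Nat.card (Subgroup.centralizer ({β g} : Set G)) : ℂ) else 0) =
            (Nat.card G : ℂ) / (Nat.card (ConjClasses.mk h).carrier : ℂ) := fun g hg => by
        have hgh := (ConjClasses.mk_eq_mk_iff_isConj.mp (Finset.mem_filter.mp hg).2).symm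
        have hb := hcl h g hgh hh
        rw [if_pos hb]
        have e : ConjClasses.mk (β g) = ConjClasses.mk h :=
          ConjClasses.mk_eq_mk_iff_isConj.mpr (hb.trans hgh.symm)
        have h3 := natCard_carrier_mul_centralizer (β g)
        rw [e] at h3
        have hne : (Nat.card (ConjClasses.mk h).carrier : ℂ) ≠ 0 := by
          have : Nonempty (ConjClasses.mk h).carrier := ⟨⟨h, ConjClasses.mem_carrier_mk⟩⟩
          exact_mod_cast Nat.card_pos.ne'
        rw [eq_div_iff hne, ← h3]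
        push_cast; ring
      rw [Finset.sum_congr rfl hcard, Finset.sum_const, nsmul_eq_mul]
      have hne : (Nat.card (ConjClasses.mk h).carrier : ℂ) ≠ 0 := by
        have : Nonempty (ConjClasses.mk h).carrier := ⟨⟨h, ConjClasses.mem_carrier_mk⟩⟩
        exact_mod_cast Nat.card_pos.ne'
      have hc : (Finset.univ.filter (fun g : G => ConjClasses.mk g = ConjClasses.mk h)).card =
          Nat.card (ConjClasses.mk h).carrier := by
        rw [Nat.card_eq_fintype_card, Fintype.card_subtype]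
        congr 1
        ext x
        simp [ConjClasses.mem_carrier_iff_mk_eq]
      rw [hc]
      have := natCard_ne_zero (G := G)
      field_simp
    · rw [if_neg fun hall => hh (hall h rfl), Finset.sum_eq_zero, mul_zero]
      intro g hg
      rw [if_neg fun hb => hh (hcl g h (ConjClasses.mk_eq_mk_iff_isConj.mp
        (Finset.mem_filter.mp hg).2) hb)]
  exact_mod_cast h1.trans h2

theorem natCard_fixed_irr_equiv [Finite G] (α : G ≃* G) :
    Nat.card {C : ConjClasses G // ConjClasses.map α.toMonoidHom C = C} =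
      Nat.card {χ : Cfsg.IrrCharacter G // (χ : G → ℂ) ∘ α = (χ : G → ℂ)} := by
  rw [natCard_fixed_irr_eq α fun χ h =>
    isIrrCharacter_comp_surjective h α.toMonoidHom α.surjective]
  refine Nat.card_congr (Equiv.subtypeEquivRight fun C => ?_)
  refine ⟨fun h g hg => ?_, fun h => ?_⟩
  · subst hg
    exact ConjClasses.mk_eq_mk_iff_isConj.mp h
  · obtain ⟨g, rfl⟩ := ConjClasses.mk_surjective C
    exact ConjClasses.mk_eq_mk_iff_isConj.mpr (h g rfl)

theorem real_iff_comp_inv [Finite G] {χ : G → ℂ} (hχ : Cfsg.IsCharacter G χ) :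
    (∀ g, (χ g).im = 0) ↔ χ ∘ (fun g => g⁻¹) = χ := by
  rw [funext_iff]
  refine forall_congr' fun g => ?_
  rw [Function.comp_apply, char_inv hχ, Complex.conj_eq_iff_im]

theorem natCard_real_irr [Finite G] :
    Nat.card {χ : Cfsg.IrrCharacter G // ∀ g : G, ((χ : G → ℂ) g).im = 0} =
      Nat.card {C : ConjClasses G // ∀ g : G, ConjClasses.mk g = C → IsConj g g⁻¹} := by
  have h := natCard_fixed_irr_eq (G := G) (fun g => g⁻¹) fun χ hχ => by
    convert isIrrCharacter_conj hχ using 1
    exact funext fun g => char_inv (irr_isCharacter hχ) g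
  rw [Nat.card_congr (Equiv.subtypeEquivRight fun χ : Cfsg.IrrCharacter G =>
    real_iff_comp_inv (irr_isCharacter χ.2)), h]
  exact Nat.card_congr (Equiv.subtypeEquivRight fun C =>
    forall₂_congr fun g _ => ⟨IsConj.symm, IsConj.symm⟩)

theorem mem_zpowers_sq_of_odd [Finite G] (hodd : Odd (Nat.card G)) (x : G) :
    x ∈ Subgroup.zpowers (x ^ 2) := by
  obtain ⟨k, hk⟩ := hodd
  refine Subgroup.mem_zpowers_iff.mpr ⟨(k + 1 : ℕ), ?_⟩
  rw [zpow_natCast, ← pow_mul, show 2 * (k + 1) = Nat.card G + 1 by omega, pow_succ,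
    pow_card_eq_one', one_mul]

theorem isConj_inv_odd [Finite G] (hodd : Odd (Nat.card G)) {g : G} (h : IsConj g g⁻¹) :
    g = 1 := by
  obtain ⟨x, hx⟩ := isConj_iff.mp h
  have hx2 : x ^ 2 ∈ Subgroup.centralizer ({g} : Set G) := by
    rw [Subgroup.mem_centralizer_singleton_iff]
    have h2 : (x ^ 2) * g * (x ^ 2)⁻¹ = g := by
      have : x * (x * g * x⁻¹) * x⁻¹ = g := by
        rw [hx, ← conj_inv, hx, inv_inv]
      exact (show x ^ 2 * g * (x ^ 2)⁻¹ = x * (x * g * x⁻¹) * x⁻¹ by simp [sq, mul_assoc]).trans this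
    calc x ^ 2 * g = x ^ 2 * g * (x ^ 2)⁻¹ * x ^ 2 := by group
      _ = g * x ^ 2 := by rw [h2]
  have hxc := (Subgroup.zpowers_le.mpr hx2) (mem_zpowers_sq_of_odd hodd x)
  rw [Subgroup.mem_centralizer_singleton_iff] at hxc
  rw [hxc, mul_inv_cancel_right] at hx
  have hg2 : g ^ 2 = 1 := by rw [sq]; nth_rewrite 2 [hx]; exact mul_inv_cancel g
  have := (mem_zpowers_sq_of_odd hodd g)
  rw [hg2, Subgroup.zpowers_one_eq_bot, Subgroup.mem_bot] at this
  exact this

theorem eq_one_of_real_odd [Finite G] (hodd : Odd (Nat.card G)) {χ : G → ℂ}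
    (hχ : Cfsg.IsIrrCharacter G χ) (hreal : ∀ g : G, (χ g).im = 0) : χ = fun _ => 1 := by
  have : Finite (ConjClasses G) := Finite.of_surjective _ ConjClasses.mk_surjective
  have h1 : Subsingleton {C : ConjClasses G // ∀ g : G, ConjClasses.mk g = C → IsConj g g⁻¹} := by
    refine ⟨fun A B => Subtype.ext ?_⟩
    obtain ⟨a, ha⟩ := ConjClasses.mk_surjective A.1
    obtain ⟨b, hb⟩ := ConjClasses.mk_surjective B.1
    rw [← ha, ← hb, isConj_inv_odd hodd (A.2 a ha), isConj_inv_odd hodd (B.2 b hb)]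
  have h2 : Subsingleton {χ : Cfsg.IrrCharacter G // ∀ g : G, ((χ : G → ℂ) g).im = 0} := by
    rw [← Finite.card_le_one_iff_subsingleton, natCard_real_irr,
      Finite.card_le_one_iff_subsingleton]
    exact h1
  have h3 := Subsingleton.elim
    (⟨⟨χ, hχ⟩, hreal⟩ : {χ : Cfsg.IrrCharacter G // ∀ g : G, ((χ : G → ℂ) g).im = 0})
    ⟨⟨fun _ => 1, isIrrCharacter_one⟩, fun _ => Complex.one_im⟩
  exact congr_arg (fun z : {χ : Cfsg.IrrCharacter G // ∀ g : G, ((χ : G → ℂ) g).im = 0} =>
    (z.1 : G → ℂ)) h3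

section Normal

variable [Fintype G] (H : Subgroup G) (hN : H.Normal)

theorem isIrr_conj_normal {θ : H → ℂ} (hθ : Cfsg.IsIrrCharacter H θ) (g : G) :
    Cfsg.IsIrrCharacter H (fun h : H => θ ⟨g * h * g⁻¹, hN.conj_mem h h.2 g⟩) := by
  let e : H →* H :=
    { toFun := fun h => ⟨g * h * g⁻¹, hN.conj_mem h h.2 g⟩
      map_one' := Subtype.ext (by simp)
      map_mul' := fun a b => Subtype.ext (by simp) }
  refine isIrrCharacter_comp_surjective hθ e fun h =>
    ⟨⟨g⁻¹ * h * g, by simpa using hN.conj_mem h h.2 g⁻¹⟩, Subtype.ext ?_⟩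
  simp [e, mul_assoc]

include hN in
theorem indFun_normal_res [Fintype H] (θ : H → ℂ) (φ : H → ℂ) :
    (Nat.card H : ℂ) * Cfsg.classInner (fun h : H => Cfsg.indFun H θ h) φ =
      ∑ g : G, Cfsg.classInner (fun h : H => θ ⟨g * h * g⁻¹, hN.conj_mem h h.2 g⟩) φ := by
  classical
  have h1 : ∀ h : H, Cfsg.indFun H θ h =
      (Nat.card H : ℂ)⁻¹ * ∑ g : G, θ ⟨g * h * g⁻¹, hN.conj_mem h h.2 g⟩ := fun h => by
    rw [indFun_def]
    congr 1
    refine Fintype.sum_equiv (Equiv.inv G) _ _ fun x => ?_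
    rw [extendByZero_of_mem θ (by simpa using hN.conj_mem h h.2 x⁻¹)]
    simp
  rw [classInner_def]
  simp only [h1, mul_assoc, Finset.sum_mul, ← Finset.mul_sum]
  rw [mul_inv_cancel_left₀ natCard_ne_zero, Finset.sum_comm, Finset.mul_sum]
  exact Finset.sum_congr rfl fun g _ => rfl

end Normal

end CfsgLib.Char
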