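import Cfsg.Agent.Lib.Clifford.Degree
import Cfsg.Agent.Lib.Char.Constituent
import Cfsg.Agent.Lib.Char.Fixed

/-!
# Consequences of Clifford theory: centre index, Ito, Clifford's theorem
-/

namespace CfsgLib.Char

open Module
open scoped ComplexConjugate

universe u

variable {G : Type u} [Group G]

theorem degree_dvd_center_index [Finite G] {V : Type*} [AddCommGroup V] [Module ℂ V]
    [FiniteDimensional ℂ V] (ρ : Representation ℂ G V) [hρ : ρ.IsIrreducible] :
    finrank ℂ V ∣ (Subgroup.center G).index := by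
  have : (MonoidHom.ker ρ : Subgroup G).Normal := MonoidHom.normal_ker ρ
  let K : Subgroup G := MonoidHom.ker ρ
  let σ : Representation ℂ (G ⧸ K) V := liftRep K ρ fun n hn => MonoidHom.mem_ker.mp hn
  have hcomp : Representation.IsIrreducible
      (σ.comp (QuotientGroup.mk' K) : Representation ℂ G V) := hρ
  have := isIrreducible_of_comp_surjective σ _ (QuotientGroup.mk'_surjective K)
  refine dvd_trans ?_ (Subgroup.index_map_dvd (Subgroup.center G) (QuotientGroup.mk'_surjective K))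
  refine Clifford.finrank_dvd_index_of_central σ _ ?_ fun z _ hz => ?_
  · rintro _ ⟨z, hz, rfl⟩
    rw [Subgroup.mem_center_iff]
    intro y
    obtain ⟨b, rfl⟩ := QuotientGroup.mk'_surjective K y
    rw [← map_mul, ← map_mul, Subgroup.mem_center_iff.mp hz b]
  · obtain ⟨b, rfl⟩ := QuotientGroup.mk'_surjective K z
    exact (QuotientGroup.eq_one_iff b).mpr ((mem_ker_iff_char ρ b).mpr hz)

theorem ito_degree_dvd_index [Finite G] {V : Type*} [AddCommGroup V] [Module ℂ V]
    [FiniteDimensional ℂ V] (ρ : Representation ℂ G V) [ρ.IsIrreducible] (H : Subgroup G)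
    [H.Normal] (hH : ∀ a ∈ H, ∀ b ∈ H, a * b = b * a) : finrank ℂ V ∣ H.index := by
  have := Fintype.ofFinite G
  have := Fintype.ofFinite H
  have hχ := isIrrCharacter_of_rep ρ
  obtain ⟨τ, hτ, hne⟩ := exists_constituent (isCharacter_restrict (irr_isCharacter hχ) H)
    (irr_apply_one_ne_zero hχ)
  obtain ⟨e, he, hdvd⟩ := Clifford.degree_quot_dvd_index (N := H) hχ hτ hne
  rw [irr_degree_one_of_comm (fun a b => Subtype.ext (hH a a.2 b b.2)) hτ, mul_one,
    Representation.char_one] at he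
  have : finrank ℂ V = e := by exact_mod_cast he
  exact this ▸ hdvd

open scoped Classical in
theorem clifford_restrict [Fintype G] (N : Subgroup G) [Fintype N] (hN : N.Normal) {θ : G → ℂ}
    (hθ : Cfsg.IsIrrCharacter G θ) {χ : N → ℂ} (hχ : Cfsg.IsIrrCharacter N χ)
    (hconst : Cfsg.classInner (fun n : N => θ n) χ ≠ 0) :
    (fun n : N => θ n) = Cfsg.classInner (fun n : N => θ n) χ •
      ∑ᶠ ψ ∈ {ψ : N → ℂ | ∃ g : G, ψ = fun n : N => χ ⟨g * n * g⁻¹, hN.conj_mem n n.2 g⟩}, ψ := by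
  have := Fintype.ofFinite (Cfsg.IrrCharacter N)
  set O : Set (N → ℂ) :=
    {ψ : N → ℂ | ∃ g : G, ψ = fun n : N => χ ⟨g * n * g⁻¹, hN.conj_mem n n.2 g⟩}
  have hO : ∀ ψ ∈ O, Cfsg.IsIrrCharacter N ψ := by
    rintro ψ ⟨g, rfl⟩; exact isIrr_conj_normal N hN hχ g
  have hres : Cfsg.IsCharacter N (fun n : N => θ n) := isCharacter_restrict (irr_isCharacter hθ) N
  have hin : ∀ ψ ∈ O, Cfsg.classInner (fun n : N => θ n) ψ =
      Cfsg.classInner (fun n : N => θ n) χ := by
    rintro ψ ⟨g, rfl⟩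
    simp only [classInner_def]
    congr 1
    refine Fintype.sum_equiv (MulAut.conjNormal (H := N) g).toEquiv _ _ fun n => ?_
    have e : MulAut.conjNormal (H := N) g n = ⟨g * n * g⁻¹, hN.conj_mem n n.2 g⟩ :=
      Subtype.ext (MulAut.conjNormal_apply g n)
    simp only [MulEquiv.toEquiv_eq_coe, MulEquiv.coe_toEquiv, e]
    rw [irr_isClassFunction hθ (n : G) g]
  have hsum : ∑ᶠ ψ ∈ O, ψ =
      ∑ φ : Cfsg.IrrCharacter N, if (φ : N → ℂ) ∈ O then (φ : N → ℂ) else 0 := by
    have hfin : O.Finite := finite_setOf_isIrr.subset hO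
    rw [finsum_mem_eq_finite_toFinset_sum _ hfin, ← Finset.sum_filter]
    exact Finset.sum_bij' (fun ψ hψ => (⟨ψ, hO ψ (hfin.mem_toFinset.mp hψ)⟩ : Cfsg.IrrCharacter N))
      (fun φ _ => (φ : N → ℂ))
      (fun ψ hψ => Finset.mem_filter.mpr ⟨Finset.mem_univ _, hfin.mem_toFinset.mp hψ⟩)
      (fun φ hφ => hfin.mem_toFinset.mpr (Finset.mem_filter.mp hφ).2)
      (fun ψ _ => rfl) (fun φ _ => rfl) fun ψ _ => rfl
  rw [hsum, Finset.smul_sum]
  conv_lhs => rw [classFunction_eq_sum (isCharacter_isClassFunction hres)]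
  refine Finset.sum_congr rfl fun φ _ => ?_
  by_cases hφ : (φ : N → ℂ) ∈ O
  · rw [if_pos hφ, hin _ hφ]
  · rw [if_neg hφ, smul_zero]
    by_cases h0 : Cfsg.classInner (fun n : N => θ n) (φ : N → ℂ) = 0
    · rw [h0, zero_smul]
    · exfalso
      obtain ⟨g, hg⟩ := Clifford.exists_conj_of_constituents (N := N) hθ hχ φ.2 hconst h0
      exact hφ ⟨g, hg.symm⟩

end CfsgLib.Char
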