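import Cfsg.Agent.Lib.Char.Elementary
import Mathlib.GroupTheory.Complement
import Mathlib.GroupTheory.GroupAction.ConjAct

/-!
# Brauer's induction theorem and characterisation of characters
-/

namespace CfsgLib.Char

open Module
open scoped ComplexConjugate

universe u

variable {G : Type u} [Group G]

/-- Integral combinations of characters induced from linear characters of subgroups with `P`. -/
def brauerSpan [Fintype G] (P : Subgroup G → Prop) : AddSubgroup (G → ℂ) :=
  AddSubgroup.closure {f | ∃ (E : Subgroup G) (μ : E →* ℂˣ),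
    P E ∧ f = Cfsg.indFun E (fun e => (μ e : ℂ))}

/-- A linear character invariant under a `p`-group, trivial on its fixed points, is trivial,
if the group has order prime to `p`. -/
theorem linear_eq_one_of_invariant [Finite G] (p : ℕ) [Fact p.Prime] (C P : Subgroup G)
    (hC : C.Normal) (hP : IsPGroup p P) (hcop : Nat.Coprime (Nat.card C) p) (lam : C →* ℂˣ)
    (hinv : ∀ g ∈ P, ∀ c : C, lam ⟨g * c * g⁻¹, hC.conj_mem (c : G) c.2 g⟩ = lam c)
    (hker : ∀ c : C, (c : G) ∈ Subgroup.centralizer (P : Set G) → lam c = 1) (c : C) :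
    lam c = 1 := by
  classical
  let X := {y : C // lam y = lam c}
  let act : MulAction P X :=
    { smul := fun g y => ⟨⟨g * (y.1 : G) * (g : G)⁻¹, hC.conj_mem _ y.1.2 g⟩,
        (hinv g g.2 y.1).trans y.2⟩
      one_smul := fun y => by
        refine Subtype.ext (Subtype.ext ?_)
        show ((1 : P) : G) * (y.1 : G) * ((1 : P) : G)⁻¹ = y.1
        simp
      mul_smul := fun g h y => by
        refine Subtype.ext (Subtype.ext ?_)
        show ((g * h : P) : G) * (y.1 : G) * ((g * h : P) : G)⁻¹ =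
          (g : G) * ((h : G) * (y.1 : G) * (h : G)⁻¹) * (g : G)⁻¹
        simp [mul_assoc] }
  have hX : Nat.card X = Nat.card lam.ker := Nat.card_congr
    { toFun := fun y => ⟨c⁻¹ * y.1, MonoidHom.mem_ker.mpr (by
        rw [map_mul, map_inv, y.2, inv_mul_cancel])⟩
      invFun := fun k => ⟨c * k.1, by rw [map_mul, MonoidHom.mem_ker.mp k.2, mul_one]⟩
      left_inv := fun y => Subtype.ext (by simp)
      right_inv := fun k => Subtype.ext (by simp) }
  have hnd : ¬ p ∣ Nat.card X := by
    rw [hX]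
    intro hd
    have h1 := Nat.eq_one_of_dvd_coprimes hcop
      (hd.trans (Subgroup.card_subgroup_dvd_card lam.ker)) dvd_rfl
    exact (Fact.out : p.Prime).one_lt.ne' h1
  obtain ⟨y, hy⟩ := hP.nonempty_fixed_point_of_prime_not_dvd_card X hnd
  rw [← y.2]
  refine hker y.1 (Subgroup.mem_centralizer_iff.mpr fun g hg => ?_)
  have h2 : (g : G) * (y.1 : G) * g⁻¹ = (y.1 : G) :=
    congr_arg (fun z : X => ((z.1 : C) : G)) (hy ⟨g, hg⟩)
  calc g * (y.1 : G) = g * (y.1 : G) * g⁻¹ * g := by group
    _ = (y.1 : G) * g := by rw [h2]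

variable [Fintype G]

theorem indFun_indFun_mem (p : ℕ) {H : Subgroup G} (E : Subgroup H) (μ : E →* ℂˣ)
    (hE : Cfsg.IsElementary p E) [Fintype H] :
    Cfsg.indFun H (Cfsg.indFun E (fun e => (μ e : ℂ))) ∈
      brauerSpan (fun A : Subgroup G => Cfsg.IsElementary p A) := by
  rw [indFun_map_subtype H E]
  refine AddSubgroup.subset_closure
    (show _ ∈ {f : G → ℂ | ∃ (A : Subgroup G) (ν : A →* ℂˣ),
      Cfsg.IsElementary p A ∧ f = Cfsg.indFun A (fun e => (ν e : ℂ))} from
    ⟨E.map H.subtype, μ.comp (E.equivMapOfInjective H.subtype H.subtype_injective).symm.toMonoidHom,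
      isElementary_map H.subtype_injective hE, rfl⟩)

/-- Linear characters of quasi-elementary subgroups reduce to elementary ones. -/
theorem indFun_quasiElem_mem (p : ℕ) (hp : p.Prime) : ∀ (n : ℕ) (H : Subgroup G),
    Nat.card H = n → IsQuasiElem p H → ∀ lam : H →* ℂˣ,
      Cfsg.indFun H (fun h => (lam h : ℂ)) ∈
        brauerSpan (fun A : Subgroup G => Cfsg.IsElementary p A) := by
  intro n
  induction n using Nat.strong_induction_on with
  | _ n ih =>
  intro H hn hQE lam
  classical
  have : Fact p.Prime := ⟨hp⟩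
  have hFH := Fintype.ofFinite H
  obtain ⟨C, hCH, hnorm, hcyc, hcop, k, hk⟩ := id hQE
  let C' : Subgroup H := C.subgroupOf H
  have hC' : C'.Normal := Subgroup.normal_subgroupOf_of_le_normalizer hnorm
  have hC'card : Nat.card C' = Nat.card C :=
    Nat.card_congr (Subgroup.subgroupOfEquivOfLe hCH).toEquiv
  have hC'cyc : IsCyclic C' :=
    isCyclic_of_surjective (Subgroup.subgroupOfEquivOfLe hCH).symm.toMonoidHom
      (Subgroup.subgroupOfEquivOfLe hCH).symm.surjective
  have hC'comm : ∀ a ∈ C', ∀ b ∈ C', a * b = b * a := fun a ha b hb => congr_arg Subtype.val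
    (hC'cyc.commGroup.mul_comm ⟨a, ha⟩ ⟨b, hb⟩)
  obtain ⟨P⟩ := (inferInstance : Nonempty (Sylow p H))
  obtain ⟨i, hi⟩ := IsPGroup.iff_card.mp P.isPGroup'
  have hHcard : p ^ k * Nat.card C = Nat.card H := by
    have h := C'.index_mul_card
    rwa [hC'card, show C'.index = p ^ k from hk] at h
  have hCP : C' ⊔ (P : Subgroup H) = ⊤ := by
    apply Subgroup.eq_top_of_le_card
    have h1 : Nat.card C' ∣ Nat.card (C' ⊔ (P : Subgroup H) : Subgroup H) :=
      Subgroup.card_dvd_of_le le_sup_left
    have h2 : Nat.card P ∣ Nat.card (C' ⊔ (P : Subgroup H) : Subgroup H) :=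
      Subgroup.card_dvd_of_le le_sup_right
    have h3 : p ^ k ∣ Nat.card P := P.pow_dvd_card_of_pow_dvd_card ⟨Nat.card C, hHcard.symm⟩
    refine Nat.le_of_dvd Nat.card_pos ?_
    rw [← hHcard]
    refine Nat.Coprime.mul_dvd_of_dvd_of_dvd ?_ (h3.trans h2) (hC'card ▸ h1)
    exact (hcop.pow_right k).symm
  let W : Subgroup H := C' ⊓ Subgroup.centralizer ((P : Subgroup H) : Set H)
  have hWcentre : W ≤ Subgroup.center H := by
    intro w hw
    rw [Subgroup.mem_center_iff]
    intro g
    have hg : g ∈ Subgroup.centralizer ({w} : Set H) := by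
      refine (sup_le ?_ ?_ : C' ⊔ (P : Subgroup H) ≤ _) (hCP ▸ Subgroup.mem_top g)
      · exact fun c hc => Subgroup.mem_centralizer_singleton_iff.mpr (hC'comm c hc w hw.1)
      · exact fun q hq => Subgroup.mem_centralizer_singleton_iff.mpr
          (Subgroup.mem_centralizer_iff.mp hw.2 q hq)
    exact Subgroup.mem_centralizer_singleton_iff.mp hg
  have hWn : W.Normal := ⟨fun w hw g => by
    rw [Subgroup.mem_center_iff.mp (hWcentre hw) g, mul_inv_cancel_right]; exact hw⟩
  let E : Subgroup H := W ⊔ (P : Subgroup H)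
  have hE : Cfsg.IsElementary p E := by
    have hWcyc : IsCyclic W := isCyclic_of_injective
      (Subgroup.inclusion (inf_le_left : W ≤ C')) (Subgroup.inclusion_injective _)
    obtain ⟨w, hw⟩ := (Subgroup.isCyclic_iff_exists_zpowers_eq_top W).mp hWcyc
    have hwW : w ∈ W := hw ▸ Subgroup.mem_zpowers w
    refine ⟨⟨w, Subgroup.mem_sup_left hwW⟩, ?_, ?_, ?_⟩
    · rw [Subgroup.mem_center_iff]
      exact fun e => Subtype.ext (Subgroup.mem_center_iff.mp (hWcentre hwW) e)
    · rw [← Subgroup.orderOf_coe, ← Nat.card_zpowers, hw]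
      refine hcop.coprime_dvd_left ?_
      rw [← hC'card]
      exact Subgroup.card_dvd_of_le inf_le_left
    · have e : Subgroup.zpowers (⟨w, Subgroup.mem_sup_left hwW⟩ : E) = W.subgroupOf E := by
        conv_rhs => rw [← hw]
        apply Subgroup.map_injective E.subtype_injective
        rw [MonoidHom.map_zpowers, Subgroup.map_subgroupOf_eq_of_le]
        · rfl
        · rw [hw]; exact le_sup_left
      have hd : (W.subgroupOf E).index ∣ p ^ i := by
        change W.relIndex (W ⊔ (P : Subgroup H)) ∣ _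
        rw [Subgroup.relIndex_sup_left, ← hi]
        exact Subgroup.index_dvd_card _
      obtain ⟨j, -, hj⟩ := (Nat.dvd_prime_pow hp).mp hd
      exact ⟨j, by rw [e, hj]⟩
  by_cases hEtop : E = ⊤
  · have hH : Cfsg.IsElementary p H :=
      isElementary_of_equiv ((MulEquiv.subgroupCongr hEtop).trans Subgroup.topEquiv) hE
    exact AddSubgroup.subset_closure
      (show _ ∈ {f : G → ℂ | ∃ (A : Subgroup G) (ν : A →* ℂˣ),
        Cfsg.IsElementary p A ∧ f = Cfsg.indFun A (fun e => (ν e : ℂ))} from ⟨H, lam, hH, rfl⟩)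
  have := Fintype.ofFinite E
  set θ : H → ℂ := Cfsg.indFun E (fun _ => (1 : ℂ)) with hθ
  have hlamcf : Cfsg.IsClassFunction H (fun h => (lam h : ℂ)) :=
    irr_isClassFunction (isIrrCharacter_linear lam)
  have htot : Cfsg.indFun H (θ * fun h => (lam h : ℂ)) ∈
      brauerSpan (fun A : Subgroup G => Cfsg.IsElementary p A) := by
    rw [hθ, indFun_mul E _ hlamcf,
      show ((fun _ : E => (1 : ℂ)) * fun e : E => (lam (e : H) : ℂ)) =
        fun e : E => ((lam.comp E.subtype) e : ℂ) from funext fun e => one_mul _]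
    exact indFun_indFun_mem p E _ hE
  obtain ⟨l, hl, hsum⟩ := isCharacter_exists_multiset (isCharacter_indFun E (isCharacter_one (G := E)))
  change θ = l.sum at hsum
  have hinner1 : Cfsg.classInner θ (fun _ => (1 : ℂ)) = 1 := by
    rw [hθ, frobenius_reciprocity E _ _ (irr_isClassFunction isIrrCharacter_one)]
    exact irr_classInner_self isIrrCharacter_one
  have hcount : ∀ s : Multiset (H → ℂ), (∀ χ ∈ s, Cfsg.IsIrrCharacter H χ) →
      Cfsg.classInner s.sum (fun _ => (1 : ℂ)) = (s.count (fun _ => (1 : ℂ)) : ℂ) := fun s => by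
    induction s using Multiset.induction with
    | empty => intro _; simp [classInner_zero_left]
    | cons a s ih' =>
      intro h
      rw [Multiset.sum_cons, classInner_add_left,
        ih' fun χ hχ => h χ (Multiset.mem_cons_of_mem hχ), Multiset.count_cons,
        irr_classInner (h a (Multiset.mem_cons_self a s)) isIrrCharacter_one]
      by_cases ha : a = fun _ => (1 : ℂ)
      · simp [ha, add_comm]
      · simp [ha, Ne.symm ha]
  have hc1 : l.count (fun _ : H => (1 : ℂ)) = 1 := by
    have := hcount l hl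
    rw [← hsum, hinner1] at this
    exact_mod_cast this.symm
  obtain ⟨l', rfl⟩ := Multiset.exists_cons_of_mem
    (Multiset.count_pos.mp (by omega : 0 < l.count (fun _ : H => (1 : ℂ))))
  rw [Multiset.count_cons_self] at hc1
  have hne : ∀ χ ∈ l', χ ≠ fun _ => (1 : ℂ) := fun χ hχ h => by
    have := Multiset.count_pos.mpr (h ▸ hχ)
    omega
  have hrest : ∀ χ ∈ l', Cfsg.indFun H (χ * fun h => (lam h : ℂ)) ∈
      brauerSpan (fun A : Subgroup G => Cfsg.IsElementary p A) := by
    intro χ hχ
    have hχirr : Cfsg.IsIrrCharacter H χ := hl χ (Multiset.mem_cons_of_mem hχ)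
    have hprod : Cfsg.IsIrrCharacter H (χ * fun h => (lam h : ℂ)) := by
      rw [mul_comm]
      exact isIrrCharacter_mul_linear hχirr lam
    have hCbN : IsCyclicByNilpotent H := by
      refine ⟨C', hC', hC'cyc, ?_⟩
      exact (IsPGroup.of_card (p := p) (n := k)
        (by rw [← Subgroup.index_eq_card]; exact hk)).isNilpotent
    obtain ⟨K, ν, hν⟩ := monomial_of_isCyclicByNilpotent H hCbN _ hprod
    have hKne : K ≠ ⊤ := by
      intro hK
      subst hK
      apply hne χ hχ
      have hdeg : χ 1 = 1 := by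
        have h1 := congr_fun hν 1
        rw [indFun_apply_one, Subgroup.index_top, Nat.cast_one, one_mul] at h1
        simpa using h1
      obtain ⟨μ, rfl⟩ := exists_hom_of_degree_one (irr_isCharacter hχirr) hdeg
      have hθμ : Cfsg.classInner θ (fun g => (μ g : ℂ)) ≠ 0 := by
        obtain ⟨l'', hl''⟩ := Multiset.exists_cons_of_mem
          (Multiset.mem_cons_of_mem (b := fun _ : H => (1 : ℂ)) hχ)
        rw [hsum, hl'', Multiset.sum_cons, classInner_add_left, irr_classInner_self hχirr]
        obtain ⟨j, hj⟩ := classInner_isCharacter_nat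
          (isCharacter_multiset_sum (l := l'') fun ψ hψ =>
            irr_isCharacter (hl ψ (hl'' ▸ Multiset.mem_cons_of_mem hψ)))
          (irr_isCharacter hχirr)
        rw [hj]
        exact_mod_cast (by omega : 1 + j ≠ 0)
      rw [hθ, frobenius_reciprocity E _ _ (irr_isClassFunction hχirr)] at hθμ
      have hres : (fun _ : E => (1 : ℂ)) = fun e : E => (μ (e : H) : ℂ) := by
        by_contra h
        exact hθμ (irr_classInner_ne isIrrCharacter_one
          (isIrrCharacter_linear (μ.comp E.subtype)) h)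
      have hEker : E ≤ μ.ker := fun e he =>
        MonoidHom.mem_ker.mpr (Units.ext (congr_fun hres ⟨e, he⟩).symm)
      have hCker : C' ≤ μ.ker := fun c hc => MonoidHom.mem_ker.mpr
        (linear_eq_one_of_invariant p C' (P : Subgroup H) hC' P.isPGroup' (hC'card ▸ hcop)
          (μ.comp C'.subtype)
          (fun g _ c => by
            simp only [MonoidHom.comp_apply, Subgroup.coe_subtype, map_mul, map_inv]
            rw [mul_comm (μ g), mul_inv_cancel_right])
          (fun c hcen => MonoidHom.mem_ker.mp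
            (hEker (Subgroup.mem_sup_left ⟨c.2, hcen⟩))) ⟨c, hc⟩)
      have htopker : (⊤ : Subgroup H) ≤ μ.ker := hCP ▸ sup_le hCker (le_sup_right.trans hEker)
      ext g
      simp [MonoidHom.mem_ker.mp (htopker (Subgroup.mem_top g))]
    rw [hν, indFun_map_subtype H K]
    have hlt : Nat.card (K.map H.subtype) < n := by
      rw [← hn, ← Nat.card_congr (K.equivMapOfInjective _ H.subtype_injective).toEquiv]
      exact lt_of_le_of_ne (Nat.le_of_dvd Nat.card_pos K.card_subgroup_dvd_card)
        fun h => hKne (Subgroup.eq_top_of_card_eq K h)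
    exact ih _ hlt _ rfl (isQuasiElem_of_le hp hQE (Subgroup.map_subtype_le K))
      (ν.comp (K.equivMapOfInjective H.subtype H.subtype_injective).symm.toMonoidHom)
  have hdecomp : Cfsg.indFun H (fun h => (lam h : ℂ)) =
      Cfsg.indFun H (θ * fun h => (lam h : ℂ)) -
        Cfsg.indFun H (l'.sum * fun h => (lam h : ℂ)) := by
    rw [← indFun_sub, hsum, Multiset.sum_cons, ← sub_mul, add_sub_cancel_right]
    congr 1
    ext h
    simp
  rw [hdecomp]
  refine AddSubgroup.sub_mem _ htot ?_
  have hmsum : ∀ s : Multiset (H → ℂ), (∀ χ ∈ s, Cfsg.indFun H (χ * fun h => (lam h : ℂ)) ∈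
      brauerSpan (fun A : Subgroup G => Cfsg.IsElementary p A)) →
      Cfsg.indFun H (s.sum * fun h => (lam h : ℂ)) ∈
        brauerSpan (fun A : Subgroup G => Cfsg.IsElementary p A) := fun s => by
    induction s using Multiset.induction with
    | empty => intro _; simp [indFun_zero]
    | cons a s ih' =>
      intro h
      rw [Multiset.sum_cons, add_mul, indFun_add]
      exact AddSubgroup.add_mem _ (h a (Multiset.mem_cons_self a s))
        (ih' fun χ hχ => h χ (Multiset.mem_cons_of_mem hχ))
  exact hmsum l' hrest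

/-- Local Brauer induction. -/
theorem exists_const_mem_brauerSpan (p : ℕ) (hp : p.Prime) :
    ∃ m : ℤ, ¬ (p : ℤ) ∣ m ∧
      (fun _ : G => (m : ℂ)) ∈ brauerSpan (fun A : Subgroup G => Cfsg.IsElementary p A) := by
  obtain ⟨m, hm, hmem⟩ := exists_const_mem_permSpan (G := G) p hp
  refine ⟨m, hm, ?_⟩
  suffices ∀ f ∈ permSpan (fun H : Subgroup G => IsQuasiElem p H),
      f ∈ brauerSpan (fun A : Subgroup G => Cfsg.IsElementary p A) from this _ hmem
  intro f hf
  induction hf using AddSubgroup.closure_induction with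
  | mem x hx =>
    obtain ⟨U, hU, rfl⟩ := hx
    simpa using indFun_quasiElem_mem p hp _ U rfl hU 1
  | zero => exact AddSubgroup.zero_mem _
  | add y z _ _ hy hz => exact AddSubgroup.add_mem _ hy hz
  | neg y _ hy => exact AddSubgroup.neg_mem _ hy

/-- Brauer's induction theorem for the trivial character. -/
theorem one_mem_brauerSpan :
    (fun _ : G => (1 : ℂ)) ∈
      brauerSpan (fun A : Subgroup G => ∃ p : ℕ, p.Prime ∧ Cfsg.IsElementary p A) := by
  let M := brauerSpan (fun A : Subgroup G => ∃ p : ℕ, p.Prime ∧ Cfsg.IsElementary p A)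
  let I : AddSubgroup ℤ :=
    { carrier := {m | (fun _ : G => (m : ℂ)) ∈ M}
      zero_mem' := by
        show (fun _ : G => ((0 : ℤ) : ℂ)) ∈ M
        rw [Int.cast_zero]; exact M.zero_mem
      add_mem' := fun {a b} ha hb => by
        show (fun _ : G => ((a + b : ℤ) : ℂ)) ∈ M
        rw [Int.cast_add]; exact M.add_mem ha hb
      neg_mem' := fun {a} ha => by
        show (fun _ : G => ((-a : ℤ) : ℂ)) ∈ M
        rw [Int.cast_neg]; exact M.neg_mem ha }
  have hmono : ∀ p : ℕ, p.Prime → brauerSpan (fun A : Subgroup G => Cfsg.IsElementary p A) ≤ M :=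
    fun p hp => AddSubgroup.closure_mono fun f ⟨E, μ, hE, he⟩ => ⟨E, μ, ⟨p, hp, hE⟩, he⟩
  have hI : ∀ p : ℕ, p.Prime → ∃ m ∈ I, ¬ (p : ℤ) ∣ m := fun p hp => by
    obtain ⟨m, hm, hmem⟩ := exists_const_mem_brauerSpan (G := G) p hp
    exact ⟨m, hmono p hp hmem, hm⟩
  obtain ⟨d, hd⟩ := Int.subgroup_cyclic I
  have hd1 : d.natAbs = 1 := by
    by_contra hne
    obtain ⟨p, hp, hpd⟩ := Nat.exists_prime_and_dvd hne
    obtain ⟨m, hm, hpm⟩ := hI p hp
    rw [hd, AddSubgroup.mem_closure_singleton] at hm
    obtain ⟨j, rfl⟩ := hm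
    exact hpm (by rw [smul_eq_mul]; exact Dvd.dvd.mul_left (Int.natCast_dvd.mpr hpd) j)
  have h1 : (1 : ℤ) ∈ I := by
    rw [hd, AddSubgroup.mem_closure_singleton]
    exact ⟨d, by rw [smul_eq_mul, ← Int.natAbs_mul_self' d]; simp [hd1]⟩
  simpa using (show (fun _ : G => ((1 : ℤ) : ℂ)) ∈ M from h1)

/-- Brauer's induction theorem. -/
theorem brauer_induction {χ : G → ℂ} (hχ : Cfsg.IsCharacter G χ) :
    χ ∈ brauerSpan (fun A : Subgroup G => ∃ p : ℕ, p.Prime ∧ Cfsg.IsElementary p A) := by
  have hkey : ∀ f ∈ brauerSpan (fun A : Subgroup G => ∃ p : ℕ, p.Prime ∧ Cfsg.IsElementary p A),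
      f * χ ∈ brauerSpan (fun A : Subgroup G => ∃ p : ℕ, p.Prime ∧ Cfsg.IsElementary p A) := by
    intro f hf
    induction hf using AddSubgroup.closure_induction with
    | mem x hx =>
      obtain ⟨E, μ, ⟨p, hp, hE⟩, rfl⟩ := hx
      have := Fintype.ofFinite E
      rw [indFun_mul E _ (isCharacter_isClassFunction hχ)]
      obtain ⟨l, hl, hsum⟩ := isCharacter_exists_multiset (isCharacter_mul
        (irr_isCharacter (isIrrCharacter_linear μ)) (isCharacter_restrict hχ E))
      rw [hsum]
      clear hsum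
      induction l using Multiset.induction with
      | empty => simp [indFun_zero]
      | cons a s ih =>
        rw [Multiset.sum_cons, indFun_add]
        refine AddSubgroup.add_mem _ ?_ (ih fun ψ hψ => hl ψ (Multiset.mem_cons_of_mem hψ))
        obtain ⟨K, ν, hν⟩ := monomial_of_isCyclicByNilpotent E
          (isCyclicByNilpotent_of_isElementary hp hE) a (hl a (Multiset.mem_cons_self a s))
        have hKE : Cfsg.IsElementary p K := isElementary_subgroup hp hE K
        rw [hν]
        have hsub : {f : G → ℂ | ∃ (A : Subgroup G) (μ' : A →* ℂˣ),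
            Cfsg.IsElementary p A ∧ f = Cfsg.indFun A (fun e => (μ' e : ℂ))} ⊆
            {f : G → ℂ | ∃ (A : Subgroup G) (μ' : A →* ℂˣ),
            (∃ p : ℕ, p.Prime ∧ Cfsg.IsElementary p A) ∧ f = Cfsg.indFun A (fun e => (μ' e : ℂ))} :=
          fun f ⟨A, μ', hA, he⟩ => ⟨A, μ', ⟨p, hp, hA⟩, he⟩
        exact AddSubgroup.closure_mono hsub (indFun_indFun_mem p K ν hKE)
    | zero => rw [zero_mul]; exact AddSubgroup.zero_mem _
    | add y z _ _ hy hz => rw [add_mul]; exact AddSubgroup.add_mem _ hy hz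
    | neg y _ hy => rw [neg_mul]; exact AddSubgroup.neg_mem _ hy
  have h := hkey _ (one_mem_brauerSpan (G := G))
  have e : (fun _ : G => (1 : ℂ)) * χ = χ := funext fun g => one_mul _
  rwa [e] at h

/-- Brauer's characterisation of generalized characters. -/
theorem brauer_characterization {θ : G → ℂ} (hθ : Cfsg.IsClassFunction G θ)
    (hE : ∀ (E : Subgroup G) (p : ℕ), p.Prime → Cfsg.IsElementary p E →
      Cfsg.IsGeneralizedCharacter E (fun e : E => θ e)) :
    Cfsg.IsGeneralizedCharacter G θ := by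
  have hkey : ∀ f ∈ brauerSpan (fun A : Subgroup G => ∃ p : ℕ, p.Prime ∧ Cfsg.IsElementary p A),
      Cfsg.IsGeneralizedCharacter G (f * θ) := by
    intro f hf
    induction hf using AddSubgroup.closure_induction with
    | mem x hx =>
      obtain ⟨E, μ, ⟨p, hp, hEl⟩, rfl⟩ := hx
      rw [indFun_mul E _ hθ]
      exact isGeneralized_indFun E (isGeneralized_mul
        (isGeneralized_of_isCharacter (irr_isCharacter (isIrrCharacter_linear μ))) (hE E p hp hEl))
    | zero => rw [zero_mul]; exact isGeneralized_zero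
    | add y z _ _ hy hz => rw [add_mul]; exact isGeneralized_add hy hz
    | neg y _ hy => rw [neg_mul]; exact isGeneralized_neg hy
  have h := hkey _ (one_mem_brauerSpan (G := G))
  have e : (fun _ : G => (1 : ℂ)) * θ = θ := funext fun g => one_mul _
  rwa [e] at h

theorem brauerSpan_exists_list {P : Subgroup G → Prop} {f : G → ℂ} (hf : f ∈ brauerSpan P) :
    ∃ l : List ((E : Subgroup G) × ((E →* ℂˣ) × ℤ)), (∀ t ∈ l, P t.1) ∧
      f = (l.map fun t => (t.2.2 : ℂ) • Cfsg.indFun t.1 (fun e => (t.2.1 e : ℂ))).sum := by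
  induction hf using AddSubgroup.closure_induction with
  | mem x hx =>
    obtain ⟨E, μ, hE, rfl⟩ := hx
    exact ⟨[⟨E, μ, 1⟩], by simpa using hE, by simp⟩
  | zero => exact ⟨[], by simp, by simp⟩
  | add y z _ _ hy hz =>
    obtain ⟨l₁, h₁, rfl⟩ := hy
    obtain ⟨l₂, h₂, rfl⟩ := hz
    exact ⟨l₁ ++ l₂, fun t ht => (List.mem_append.mp ht).elim (h₁ t) (h₂ t), by simp⟩
  | neg y _ hy =>
    obtain ⟨l, h, rfl⟩ := hy
    refine ⟨l.map fun t => ⟨t.1, t.2.1, -t.2.2⟩, fun t ht => ?_, ?_⟩
    · obtain ⟨s, hs, rfl⟩ := List.mem_map.mp ht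
      exact h s hs
    · have key : ∀ t : List ((E : Subgroup G) × ((E →* ℂˣ) × ℤ)),
          -(t.map fun t => (t.2.2 : ℂ) • Cfsg.indFun t.1 (fun e => (t.2.1 e : ℂ))).sum =
            ((t.map fun t => (⟨t.1, t.2.1, -t.2.2⟩ : (E : Subgroup G) × ((E →* ℂˣ) × ℤ))).map
              fun t => (t.2.2 : ℂ) • Cfsg.indFun t.1 (fun e => (t.2.1 e : ℂ))).sum := fun t => by
        induction t with
        | nil => simp
        | cons a t ih => simp only [List.map_cons, List.sum_cons, neg_add, ih, Int.cast_neg, neg_smul]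
      exact key l

end CfsgLib.Char
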