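import Cfsg.Agent.Lib.Char.Realise
import Cfsg.Agent.Lib.Char.Brauer
import Mathlib.GroupTheory.Exponent
import Mathlib.RingTheory.RootsOfUnity.Complex
import Mathlib.FieldTheory.IntermediateField.Adjoin.Algebra

/-!
# Brauer's splitting field theorem
-/

namespace CfsgLib.Char

universe u

variable {G : Type u} [Group G]

theorem isCharacter_realisable_of_roots [Fintype G] (K : IntermediateField ℚ ℂ)
    (hK : ∀ z : ℂ, z ^ Monoid.exponent G = 1 → z ∈ K) {χ : G → ℂ} (hχ : Cfsg.IsCharacter G χ) :
    Realisable K χ := by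
  have hirr : ∀ ψ : G → ℂ, Cfsg.IsIrrCharacter G ψ → Realisable K ψ := fun ψ hψ => by
    refine irr_realisable_of_mem_closure hψ ?_
    have hb := brauer_induction (irr_isCharacter hψ)
    refine (AddSubgroup.closure_le _).mpr ?_ hb
    rintro f ⟨E, μ, -, rfl⟩
    have hmem : ∀ h : E, (μ h : ℂ) ∈ K := fun h => hK _ (by
      rw [← Units.val_pow_eq_pow_val, ← map_pow,
        show h ^ Monoid.exponent G = 1 from Subtype.ext (by simp [Monoid.pow_exponent_eq_one]),
        map_one, Units.val_one])
    exact (realisable_indFun_linear E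
      { toFun := fun h => ⟨(μ h : ℂ), hmem h⟩
        map_one' := Subtype.ext (by simp)
        map_mul' := fun a b => Subtype.ext (by simp) }).mem_closure
  obtain ⟨l, hl, rfl⟩ := isCharacter_exists_multiset hχ
  induction l using Multiset.induction with
  | empty => simpa using realisable_zero
  | cons a s ih =>
    rw [Multiset.sum_cons]
    exact realisable_add (hirr a (hl a (Multiset.mem_cons_self a s)))
      (ih (fun ψ hψ => hl ψ (Multiset.mem_cons_of_mem hψ))
        (isCharacter_multiset_sum fun ψ hψ =>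
          irr_isCharacter (hl ψ (Multiset.mem_cons_of_mem hψ))))

/-- Brauer's splitting field theorem. -/
theorem brauer_splitting [Finite G] {n : ℕ} (ρ : Representation ℂ G (Fin n → ℂ)) :
    ∃ σ : Representation ℂ G (Fin n → ℂ), Nonempty (ρ.Equiv σ) ∧ ∀ g : G, ∀ i j : Fin n,
      LinearMap.toMatrix' (σ g) i j ∈ Algebra.adjoin ℚ
        ({Complex.exp (2 * Real.pi * Complex.I / (Monoid.exponent G : ℂ))} : Set ℂ) := by
  have := Fintype.ofFinite G
  have hm : Monoid.exponent G ≠ 0 := Monoid.exponent_ne_zero_of_finite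
  set ζ := Complex.exp (2 * Real.pi * Complex.I / (Monoid.exponent G : ℂ)) with hζdef
  have hζ : IsPrimitiveRoot ζ (Monoid.exponent G) := Complex.isPrimitiveRoot_exp _ hm
  have halg : IsAlgebraic ℚ ζ :=
    ((hζ.isIntegral (Nat.pos_of_ne_zero hm)).tower_top (A := ℚ)).isAlgebraic
  let K := IntermediateField.adjoin ℚ ({ζ} : Set ℂ)
  have hK : ∀ z : ℂ, z ^ Monoid.exponent G = 1 → z ∈ K := fun z hz => by
    have : NeZero (Monoid.exponent G) := ⟨hm⟩
    obtain ⟨i, -, rfl⟩ := hζ.eq_pow_of_pow_eq_one hz
    exact pow_mem (IntermediateField.mem_adjoin_simple_self ℚ ζ) i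
  obtain ⟨n', M, hM⟩ := isCharacter_realisable_of_roots K hK ⟨n, ρ, rfl⟩
  obtain rfl : n = n' := by
    have h := hM 1
    rw [Representation.char_one, map_one, Matrix.trace_one] at h
    simp at h
    exact h
  refine ⟨complexRep M, equiv_of_char_eq ρ (complexRep M) (funext fun g => ?_), fun g i j => ?_⟩
  · rw [complexRep_character, ← hM g]
  · rw [toMatrix'_complexRep, Matrix.map_apply,
      ← IntermediateField.adjoin_simple_toSubalgebra_of_isAlgebraic halg]
    exact (M g i j).2

end CfsgLib.Char
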