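import Cfsg.Agent.Lib.Char.Integral
import Mathlib.RingTheory.Polynomial.Cyclotomic.Roots
import Mathlib.FieldTheory.Separable
import Mathlib.RingTheory.RootsOfUnity.Complex
import Mathlib.Analysis.SpecialFunctions.Log.Basic

/-!
# Galois action on character values
-/

namespace CfsgLib.Char

open Module Polynomial
open scoped ComplexConjugate

universe u

/-- The field of complex algebraic numbers. -/
noncomputable abbrev algNum : IntermediateField ℚ ℂ := algebraicClosure ℚ ℂ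

theorem algNum_isAlgebraic : Algebra.IsAlgebraic ℚ algNum := algebraicClosure.isAlgebraic ℚ ℂ

theorem mem_algNum_of_pow_eq_one {μ : ℂ} {N : ℕ} (hN : 0 < N) (h : μ ^ N = 1) : μ ∈ algNum := by
  rw [mem_algebraicClosure_iff]
  have hint : IsIntegral ℚ μ := IsIntegral.of_pow hN (by rw [h]; exact isIntegral_one)
  exact hint.isAlgebraic

theorem mem_algNum_of_isIntegral {x : ℂ} (h : IsIntegral ℤ x) : x ∈ algNum := by
  rw [mem_algebraicClosure_iff]
  exact (h.tower_top (A := ℚ)).isAlgebraic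

theorem exists_primitive (N : ℕ) (hN : 0 < N) : ∃ ζ : algNum, IsPrimitiveRoot ζ N := by
  have h := Complex.isPrimitiveRoot_exp N hN.ne'
  exact ⟨⟨_, mem_algNum_of_pow_eq_one hN h.pow_eq_one⟩,
    IsPrimitiveRoot.of_map_of_injective (f := algebraMap algNum ℂ) h
      (algebraMap algNum ℂ).injective⟩

theorem exists_emb_pow {N : ℕ} (hN : 0 < N) {m : ℕ} (hm : m.Coprime N) :
    ∃ ψ : algNum →ₐ[ℚ] ℂ, ∀ μ : algNum, μ ^ N = 1 → ψ μ = (μ : ℂ) ^ m := by
  have := algNum_isAlgebraic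
  obtain ⟨ζ, hζ⟩ := exists_primitive N hN
  have hζC : IsPrimitiveRoot (ζ : ℂ) N :=
    hζ.map_of_injective (f := algebraMap algNum ℂ) (algebraMap algNum ℂ).injective
  have hroot : (ζ : ℂ) ^ m ∈ (minpoly ℚ ζ).rootSet ℂ := by
    rw [← cyclotomic_eq_minpoly_rat hζ hN, Polynomial.mem_rootSet]
    refine ⟨cyclotomic_ne_zero N ℚ, ?_⟩
    rw [aeval_def, eval₂_eq_eval_map, map_cyclotomic, ← IsRoot.def]
    have : NeZero (N : ℂ) := ⟨by exact_mod_cast hN.ne'⟩
    exact isRoot_cyclotomic_iff.mpr (hζC.pow_of_coprime m hm)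
  rw [← Algebra.IsAlgebraic.range_eval_eq_rootSet_minpoly] at hroot
  obtain ⟨ψ, hψ⟩ := hroot
  refine ⟨ψ, fun μ hμ => ?_⟩
  have : NeZero N := ⟨hN.ne'⟩
  obtain ⟨j, -, rfl⟩ := hζ.eq_pow_of_pow_eq_one hμ
  rw [map_pow]
  change (fun φ : algNum →ₐ[ℚ] ℂ => φ ζ) ψ ^ j = _
  rw [hψ, SubmonoidClass.coe_pow, ← pow_mul, ← pow_mul, mul_comm]

theorem exists_pow_of_emb {N : ℕ} (hN : 0 < N) (ψ : algNum →ₐ[ℚ] ℂ) :
    ∃ m : ℕ, m.Coprime N ∧ ∀ μ : algNum, μ ^ N = 1 → ψ μ = (μ : ℂ) ^ m := by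
  obtain ⟨ζ, hζ⟩ := exists_primitive N hN
  have hζC : IsPrimitiveRoot (ζ : ℂ) N :=
    hζ.map_of_injective (f := algebraMap algNum ℂ) (algebraMap algNum ℂ).injective
  have hψ : IsPrimitiveRoot (ψ ζ) N := hζ.map_of_injective (f := ψ) ψ.toRingHom.injective
  have : NeZero N := ⟨hN.ne'⟩
  obtain ⟨m, -, hm, he⟩ := hζC.isPrimitiveRoot_iff.mp hψ
  refine ⟨m, hm, fun μ hμ => ?_⟩
  obtain ⟨j, -, rfl⟩ := hζ.eq_pow_of_pow_eq_one hμ
  rw [map_pow, ← he, SubmonoidClass.coe_pow, ← pow_mul, ← pow_mul, mul_comm]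

theorem exists_rat_of_emb_fixed (x : algNum) (h : ∀ ψ : algNum →ₐ[ℚ] ℂ, ψ x = (x : ℂ)) :
    ∃ q : ℚ, (x : ℂ) = (q : ℂ) := by
  classical
  have := algNum_isAlgebraic
  have hint : IsIntegral ℚ x := Algebra.IsIntegral.isIntegral x
  have hroots : (minpoly ℚ x).rootSet ℂ = {(x : ℂ)} := by
    rw [← Algebra.IsAlgebraic.range_eval_eq_rootSet_minpoly]
    ext z
    simp only [Set.mem_range, Set.mem_singleton_iff]
    exact ⟨fun ⟨ψ, hψ⟩ => hψ ▸ h ψ, fun hz =>
      ⟨(algebraMap algNum ℂ).toRatAlgHom, (h _).trans hz.symm⟩⟩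
  have hcard := Polynomial.card_rootSet_eq_natDegree (K := ℂ)
    (minpoly.irreducible hint).separable (IsAlgClosed.splits _)
  have h1 : (minpoly ℚ x).natDegree = 1 := by
    rw [← hcard]; simp [hroots]
  obtain ⟨q, hq⟩ : x ∈ (algebraMap ℚ algNum).range := (minpoly.natDegree_eq_one_iff).mp h1
  refine ⟨q, ?_⟩
  rw [← hq, eq_ratCast]
  exact map_ratCast (algebraMap algNum ℂ) q

variable {G : Type u} [Group G] [Finite G]

/-- A character value, as an algebraic number. -/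
noncomputable def charVal {χ : G → ℂ} (hχ : Cfsg.IsCharacter G χ) (g : G) : algNum :=
  ⟨χ g, mem_algNum_of_isIntegral (by obtain ⟨n, ρ, rfl⟩ := hχ; exact char_isIntegral ρ g)⟩

/-- An embedding raising roots of unity to the `m`-th power sends `χ g` to `χ (g ^ m)`. -/
theorem emb_charVal {χ : G → ℂ} (hχ : Cfsg.IsCharacter G χ) (ψ : algNum →ₐ[ℚ] ℂ) {m : ℕ}
    (hψ : ∀ μ : algNum, μ ^ Nat.card G = 1 → ψ μ = (μ : ℂ) ^ m) (g : G) :
    ψ (charVal hχ g) = χ (g ^ m) := by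
  obtain ⟨n, ρ, rfl⟩ := hχ
  obtain ⟨ι, hι, b, μ, -, h2, h3, -⟩ := exists_char_eigen ρ g
  have hμ : ∀ i, μ i ^ Nat.card G = 1 := fun i => by
    obtain ⟨c, hc⟩ := orderOf_dvd_natCard g
    rw [hc, pow_mul, h2, one_pow]
  let μ' : ι → algNum := fun i => ⟨μ i, mem_algNum_of_pow_eq_one Nat.card_pos (hμ i)⟩
  have he : charVal ⟨n, ρ, rfl⟩ g = ∑ i, μ' i := by
    refine (algebraMap algNum ℂ).injective ?_
    rw [map_sum]
    change ρ.character g = ∑ i, μ i
    have := h3 1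
    simpa using this
  rw [he, map_sum, h3]
  exact Finset.sum_congr rfl fun i _ => hψ _ (Subtype.ext (hμ i))

theorem rational_iff :
    (∀ χ : Cfsg.IrrCharacter G, ∀ g : G, ∃ q : ℚ, (χ : G → ℂ) g = (q : ℂ)) ↔
      ∀ m : ℕ, m.Coprime (Nat.card G) → ∀ g : G, IsConj g (g ^ m) := by
  have := Fintype.ofFinite G
  refine ⟨fun h m hm g => ?_, fun h χ g => ?_⟩
  · rw [isConj_iff_forall_irr]
    intro χ
    obtain ⟨ψ, hψ⟩ := exists_emb_pow (Nat.card_pos (α := G)) hm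
    obtain ⟨q, hq⟩ := h χ g
    have h1 := emb_charVal (irr_isCharacter χ.2) ψ hψ g
    have h2 : charVal (irr_isCharacter χ.2) g = algebraMap ℚ algNum q := by
      refine (algebraMap algNum ℂ).injective ?_
      rw [eq_ratCast, map_ratCast]
      exact hq
    rw [h2, AlgHom.commutes, eq_ratCast, ← hq] at h1
    exact h1
  · refine exists_rat_of_emb_fixed (charVal (irr_isCharacter χ.2) g) fun ψ => ?_
    obtain ⟨m, hm, hψ⟩ := exists_pow_of_emb (Nat.card_pos (α := G)) ψ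
    rw [emb_charVal (irr_isCharacter χ.2) ψ hψ g]
    exact ((isConj_iff_forall_irr g (g ^ m)).mp (h m hm g) χ).symm

theorem sum_ge_card_of_prod_ge_one {ι : Type*} (s : Finset ι) (f : ι → ℝ) (hf : ∀ i ∈ s, 0 < f i)
    (h : 1 ≤ ∏ i ∈ s, f i) : (s.card : ℝ) ≤ ∑ i ∈ s, f i := by
  have h1 : (0 : ℝ) ≤ ∑ i ∈ s, Real.log (f i) := by
    rw [← Real.log_prod fun i hi => (hf i hi).ne']
    exact Real.log_nonneg h
  have h2 : ∑ i ∈ s, Real.log (f i) ≤ ∑ i ∈ s, (f i - 1) :=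
    Finset.sum_le_sum fun i hi => Real.log_le_sub_one_of_pos (hf i hi)
  rw [Finset.sum_sub_distrib, Finset.sum_const, nsmul_eq_mul, mul_one] at h2
  linarith

/-- Burnside: a nonlinear irreducible character vanishes somewhere. -/
theorem exists_char_eq_zero {χ : G → ℂ} (hχ : Cfsg.IsIrrCharacter G χ) {d : ℕ} (hd : χ 1 = d)
    (hd1 : 1 < d) : ∃ g : G, χ g = 0 := by
  classical
  by_contra hne
  push Not at hne
  have := Fintype.ofFinite G
  set s := (Finset.univ : Finset G).erase 1 with hs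
  let P : algNum := ∏ g ∈ s, charVal (irr_isCharacter hχ) g
  have hPval : (P : ℂ) = ∏ g ∈ s, χ g := map_prod (algebraMap algNum ℂ) _ _
  have hPfix : ∀ ψ : algNum →ₐ[ℚ] ℂ, ψ P = (P : ℂ) := fun ψ => by
    obtain ⟨m, hm, hψ⟩ := exists_pow_of_emb (Nat.card_pos (α := G)) ψ
    rw [map_prod, hPval, Finset.prod_congr rfl fun g _ => emb_charVal (irr_isCharacter hχ) ψ hψ g]
    have hcop : (Nat.card G).Coprime m := hm.symm
    refine Finset.prod_equiv (powCoprime hcop) (fun g => ?_) (fun g _ => by simp)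
    simp only [hs, Finset.mem_erase, Finset.mem_univ, and_true, ne_eq]
    rw [not_iff_not]
    constructor
    · intro h; subst h; simp
    · intro h
      exact (powCoprime hcop).injective (h.trans (by simp))
  obtain ⟨q, hq⟩ := exists_rat_of_emb_fixed P hPfix
  have hint : IsIntegral ℤ (q : ℂ) := by
    rw [← hq, hPval]
    exact IsIntegral.prod _ fun g _ => by
      obtain ⟨n, ρ, -, rfl⟩ := hχ; exact char_isIntegral ρ g
  obtain ⟨k, rfl⟩ := exists_int_of_isIntegral_rat hint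
  rw [hPval, Rat.cast_intCast] at hq
  have hk : k ≠ 0 := fun h0 => by
    rw [h0, Int.cast_zero, Finset.prod_eq_zero_iff] at hq
    obtain ⟨g, -, hg⟩ := hq
    exact hne g hg
  have hge : (1 : ℝ) ≤ ∏ g ∈ s, ‖χ g‖ ^ 2 := by
    rw [Finset.prod_pow, ← norm_prod, hq, Complex.norm_intCast]
    have h1 : (1 : ℝ) ≤ |(k : ℝ)| := by exact_mod_cast Int.one_le_abs hk
    nlinarith
  have h2 := sum_ge_card_of_prod_ge_one s (fun g => ‖χ g‖ ^ 2)
    (fun g _ => pow_pos (norm_pos_iff.mpr (hne g)) 2) hge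
  have h3 := irr_classInner_self hχ
  rw [classInner_self_eq_norm] at h3
  have h4 : ((Nat.card G : ℝ)⁻¹ * ∑ g : G, ‖χ g‖ ^ 2) = 1 := by exact_mod_cast h3
  rw [← Finset.add_sum_erase _ _ (Finset.mem_univ (1 : G)), inv_mul_eq_one₀
    (by exact_mod_cast Nat.card_pos.ne'), hd, Complex.norm_natCast] at h4
  have h5 : (s.card : ℝ) = (Nat.card G : ℝ) - 1 := by
    rw [hs, Finset.card_erase_of_mem (Finset.mem_univ _), Finset.card_univ,
      ← Nat.card_eq_fintype_card, Nat.cast_sub Nat.card_pos, Nat.cast_one]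
  have h6 : (2 : ℝ) ≤ d := by exact_mod_cast hd1
  nlinarith

end CfsgLib.Char
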