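import Cfsg.Agent.Lib.Char.Linear
import Cfsg.Agent.Lib.Solvable.Frattini2

/-!
# Sums over linear characters; groups with abelianisation of prime order
-/

namespace CfsgLib.Char

open scoped ComplexConjugate

universe u

variable {G : Type u} [Group G]

theorem linear_eq_one_of_mem_commutator (l : G →* ℂˣ) {a : G} (ha : a ∈ commutator G) : l a = 1 :=
  Abelianization.commutator_subset_ker l ha

open scoped Classical in
theorem sum_linear_apply [Finite G] [Fintype (G →* ℂˣ)] (a : G) :
    ∑ l : G →* ℂˣ, (l a : ℂ) = if a ∈ commutator G then ((commutator G).index : ℂ) else 0 := by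
  split_ifs with h
  · simp [linear_eq_one_of_mem_commutator _ h, ← natCard_linear, Nat.card_eq_fintype_card]
  · have : Finite (Abelianization G) := inferInstanceAs (Finite (G ⧸ commutator G))
    obtain ⟨μ, hμ⟩ := exists_linear_ne_one (G := Abelianization G) mul_comm
      (g := Abelianization.of a) (fun e => h ((QuotientGroup.eq_one_iff a).mp e))
    set l₀ := μ.comp Abelianization.of
    have h2 : ∑ l : G →* ℂˣ, (l a : ℂ) = (l₀ a : ℂ) * ∑ l : G →* ℂˣ, (l a : ℂ) := by
      rw [Finset.mul_sum]
      exact (Equiv.sum_comp (Equiv.mulLeft l₀) fun l : G →* ℂˣ => (l a : ℂ)).symm.trans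
        (Finset.sum_congr rfl fun l _ => Units.val_mul _ _)
    by_contra h0
    have h3 : ((l₀ a : ℂˣ) : ℂ) * ∑ l : G →* ℂˣ, (l a : ℂ) = 1 * ∑ l : G →* ℂˣ, (l a : ℂ) := by
      rw [← h2, one_mul]
    exact hμ (Units.ext (mul_right_cancel₀ h0 h3))

open scoped Classical in
/-- The sum of a function over the commutator subgroup in terms of linear characters. -/
theorem sum_commutator_eq [Fintype G] [Fintype (G →* ℂˣ)] (f : G → ℂ) :
    ∑ a ∈ Finset.univ.filter (fun a : G => a ∈ commutator G), f a =
      (Nat.card (commutator G) : ℂ) *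
        ∑ l : G →* ℂˣ, Cfsg.classInner f (fun a => (l a : ℂ)) := by
  have hcard : (Nat.card G : ℂ) = (Nat.card (commutator G) : ℂ) * (commutator G).index := by
    exact_mod_cast (Subgroup.card_mul_index _).symm
  simp only [classInner_def, ← Finset.mul_sum]
  rw [Finset.sum_comm]
  simp only [← Finset.mul_sum, ← map_sum, sum_linear_apply]
  rw [Finset.sum_filter]
  simp only [Finset.mul_sum]
  refine Finset.sum_congr rfl fun a _ => ?_
  split_ifs
  · rw [map_natCast, hcard, mul_inv]
    have h1 : (Nat.card (commutator G) : ℂ) ≠ 0 := natCard_ne_zero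
    have h2 : ((commutator G).index : ℂ) ≠ 0 := by
      exact_mod_cast Subgroup.index_ne_zero_of_finite
    field_simp
  · simp

theorem sum_normSq_ge {ι : Type*} (s : Finset ι) (f p : ι → ℂ) (V : ℝ)
    (h1 : ∑ i ∈ s, f i * conj (p i) = (V : ℂ)) (h2 : ∑ i ∈ s, p i * conj (p i) = (V : ℂ)) :
    V ≤ ∑ i ∈ s, Complex.normSq (f i) := by
  have h3 : ∑ i ∈ s, p i * conj (f i) = (V : ℂ) := by
    rw [← Complex.conj_ofReal, ← h1, map_sum]
    simp [mul_comm]
  have h : ((∑ i ∈ s, Complex.normSq (f i - p i) : ℝ) : ℂ) =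
      ((∑ i ∈ s, Complex.normSq (f i) - V : ℝ) : ℂ) := by
    push_cast
    simp only [← Complex.mul_conj, map_sub, sub_mul, mul_sub, Finset.sum_sub_distrib, h1, h2, h3]
    ring
  have h4 := Finset.sum_nonneg (s := s) fun i _ => Complex.normSq_nonneg (f i - p i)
  rw [Complex.ofReal_inj.mp h] at h4
  linarith

theorem conj_linear_apply [Finite G] (l : G →* ℂˣ) (a : G) : conj (l a : ℂ) = (l⁻¹ a : ℂ) := by
  have hn : ‖(l a : ℂ)‖ = 1 := norm_eigen_eq_one (orderOf_pos a) (by
    rw [← Units.val_pow_eq_pow_val, ← map_pow, pow_orderOf_eq_one, map_one, Units.val_one])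
  have h : conj (l a : ℂ) * (l a : ℂ) = 1 := by
    rw [mul_comm, Complex.mul_conj', hn]; simp
  rw [MonoidHom.inv_apply, Units.val_inv_eq_inv_val]
  exact eq_inv_of_mul_eq_one_left h

theorem card_commutator_eq_one_of_prime_index [Finite G] [Group.IsNilpotent G]
    (h : (commutator G).index.Prime) : Nat.card (commutator G) = 1 := by
  have : Fact (commutator G).index.Prime := ⟨h⟩
  have hq : IsCyclic (G ⧸ commutator G) :=
    isCyclic_of_prime_card (p := (commutator G).index) (Subgroup.index_eq_card _).symm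
  obtain ⟨x, hx⟩ := hq.exists_generator
  obtain ⟨a, rfl⟩ := QuotientGroup.mk_surjective x
  have htop : Subgroup.zpowers a ⊔ frattini G = ⊤ := by
    refine eq_top_iff.mpr fun y _ => ?_
    obtain ⟨i, hi⟩ := hx (QuotientGroup.mk y)
    have h2 : (a ^ i)⁻¹ * y ∈ commutator G :=
      QuotientGroup.eq.mp ((QuotientGroup.mk_zpow _ a i).trans hi)
    have := Subgroup.mul_mem_sup (Subgroup.zpow_mem_zpowers a i)
      (Solvable.commutator_le_frattini h2)
    rwa [mul_inv_cancel_left] at this
  have hz := frattini_nongenerating htop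
  have hcomm : ∀ u v : G, u * v = v * u := fun u v => by
    obtain ⟨i, rfl⟩ := Subgroup.mem_zpowers_iff.mp (hz ▸ Subgroup.mem_top u)
    obtain ⟨j, rfl⟩ := Subgroup.mem_zpowers_iff.mp (hz ▸ Subgroup.mem_top v)
    exact (Commute.zpow_zpow (Commute.refl a) i j).eq
  rw [Subgroup.card_eq_one, commutator_def, Subgroup.commutator_eq_bot_iff_le_centralizer]
  exact fun u _ => Subgroup.mem_centralizer_iff.mpr fun v _ => hcomm v u

end CfsgLib.Char
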