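import Cfsg.Agent.Lib.Char.Fixed
import Cfsg.Agent.Lib.Char.Integral
import Mathlib.GroupTheory.Sylow

/-!
# Products, p-vanishing characters, induced norms, Burnside mod 16
-/

namespace CfsgLib.Char

open Module
open scoped ComplexConjugate

universe u v

variable {G : Type u} [Group G]

theorem isIrr_prod_iff [Finite G] {H : Type v} [Group H] [Finite H] (θ : G × H → ℂ) :
    Cfsg.IsIrrCharacter (G × H) θ ↔ ∃ (φ : G → ℂ) (ψ : H → ℂ),
      Cfsg.IsIrrCharacter G φ ∧ Cfsg.IsIrrCharacter H ψ ∧ θ = fun x => φ x.1 * ψ x.2 := by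
  have := Fintype.ofFinite G
  have := Fintype.ofFinite H
  have hinner : ∀ (f : G × H → ℂ) (φ : G → ℂ) (ψ : H → ℂ),
      Cfsg.classInner f (fun x => φ x.1 * ψ x.2) =
        Cfsg.classInner (fun g => Cfsg.classInner (fun h => f (g, h)) ψ) φ := by
    intro f φ ψ
    simp only [classInner_def, Fintype.sum_prod_type, Nat.card_prod, Nat.cast_mul, mul_inv,
      map_mul, Finset.mul_sum, Finset.sum_mul]
    exact Finset.sum_congr rfl fun g _ => Finset.sum_congr rfl fun h _ => by ring
  have hprod : ∀ (φ : G → ℂ) (ψ : H → ℂ), Cfsg.IsIrrCharacter G φ → Cfsg.IsIrrCharacter H ψ →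
      Cfsg.IsIrrCharacter (G × H) (fun x => φ x.1 * ψ x.2) := by
    intro φ ψ hφ hψ
    refine isIrrCharacter_iff.mpr
      ⟨isCharacter_mul (isCharacter_comp (irr_isCharacter hφ) (MonoidHom.fst G H))
        (isCharacter_comp (irr_isCharacter hψ) (MonoidHom.snd G H)), ?_⟩
    rw [hinner]
    have e : (fun g => Cfsg.classInner (fun h => φ g * ψ h) ψ) = φ := funext fun g => by
      rw [show (fun h => φ g * ψ h) = φ g • ψ from rfl, classInner_smul_left,
        irr_classInner_self hψ, mul_one]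
    rw [e, irr_classInner_self hφ]
  refine ⟨fun hθ => ?_, fun ⟨φ, ψ, hφ, hψ, he⟩ => he ▸ hprod φ ψ hφ hψ⟩
  by_contra hcon
  push Not at hcon
  have hcl := irr_isClassFunction hθ
  apply irr_apply_one_ne_zero hθ
  have hz : ∀ g : G, (fun h => θ (g, h)) = 0 := by
    intro g
    refine classFunction_eq_zero (fun a b => ?_) fun ψ hψ => ?_
    · have h1 := hcl (g, a) (1, b)
      simpa using h1
    · have hg : (fun g => Cfsg.classInner (fun h => θ (g, h)) ψ) = 0 := by
        refine classFunction_eq_zero (fun a b => ?_) fun φ hφ => ?_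
        · congr 1
          ext h
          have h1 := hcl (a, h) (b, 1)
          simpa using h1
        · rw [← hinner]
          exact irr_classInner_ne hθ (hprod φ ψ hφ hψ) (hcon φ ψ hφ hψ)
      exact congr_fun hg g
  exact congr_fun (hz 1) 1

theorem char_one_dvd_of_vanish [Finite G] (p : ℕ) [Fact p.Prime] (P : Sylow p G) {χ : G → ℂ}
    (hχ : Cfsg.IsCharacter G χ) (hvan : ∀ g : G, g ∈ P → g ≠ 1 → χ g = 0) :
    ∃ k : ℕ, χ 1 = (Nat.card P : ℂ) * k := by
  have := Fintype.ofFinite (P : Subgroup G)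
  obtain ⟨k, hk⟩ := classInner_isCharacter_nat (isCharacter_restrict hχ (P : Subgroup G))
    (isCharacter_one (G := (P : Subgroup G)))
  refine ⟨k, ?_⟩
  rw [classInner_def] at hk
  rw [Fintype.sum_eq_single (1 : (P : Subgroup G)) (fun x hx => by
    rw [hvan x x.2 (fun h => hx (Subtype.ext h)), zero_mul])] at hk
  rw [← hk]
  simp only [map_one, mul_one, OneMemClass.coe_one]
  rw [mul_inv_cancel_left₀ natCard_ne_zero]

theorem indFun_norm [Fintype G] (H : Subgroup G) [hN : H.Normal] {θ : H → ℂ}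
    (hθ : Cfsg.IsIrrCharacter H θ) :
    (Nat.card H : ℂ) * Cfsg.classInner (Cfsg.indFun H θ) (Cfsg.indFun H θ) =
      (Nat.card {g : G // ∀ h : H, θ ⟨g * h * g⁻¹, hN.conj_mem h h.2 g⟩ = θ h} : ℂ) := by
  classical
  have := Fintype.ofFinite H
  rw [frobenius_reciprocity H θ _ (indFun_isClassFunction H θ), ← classInner_conj_symm]
  have h1 := congr_arg conj (indFun_normal_res H hN θ θ)
  rw [map_mul, map_natCast] at h1
  rw [h1, map_sum, Nat.card_eq_fintype_card, Fintype.card_subtype, ← Finset.sum_boole]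
  refine Finset.sum_congr rfl fun g _ => ?_
  rw [irr_classInner (isIrr_conj_normal H hN hθ g) hθ]
  simp only [funext_iff]
  split_ifs <;> simp

theorem conj_indFun_inner_eq_zero [Fintype G] (hodd : Odd (Nat.card G)) (H : Subgroup G)
    [hN : H.Normal] {θ : H → ℂ} (hθ : Cfsg.IsIrrCharacter H θ) (hθ1 : θ ≠ fun _ => 1) :
    Cfsg.classInner (fun g => conj (Cfsg.indFun H θ g)) (Cfsg.indFun H θ) = 0 := by
  classical
  have := Fintype.ofFinite H
  have hconj : (fun g => conj (Cfsg.indFun H θ g)) = Cfsg.indFun H (fun h => conj (θ h)) := by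
    ext g
    simp only [indFun_def, map_mul, map_inv₀, map_natCast, map_sum]
    congr 1
    refine Finset.sum_congr rfl fun x _ => ?_
    by_cases hm : x⁻¹ * g * x ∈ H
    · simp [extendByZero_of_mem _ hm]
    · simp [extendByZero_of_not_mem _ hm]
  rw [hconj, frobenius_reciprocity H _ _ (indFun_isClassFunction H θ), ← classInner_conj_symm]
  have h1 := indFun_normal_res H hN θ (fun h => conj (θ h))
  rw [Finset.sum_eq_zero] at h1
  · rw [(mul_eq_zero.mp h1).resolve_left natCard_ne_zero, map_zero]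
  intro g _
  refine irr_classInner_ne (isIrr_conj_normal H hN hθ g) (isIrrCharacter_conj hθ) fun he => hθ1 ?_
  let S : Subgroup G :=
    { carrier := {x | ∀ h : H, θ ⟨x * h * x⁻¹, hN.conj_mem h h.2 x⟩ = θ h}
      one_mem' := fun h => by congr 1; ext; simp
      mul_mem' := fun {x y} hx hy h => by
        rw [← hy h, ← hx ⟨y * h * y⁻¹, hN.conj_mem h h.2 y⟩]
        congr 1; ext; simp [mul_assoc]
      inv_mem' := fun {x} hx h => by
        rw [← hx ⟨x⁻¹ * h * x⁻¹⁻¹, hN.conj_mem h h.2 x⁻¹⟩]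
        congr 1; ext; simp [mul_assoc] }
  have hg2 : g ^ 2 ∈ S := by
    intro h
    have e1 := congr_fun he ⟨g * h * g⁻¹, hN.conj_mem h h.2 g⟩
    have e2 := congr_fun he h
    simp only at e1 e2
    rw [e2, Complex.conj_conj] at e1
    rw [← e1]
    congr 1; ext; simp [sq, mul_assoc]
  have hg : g ∈ S := Subgroup.zpowers_le.mpr hg2 (mem_zpowers_sq_of_odd hodd g)
  have hHodd : Odd (Nat.card H) := hodd.of_dvd_nat H.card_subgroup_dvd_card
  refine eq_one_of_real_odd hHodd hθ fun h => ?_
  rw [← Complex.conj_eq_iff_im]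
  exact ((congr_fun he h).symm.trans (hg h))

theorem card_modEq_classes_sixteen [Finite G] (hodd : Odd (Nat.card G)) :
    Nat.card G ≡ Nat.card (ConjClasses G) [MOD 16] := by
  classical
  have := Fintype.ofFinite G
  have := Fintype.ofFinite (Cfsg.IrrCharacter G)
  choose d hd hd1 using fun χ : Cfsg.IrrCharacter G => irr_apply_one_pos χ.2
  have hsum : ∑ χ, d χ ^ 2 = Nat.card G := by
    have h := sum_irr_sq (G := G)
    simp only [hd1] at h
    exact_mod_cast h
  rw [← ZMod.natCast_eq_natCast_iff]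
  conv_lhs => rw [← hsum]
  rw [← irr_card_eq, Nat.card_eq_fintype_card (α := Cfsg.IrrCharacter G),
    ← Finset.card_univ, Finset.card_eq_sum_ones, Nat.cast_sum, Nat.cast_sum, ← sub_eq_zero,
    ← Finset.sum_sub_distrib]
  let c : Cfsg.IrrCharacter G → Cfsg.IrrCharacter G :=
    fun χ => ⟨fun g => conj ((χ : G → ℂ) g), isIrrCharacter_conj χ.2⟩
  have hdodd : ∀ χ, Odd (d χ) := fun χ => by
    obtain ⟨m, ρ, hρ, hρe⟩ := χ.2
    have h2 := hd1 χ
    rw [← hρe, Representation.char_one] at h2
    have h3 : finrank ℂ (Fin m → ℂ) = d χ := by exact_mod_cast h2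
    exact hodd.of_dvd_nat (h3 ▸ degree_dvd_card ρ)
  have hsq : ∀ n : ℕ, Odd n → 2 * ((n ^ 2 : ℕ) : ZMod 16) - 2 = 0 := by
    rintro n ⟨k, rfl⟩
    obtain ⟨j, hj⟩ := Nat.even_mul_succ_self k
    have e : (2 * k + 1) ^ 2 = 8 * j + 1 := by nlinarith [hj]
    rw [e]
    push_cast
    have h16 : (16 : ZMod 16) = 0 := by decide
    linear_combination (j : ZMod 16) * h16
  have hdc : ∀ χ, d (c χ) = d χ := fun χ => by
    have h1 := hd1 (c χ)
    change conj ((χ : G → ℂ) 1) = _ at h1
    rw [hd1 χ, map_natCast] at h1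
    exact_mod_cast h1.symm
  refine Finset.sum_involution (fun χ _ => c χ) (fun χ _ => ?_) (fun χ _ hne => ?_)
    (fun χ _ => Finset.mem_univ _) (fun χ _ => Subtype.ext (funext fun g => Complex.conj_conj _))
  · rw [hdc]
    have := hsq (d χ) (hdodd χ)
    push_cast at this ⊢
    linear_combination this
  · intro he
    apply hne
    have h1 : (χ : G → ℂ) = fun _ => 1 := eq_one_of_real_odd hodd χ.2 fun g =>
      Complex.conj_eq_iff_im.mp (congr_fun (congr_arg Subtype.val he) g)
    have h2 := hd1 χ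
    rw [congr_fun h1 1] at h2
    have h3 : d χ = 1 := by exact_mod_cast h2.symm
    simp [h3]

theorem ti_of_centralizer_eq [Finite G] (A : Subgroup G)
    (hA : ∀ x ∈ A, x ≠ 1 → Subgroup.centralizer ({x} : Set G) = A) (g : G)
    (hg : g ∉ Subgroup.normalizer (A : Set G)) (x : G) (hx : x ∈ A)
    (hgx : g * x * g⁻¹ ∈ A) : x = 1 := by
  by_contra hne
  apply hg
  have hne' : g * x * g⁻¹ ≠ 1 := fun h => hne (by simpa using h)
  have h1 := hA _ hgx hne'
  have h2 := hA x hx hne
  rw [Subgroup.mem_normalizer_iff]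
  intro a
  conv_rhs => rw [← h1]
  conv_lhs => rw [← h2]
  rw [Subgroup.mem_centralizer_singleton_iff, Subgroup.mem_centralizer_singleton_iff]
  constructor
  · intro h
    calc g * a * g⁻¹ * (g * x * g⁻¹) = g * (a * x) * g⁻¹ := by group
      _ = g * (x * a) * g⁻¹ := by rw [h]
      _ = g * x * g⁻¹ * (g * a * g⁻¹) := by group
  · intro h
    have h' : g * (a * x) * g⁻¹ = g * (x * a) * g⁻¹ := by
      calc g * (a * x) * g⁻¹ = g * a * g⁻¹ * (g * x * g⁻¹) := by group
        _ = g * x * g⁻¹ * (g * a * g⁻¹) := h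
        _ = g * (x * a) * g⁻¹ := by group
    exact mul_left_cancel (mul_right_cancel h')

theorem normalizer_index_dvd [Finite G] (A : Subgroup G)
    (hA : ∀ x ∈ A, x ≠ 1 → Subgroup.centralizer ({x} : Set G) = A) :
    (A.subgroupOf (Subgroup.normalizer (A : Set G))).index ∣ Nat.card A - 1 := by
  classical
  let N := Subgroup.normalizer (A : Set G)
  let X := {x : A // x ≠ 1}
  have hmem : ∀ (n : N) (x : X), (n : G) * (x.1 : G) * (n : G)⁻¹ ∈ A := fun n x =>
    (Subgroup.mem_normalizer_iff.mp n.2 (x.1 : G)).mp x.1.2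
  let act : MulAction N X :=
    { smul := fun n x => ⟨⟨(n : G) * (x.1 : G) * (n : G)⁻¹, hmem n x⟩, fun h => x.2 (Subtype.ext (by
        have := congr_arg (fun z : A => (z : G)) h
        simpa using this))⟩
      one_smul := fun x => by
        refine Subtype.ext (Subtype.ext ?_)
        show ((1 : N) : G) * (x.1 : G) * ((1 : N) : G)⁻¹ = x.1
        simp
      mul_smul := fun m n x => by
        refine Subtype.ext (Subtype.ext ?_)
        show ((m * n : N) : G) * (x.1 : G) * ((m * n : N) : G)⁻¹ =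
          (m : G) * ((n : G) * (x.1 : G) * (n : G)⁻¹) * (m : G)⁻¹
        simp [mul_assoc] }
  have := Fintype.ofFinite N
  have := Fintype.ofFinite X
  have := Fintype.ofFinite (MulAction.orbitRel.Quotient N X)
  have hst : ∀ x : X, MulAction.stabilizer N x = A.subgroupOf N := fun x => by
    ext n
    rw [MulAction.mem_stabilizer_iff, Subgroup.mem_subgroupOf, Subtype.ext_iff, Subtype.ext_iff]
    show (n : G) * (x.1 : G) * (n : G)⁻¹ = x.1 ↔ (n : G) ∈ A
    rw [mul_inv_eq_iff_eq_mul]
    conv_rhs => rw [← hA x.1 x.1.2 (fun h => x.2 (Subtype.ext h))]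
    rw [Subgroup.mem_centralizer_singleton_iff]
  have h1 : Nat.card X = ∑ ω : MulAction.orbitRel.Quotient N X, (A.subgroupOf N).index := by
    rw [Nat.card_congr (MulAction.selfEquivSigmaOrbits N X), Nat.card_sigma]
    refine Finset.sum_congr rfl fun ω _ => ?_
    rw [← hst (Quotient.out ω), MulAction.index_stabilizer, Nat.card_coe_set_eq]
  have h2 : Nat.card X = Nat.card A - 1 := by
    have := Fintype.ofFinite A
    simp only [X, Nat.card_eq_fintype_card, Fintype.card_subtype_compl, Fintype.card_subtype_eq]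
  rw [← h2, h1, Finset.sum_const, smul_eq_mul]
  exact Dvd.intro_left _ rfl

end CfsgLib.Char
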