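import Cfsg.Agent.Lib.Char.Monomial

/-!
# Irreducible characters of abelian-by-nilpotent groups are monomial
-/

namespace CfsgLib.Char

open Module

universe u

variable {G : Type u} [Group G]

/-- A group with an abelian normal subgroup with nilpotent quotient. -/
def IsAbelianByNilpotent (G : Type u) [Group G] : Prop :=
  ∃ (C : Subgroup G) (_ : C.Normal), (∀ a ∈ C, ∀ b ∈ C, a * b = b * a) ∧ Group.IsNilpotent (G ⧸ C)

theorem isAbelianByNilpotent_of_isNilpotent [Group.IsNilpotent G] : IsAbelianByNilpotent G :=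
  ⟨⊥, inferInstance, fun a ha b hb => by simp [Subgroup.mem_bot.mp ha, Subgroup.mem_bot.mp hb],
    inferInstance⟩

theorem isAbelianByNilpotent_subgroup (h : IsAbelianByNilpotent G) (T : Subgroup G) :
    IsAbelianByNilpotent T := by
  obtain ⟨C, hC, hcom, hnil⟩ := h
  refine ⟨C.subgroupOf T, inferInstance, ?_, ?_⟩
  · exact fun a ha b hb => Subtype.ext
      (hcom a (Subgroup.mem_subgroupOf.mp ha) b (Subgroup.mem_subgroupOf.mp hb))
  · let f : T ⧸ C.subgroupOf T →* G ⧸ C :=
      QuotientGroup.map (C.subgroupOf T) C T.subtype le_rfl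
    refine Subgroup.isNilpotent_of_ker_le_center f (le_trans ?_ bot_le) (H := G ⧸ C)
    intro x hx
    induction x using QuotientGroup.induction_on with
    | H z =>
      rw [MonoidHom.mem_ker, show f (z : T ⧸ C.subgroupOf T) = ((z : G) : G ⧸ C) from rfl] at hx
      exact (QuotientGroup.eq_one_iff z).mpr
        (Subgroup.mem_subgroupOf.mpr ((QuotientGroup.eq_one_iff _).mp hx))

theorem isAbelianByNilpotent_surjective {Q : Type*} [Group Q] (h : IsAbelianByNilpotent G)
    (f : G →* Q) (hf : Function.Surjective f) : IsAbelianByNilpotent Q := by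
  obtain ⟨C, hC, hcom, hnil⟩ := h
  have : (C.map f).Normal := Subgroup.Normal.map hC f hf
  refine ⟨C.map f, this, ?_, ?_⟩
  · rintro _ ⟨a, ha, rfl⟩ _ ⟨b, hb, rfl⟩
    rw [← map_mul, ← map_mul, hcom a ha b hb]
  · let g : G ⧸ C →* Q ⧸ C.map f :=
      QuotientGroup.map C (C.map f) f (Subgroup.le_comap_map f C)
    refine Group.nilpotent_of_surjective g ?_
    intro x
    induction x using QuotientGroup.induction_on with
    | H z =>
      obtain ⟨w, rfl⟩ := hf z
      exact ⟨(w : G ⧸ C), rfl⟩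

theorem exists_abelianByNilpotent_not_central (h : IsAbelianByNilpotent G)
    (hab : ¬ ∀ a b : G, a * b = b * a) :
    ∃ A : Subgroup G, A.Normal ∧ (∀ a ∈ A, ∀ b ∈ A, a * b = b * a) ∧
      ¬ A ≤ Subgroup.center G := by
  obtain ⟨C, hC, hcom, hnil⟩ := h
  by_cases hCZ : C ≤ Subgroup.center G
  swap
  · exact ⟨C, hC, hcom, hCZ⟩
  have : Group.IsNilpotent G := Subgroup.isNilpotent_of_ker_le_center (QuotientGroup.mk' C)
    (by rw [QuotientGroup.ker_mk']; exact hCZ)
  have hZ : Subgroup.center G ≠ ⊤ := fun ht => hab fun a b =>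
    Subgroup.mem_center_iff.mp (ht ▸ Subgroup.mem_top b) a
  have : Nontrivial (G ⧸ Subgroup.center G) := QuotientGroup.nontrivial_iff.mpr hZ
  have : Group.IsNilpotent (G ⧸ Subgroup.center G) :=
    Group.nilpotent_of_surjective _ (QuotientGroup.mk'_surjective _)
  have : Nontrivial (Subgroup.center (G ⧸ Subgroup.center G)) :=
    (Subgroup.nontrivial_iff_ne_bot _).mpr (Group.IsNilpotent.center_ne_bot _)
  obtain ⟨⟨zb, hzb⟩, hz1⟩ := exists_ne (1 : Subgroup.center (G ⧸ Subgroup.center G))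
  obtain ⟨z, rfl⟩ := QuotientGroup.mk'_surjective (Subgroup.center G) zb
  let A := (Subgroup.zpowers (QuotientGroup.mk' (Subgroup.center G) z)).comap
    (QuotientGroup.mk' (Subgroup.center G))
  have hnorm : (Subgroup.zpowers (QuotientGroup.mk' (Subgroup.center G) z)).Normal := by
    refine ⟨fun x hx g => ?_⟩
    have hxc : x ∈ Subgroup.center (G ⧸ Subgroup.center G) :=
      Subgroup.zpowers_le.mpr hzb hx
    rw [Subgroup.mem_center_iff.mp hxc g, mul_inv_cancel_right]
    exact hx
  have hmem : ∀ a ∈ A, ∃ (i : ℤ) (c : G), c ∈ Subgroup.center G ∧ a = z ^ i * c := fun a ha => by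
    obtain ⟨i, hi⟩ := Subgroup.mem_zpowers_iff.mp (Subgroup.mem_comap.mp ha)
    refine ⟨i, (z ^ i)⁻¹ * a, ?_, by group⟩
    rw [← map_zpow] at hi
    exact QuotientGroup.eq.mp hi
  refine ⟨A, hnorm.comap _, fun a ha b hb => ?_, fun hle => hz1 ?_⟩
  · obtain ⟨i, c, hc, rfl⟩ := hmem a ha
    obtain ⟨j, d, hd, rfl⟩ := hmem b hb
    have h1 : Commute (z ^ i) (z ^ j) := Commute.zpow_zpow_self z i j
    have h2 : ∀ g, Commute g c := fun g => Subgroup.mem_center_iff.mp hc g
    have h3 : ∀ g, Commute g d := fun g => Subgroup.mem_center_iff.mp hd g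
    exact ((h1.mul_right (h3 _)).mul_left ((h2 _).symm)).eq
  · exact Subtype.ext ((QuotientGroup.eq_one_iff z).mpr
      (hle (Subgroup.mem_comap.mpr (Subgroup.mem_zpowers _))))

/-- Monomiality of irreducible characters of abelian-by-nilpotent groups. -/
theorem monomial_of_isAbelianByNilpotent : ∀ (G : Type u) [Group G] [Fintype G],
    IsAbelianByNilpotent G → ∀ χ : G → ℂ, Cfsg.IsIrrCharacter G χ →
      ∃ (H : Subgroup G) (lam : H →* ℂˣ), χ = Cfsg.indFun H (fun h => (lam h : ℂ)) := by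
  suffices ∀ (n : ℕ) (G : Type u) [Group G] [Fintype G], Nat.card G = n →
      IsAbelianByNilpotent G → ∀ χ : G → ℂ, Cfsg.IsIrrCharacter G χ →
        ∃ (H : Subgroup G) (lam : H →* ℂˣ), χ = Cfsg.indFun H (fun h => (lam h : ℂ)) from
    fun G _ _ h => this _ G rfl h
  intro n
  induction n using Nat.strong_induction_on with
  | _ n ih =>
    intro G _ _ hn hG χ hχ
    by_cases hdeg : χ 1 = 1
    · obtain ⟨lam, hlam⟩ := exists_hom_of_degree_one (irr_isCharacter hχ) hdeg
      refine ⟨⊤, lam.comp Subgroup.topEquiv.toMonoidHom, ?_⟩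
      rw [hlam]
      ext g
      rw [indFun_def]
      have hterm : ∀ x : G, Cfsg.extendByZero (⊤ : Subgroup G)
          (fun h => ((lam.comp Subgroup.topEquiv.toMonoidHom) h : ℂ)) (x⁻¹ * g * x) =
            (lam g : ℂ) := fun x => by
        rw [extendByZero_of_mem _ (Subgroup.mem_top _)]
        simp [mul_comm]
      rw [Finset.sum_congr rfl fun x _ => hterm x, Finset.sum_const, Finset.card_univ,
        nsmul_eq_mul, Subgroup.card_top, ← Nat.card_eq_fintype_card,
        inv_mul_cancel_left₀ natCard_ne_zero]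
    obtain ⟨m, ρ, hρ, rfl⟩ := hχ
    have hKN : (MonoidHom.ker ρ : Subgroup G).Normal := MonoidHom.normal_ker ρ
    have hQab : ¬ ∀ a b : G ⧸ MonoidHom.ker ρ, a * b = b * a := by
      intro hc
      apply hdeg
      obtain ⟨ψ, hψ, hψe⟩ := isIrr_quotient_lift (MonoidHom.ker ρ)
        (isIrrCharacter_of_rep ρ) fun k hk => (mem_ker_iff_char ρ k).mp hk
      rw [hψe, Function.comp_apply, map_one]
      exact irr_degree_one_of_comm hc hψ
    obtain ⟨A, hAn, hAc, hAnc⟩ := exists_abelianByNilpotent_not_central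
      (isAbelianByNilpotent_surjective hG _ (QuotientGroup.mk'_surjective _)) hQab
    have hns : ¬ ∀ a ∈ A.comap (QuotientGroup.mk' (MonoidHom.ker ρ)),
        ∃ ω : ℂ, ρ a = ω • (LinearMap.id : (Fin m → ℂ) →ₗ[ℂ] (Fin m → ℂ)) := by
      intro hs
      apply hAnc
      intro q hq
      obtain ⟨a, rfl⟩ := QuotientGroup.mk'_surjective _ q
      obtain ⟨ω, hω⟩ := hs a hq
      rw [Subgroup.mem_center_iff]
      intro y
      obtain ⟨b, rfl⟩ := QuotientGroup.mk'_surjective _ y
      rw [← map_mul, ← map_mul]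
      refine (MonoidHom.eq_iff (QuotientGroup.mk' (MonoidHom.ker ρ))).mpr ?_
      rw [QuotientGroup.ker_mk', MonoidHom.mem_ker]
      have h1 : ρ (b * a) = ρ (a * b) := by
        ext v; simp [map_mul, hω]
      rw [map_mul, h1, ← map_mul, inv_mul_cancel, map_one]
    have hcomm : ∀ a ∈ A.comap (QuotientGroup.mk' (MonoidHom.ker ρ)),
        ∀ b ∈ A.comap (QuotientGroup.mk' (MonoidHom.ker ρ)), ρ a * ρ b = ρ b * ρ a := by
      intro a ha b hb
      have h1 := hAc _ ha _ hb
      rw [← map_mul, ← map_mul, MonoidHom.eq_iff, QuotientGroup.ker_mk', MonoidHom.mem_ker] at h1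
      have h2 : ρ (b * a) * ρ ((b * a)⁻¹ * (a * b)) = ρ (b * a) := by rw [h1, mul_one]
      rw [← map_mul, mul_inv_cancel_left] at h2
      rw [← map_mul, ← map_mul, h2]
    obtain ⟨T, ψ, -, hT, hψ, he⟩ := exists_induced_of_not_scalar ρ _ (hAn.comap _) hcomm hns
    have := Fintype.ofFinite T
    have hlt : Nat.card T < n := by
      rw [← hn]
      exact lt_of_le_of_ne (Nat.le_of_dvd Nat.card_pos T.card_subgroup_dvd_card)
        fun h => hT (Subgroup.eq_top_of_card_eq T h)
    obtain ⟨H, lam, hψe⟩ := ih _ hlt T rfl (isAbelianByNilpotent_subgroup hG T) ψ hψ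
    refine ⟨H.map T.subtype,
      lam.comp (Subgroup.equivMapOfInjective H T.subtype T.subtype_injective).symm.toMonoidHom, ?_⟩
    rw [he, hψe, indFun_map_subtype]
    rfl

end CfsgLib.Char
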