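import Cfsg.Agent.Lib.Char.CAFamily
import Cfsg.Agent.Lib.Solvable.Basic
import Cfsg.Agent.Lib.Transfer.SimpleCount

/-!
# Self-centralizing subgroups: Sylow subgroups, conjugates, exceptional sets
-/

namespace CfsgLib.Char

open scoped ComplexConjugate Pointwise

universe u

variable {G : Type u} [Group G]

theorem ca_centralizer_eq
    (hCA : ∀ x : G, x ≠ 1 → ∀ a ∈ Subgroup.centralizer ({x} : Set G),
      ∀ b ∈ Subgroup.centralizer ({x} : Set G), a * b = b * a)
    {x a : G} (hx : x ≠ 1) (ha : a ∈ Subgroup.centralizer ({x} : Set G)) (ha1 : a ≠ 1) :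
    Subgroup.centralizer ({a} : Set G) = Subgroup.centralizer ({x} : Set G) := by
  have hax : x ∈ Subgroup.centralizer ({a} : Set G) :=
    Subgroup.mem_centralizer_singleton_iff.mpr (Subgroup.mem_centralizer_singleton_iff.mp ha).symm
  refine le_antisymm (fun y hy => ?_) (fun y hy => ?_)
  · exact Subgroup.mem_centralizer_singleton_iff.mpr (hCA a ha1 y hy x hax)
  · exact Subgroup.mem_centralizer_singleton_iff.mpr (hCA x hx y hy a ha)

theorem exists_sylow_le_of_selfCentral [Finite G] {A : Subgroup G}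
    (hA : ∀ x ∈ A, x ≠ 1 → Subgroup.centralizer ({x} : Set G) = A) {p : ℕ} [Fact p.Prime]
    (hp : p ∣ Nat.card A) : ∃ P : Sylow p G, (P : Subgroup G) ≤ A := by
  obtain ⟨a, ha⟩ := exists_prime_orderOf_dvd_card' (G := A) p hp
  have hpg : IsPGroup p (Subgroup.zpowers (a : G)) :=
    IsPGroup.of_card (n := 1) (by rw [Nat.card_zpowers, Subgroup.orderOf_coe, ha, pow_one])
  obtain ⟨P, hP⟩ := hpg.exists_le_sylow
  have hpG : p ∣ Nat.card G := hp.trans A.card_subgroup_dvd_card
  have : Nontrivial (P : Subgroup G) :=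
    (Subgroup.nontrivial_iff_ne_bot _).mpr (P.ne_bot_of_dvd_card hpG)
  have : Nontrivial (Subgroup.center (P : Subgroup G)) := P.isPGroup'.center_nontrivial
  obtain ⟨z, hz⟩ := exists_ne (1 : Subgroup.center (P : Subgroup G))
  have hzc : ∀ y ∈ (P : Subgroup G), y * ((z : (P : Subgroup G)) : G) = ((z : (P : Subgroup G)) : G) * y :=
    fun y hy => congr_arg Subtype.val (Subgroup.mem_center_iff.mp z.2 ⟨y, hy⟩)
  have hz1 : ((z : (P : Subgroup G)) : G) ≠ 1 := fun h => hz (Subtype.ext (Subtype.ext h))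
  have ha1 : (a : G) ≠ 1 := fun h => by
    rw [show a = 1 from Subtype.ext h, orderOf_one] at ha
    exact (Fact.out : p.Prime).one_lt.ne ha
  have hzA : ((z : (P : Subgroup G)) : G) ∈ A := by
    rw [← hA _ a.2 ha1, Subgroup.mem_centralizer_singleton_iff]
    exact (hzc _ (hP (Subgroup.mem_zpowers _))).symm
  refine ⟨P, fun y hy => ?_⟩
  rw [← hA _ hzA hz1, Subgroup.mem_centralizer_singleton_iff]
  exact hzc y hy

theorem comm_of_selfCentral {A : Subgroup G}
    (hA : ∀ x ∈ A, x ≠ 1 → Subgroup.centralizer ({x} : Set G) = A) {a b : G} (ha : a ∈ A)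
    (hb : b ∈ A) : a * b = b * a := by
  by_cases h1 : a = 1
  · rw [h1, one_mul, mul_one]
  · rw [← hA a ha h1, Subgroup.mem_centralizer_singleton_iff] at hb
    exact hb.symm

theorem not_normalizer_le_selfCentral [Finite G] [IsSimpleGroup G] (hG : ¬ IsMulCommutative G)
    {A : Subgroup G} (hA : ∀ x ∈ A, x ≠ 1 → Subgroup.centralizer ({x} : Set G) = A)
    (hA1 : 1 < Nat.card A) : ¬ Subgroup.normalizer (A : Set G) ≤ A := by
  intro hle
  have : Fact (Nat.card A).minFac.Prime := ⟨Nat.minFac_prime hA1.ne'⟩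
  obtain ⟨P, hP⟩ := exists_sylow_le_of_selfCentral hA (Nat.minFac_dvd (Nat.card A))
  have hpG : (Nat.card A).minFac ∣ Nat.card G :=
    (Nat.minFac_dvd _).trans A.card_subgroup_dvd_card
  refine Transfer.not_normalizer_le_centralizer hG hpG P fun g hg => ?_
  have hgA : g ∈ A := by
    refine hle ?_
    by_contra hgn
    obtain ⟨y, hy, hy1⟩ := (Subgroup.bot_or_exists_ne_one (P : Subgroup G)).resolve_left
      (P.ne_bot_of_dvd_card hpG)
    exact hy1 (ti_of_centralizer_eq A hA g hgn y (hP hy)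
      (hP ((Subgroup.mem_normalizer_iff.mp hg y).mp hy)))
  exact Subgroup.mem_centralizer_iff.mpr fun y hy => comm_of_selfCentral hA (hP hy) hgA

theorem conj_smul_eq_centralizer (g x : G) :
    MulAut.conj g • Subgroup.centralizer ({x} : Set G) =
      Subgroup.centralizer ({g * x * g⁻¹} : Set G) := by
  ext y
  rw [Solvable.mem_conj_smul, Subgroup.mem_centralizer_singleton_iff,
    Subgroup.mem_centralizer_singleton_iff]
  constructor
  · intro h
    calc y * (g * x * g⁻¹) = g * (g⁻¹ * y * g * x) * g⁻¹ := by group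
      _ = g * (x * (g⁻¹ * y * g)) * g⁻¹ := by rw [h]
      _ = g * x * g⁻¹ * y := by group
  · intro h
    calc g⁻¹ * y * g * x = g⁻¹ * (y * (g * x * g⁻¹)) * g := by group
      _ = g⁻¹ * (g * x * g⁻¹ * y) * g := by rw [h]
      _ = x * (g⁻¹ * y * g) := by group

theorem exists_conj_of_card_eq [Finite G] {A B : Subgroup G}
    (hA : ∀ x ∈ A, x ≠ 1 → Subgroup.centralizer ({x} : Set G) = A)
    (hB : ∀ x ∈ B, x ≠ 1 → Subgroup.centralizer ({x} : Set G) = B)
    (hA1 : 1 < Nat.card A) (h : Nat.card A = Nat.card B) :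
    ∃ g : G, MulAut.conj g • A = B := by
  have : Fact (Nat.card A).minFac.Prime := ⟨Nat.minFac_prime hA1.ne'⟩
  obtain ⟨P, hP⟩ := exists_sylow_le_of_selfCentral hA (Nat.minFac_dvd (Nat.card A))
  obtain ⟨Q, hQ⟩ := exists_sylow_le_of_selfCentral hB
    (show (Nat.card A).minFac ∣ Nat.card B from h ▸ Nat.minFac_dvd _)
  obtain ⟨g, hg⟩ := MulAction.exists_smul_eq G P Q
  refine ⟨g, ?_⟩
  obtain ⟨y, hy, hy1⟩ := (Subgroup.bot_or_exists_ne_one (P : Subgroup G)).resolve_left
    (P.ne_bot_of_dvd_card ((Nat.minFac_dvd _).trans A.card_subgroup_dvd_card))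
  have hmem : g * y * g⁻¹ ∈ (Q : Subgroup G) := by
    rw [← hg, Sylow.coe_subgroup_smul]
    rw [Solvable.mem_conj_smul]
    simpa [mul_assoc] using hy
  rw [← hA y (hP hy) hy1, conj_smul_eq_centralizer,
    hB _ (hQ hmem) (fun h' => hy1 (by simpa using h'))]

section Simple

variable [Fintype G]

open scoped Classical in
/-- The conjugates of a subgroup, as a finset. -/
noncomputable def conjOrbit (A : Subgroup G) : Finset (Subgroup G) :=
  Finset.univ.image fun g : G => MulAut.conj g • A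

theorem mem_conjOrbit {A B : Subgroup G} : B ∈ conjOrbit A ↔ ∃ g : G, MulAut.conj g • A = B := by
  classical
  simp [conjOrbit]

theorem card_conjOrbit_mul (A : Subgroup G) :
    (conjOrbit A).card * Nat.card (Subgroup.normalizer (A : Set G)) = Nat.card G := by
  classical
  have := Fintype.ofFinite (Subgroup.normalizer (A : Set G))
  rw [Nat.card_eq_fintype_card (α := G), ← Finset.card_univ (α := G),
    Finset.card_eq_sum_card_image (fun g : G => MulAut.conj g • A) Finset.univ,
    ← smul_eq_mul, ← Finset.sum_const]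
  refine Finset.sum_congr rfl fun B hB => ?_
  obtain ⟨g, -, rfl⟩ := Finset.mem_image.mp hB
  rw [Nat.card_eq_fintype_card, ← Finset.card_univ]
  refine Finset.card_bij (fun n _ => g * (n : G)) (fun n _ => ?_)
    (fun a _ b _ h => Subtype.ext (mul_left_cancel h)) fun b hb => ?_
  · simp only [Finset.mem_filter, Finset.mem_univ, true_and]
    rw [← Solvable.conj_smul_conj_smul, Solvable.conj_smul_eq_self_iff.mpr n.2]
  · simp only [Finset.mem_filter, Finset.mem_univ, true_and] at hb
    refine ⟨⟨g⁻¹ * b, Solvable.conj_smul_eq_self_iff.mp ?_⟩, Finset.mem_univ _, by simp⟩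
    rw [← Solvable.conj_smul_conj_smul, hb, Solvable.conj_smul_conj_smul, inv_mul_cancel,
      Solvable.conj_one_smul]

theorem sum_nonId_conj {M : Type*} [AddCommMonoid M] (A : Subgroup G) (g : G) (f : G → M) :
    ∑ x ∈ nonId (MulAut.conj g • A), f x = ∑ a ∈ nonId A, f (g * a * g⁻¹) := by
  symm
  refine Finset.sum_bij (fun a _ => g * a * g⁻¹) (fun a ha => ?_)
    (fun a _ b _ h => mul_left_cancel (mul_right_cancel h)) (fun x hx => ?_) fun a _ => rfl
  · obtain ⟨haA, ha1⟩ := mem_nonId.mp ha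
    exact mem_nonId.mpr ⟨Solvable.mem_conj_smul.mpr (by simpa [mul_assoc] using haA),
      fun h => ha1 (by simpa using h)⟩
  · obtain ⟨hxA, hx1⟩ := mem_nonId.mp hx
    exact ⟨g⁻¹ * x * g, mem_nonId.mpr ⟨Solvable.mem_conj_smul.mp hxA,
      fun h => hx1 (by
        have := congr_arg (fun z => g * z * g⁻¹) h
        simpa [mul_assoc] using this)⟩, by group⟩

open scoped Classical in
/-- The irreducible characters not constant (integral) on the non-identity elements of `A`. -/
noncomputable def excSet [Fintype (Cfsg.IrrCharacter G)] (A : Subgroup G) :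
    Finset (Cfsg.IrrCharacter G) :=
  Finset.univ.filter fun φ => ¬ ∃ c : ℤ, ∀ a ∈ nonId A, (φ : G → ℂ) a = c

theorem mem_excSet [Fintype (Cfsg.IrrCharacter G)] {A : Subgroup G} {φ : Cfsg.IrrCharacter G} :
    φ ∈ excSet A ↔ ¬ ∃ c : ℤ, ∀ a ∈ nonId A, (φ : G → ℂ) a = c := by
  classical
  simp [excSet]

open scoped Classical in
theorem ExFamily.excSet_eq [Fintype (Cfsg.IrrCharacter G)] {A : Subgroup G} {e w : ℕ}
    {θ : Fin w → G → ℂ} (hθ : ExFamily A e w θ) :
    excSet A = Finset.univ.image fun j => (⟨θ j, hθ.irr j⟩ : Cfsg.IrrCharacter G) := by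
  ext φ
  rw [mem_excSet, Finset.mem_image]
  constructor
  · intro h
    by_contra hcon
    push Not at hcon
    exact h (hθ.const φ φ.2 fun j e' => hcon j (Finset.mem_univ _) (Subtype.ext e'.symm))
  · rintro ⟨j, -, rfl⟩
    exact hθ.nonconst j

theorem ExFamily.mem_iff [Fintype (Cfsg.IrrCharacter G)] {A : Subgroup G} {e w : ℕ}
    {θ : Fin w → G → ℂ} (hθ : ExFamily A e w θ) {φ : Cfsg.IrrCharacter G} :
    φ ∈ excSet A ↔ ∃ j, θ j = (φ : G → ℂ) := by
  classical
  rw [hθ.excSet_eq, Finset.mem_image]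
  exact ⟨fun ⟨j, _, h⟩ => ⟨j, congr_arg Subtype.val h⟩,
    fun ⟨j, h⟩ => ⟨j, Finset.mem_univ _, Subtype.ext h⟩⟩

theorem ExFamily.card_excSet [Fintype (Cfsg.IrrCharacter G)] {A : Subgroup G} {e w : ℕ}
    {θ : Fin w → G → ℂ} (hθ : ExFamily A e w θ) : (excSet A).card = w := by
  classical
  rw [hθ.excSet_eq, Finset.card_image_of_injective _
    (fun i j h => hθ.inj (congr_arg Subtype.val h)), Finset.card_univ, Fintype.card_fin]

theorem excSet_conj [Fintype (Cfsg.IrrCharacter G)] (A : Subgroup G) (g : G) :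
    excSet (MulAut.conj g • A) = excSet A := by
  ext φ
  rw [mem_excSet, mem_excSet]
  refine not_congr (exists_congr fun c => ?_)
  constructor
  · intro h a ha
    obtain ⟨haA, ha1⟩ := mem_nonId.mp ha
    rw [← irr_isClassFunction φ.2 a g]
    exact h _ (mem_nonId.mpr ⟨Solvable.mem_conj_smul.mpr (by simpa [mul_assoc] using haA),
      fun h' => ha1 (by simpa using h')⟩)
  · intro h x hx
    obtain ⟨hxA, hx1⟩ := mem_nonId.mp hx
    have h2 := h (g⁻¹ * x * g) (mem_nonId.mpr ⟨Solvable.mem_conj_smul.mp hxA, fun h' => hx1 (by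
      have := congr_arg (fun z => g * z * g⁻¹) h'
      simpa [mul_assoc] using this)⟩)
    rw [← h2]
    have := irr_isClassFunction φ.2 x g⁻¹
    simpa using this.symm

end Simple

end CfsgLib.Char
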