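import Cfsg.Agent.Lib.Char.Column

/-!
# Class sums, commutators, vanishing outside centralisers
-/

namespace CfsgLib.Char

open Module
open scoped ComplexConjugate

universe u

variable {G : Type u} [Group G] [Fintype G] {V : Type*} [AddCommGroup V] [Module ℂ V]
  [FiniteDimensional ℂ V]

/-- An operator commuting with an irreducible representation is scalar, given by its trace. -/
theorem commute_eq_trace_scalar (ρ : Representation ℂ G V) [ρ.IsIrreducible] (T : V →ₗ[ℂ] V)
    (hT : ∀ g, T ∘ₗ ρ g = ρ g ∘ₗ T) :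
    T = (LinearMap.trace ℂ V T / (finrank ℂ V : ℂ)) • (LinearMap.id : V →ₗ[ℂ] V) := by
  have := nontrivial_of_isIrreducible ρ
  let T' : Representation.IntertwiningMap ρ ρ := ⟨T, hT⟩
  obtain ⟨c, hc⟩ := (Representation.IsIrreducible.algebraMap_intertwiningMap_bijective_of_isAlgClosed
    (ρ := ρ) (k := ℂ)).2 T'
  have hc2 : T = c • (LinearMap.id : V →ₗ[ℂ] V) := by
    have := congr_arg Representation.IntertwiningMap.toLinearMap hc
    simp only [T'] at this
    rw [← this]
    ext v
    simp [Algebra.algebraMap_eq_smul_one]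
  have htr : LinearMap.trace ℂ V T = c * finrank ℂ V := by
    rw [hc2, map_smul, LinearMap.trace_id, smul_eq_mul]
  rw [htr, mul_div_cancel_right₀ _ (by exact_mod_cast finrank_pos.ne')]
  exact hc2

/-- `∑ₐ χ(a x a⁻¹ y) = |G| χ(x) χ(y) / χ(1)`. -/
theorem sum_char_conj_mul (ρ : Representation ℂ G V) [ρ.IsIrreducible] (x y : G) :
    ∑ a : G, ρ.character (a * x * a⁻¹ * y) =
      (Nat.card G : ℂ) * ρ.character x * ρ.character y / (finrank ℂ V : ℂ) := by
  have hT : ∀ g, (∑ a : G, ρ (a * x * a⁻¹)) ∘ₗ ρ g = ρ g ∘ₗ ∑ a : G, ρ (a * x * a⁻¹) := by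
    intro g
    simp only [← Module.End.mul_eq_comp, Finset.sum_mul, Finset.mul_sum, ← map_mul]
    refine Fintype.sum_equiv (Equiv.mulLeft g⁻¹) _ _ fun a => ?_
    congr 1
    simp [mul_assoc]
  have hs := commute_eq_trace_scalar ρ _ hT
  have htr : LinearMap.trace ℂ V (∑ a : G, ρ (a * x * a⁻¹)) =
      (Nat.card G : ℂ) * ρ.character x := by
    rw [map_sum]
    refine (Finset.sum_congr rfl (g := fun _ => ρ.character x) fun a _ => ρ.char_conj x a).trans ?_
    rw [Finset.sum_const, Finset.card_univ, nsmul_eq_mul, Nat.card_eq_fintype_card]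
  calc ∑ a : G, ρ.character (a * x * a⁻¹ * y)
      = LinearMap.trace ℂ V ((∑ a : G, ρ (a * x * a⁻¹)) ∘ₗ ρ y) := by
        simp only [Representation.character, ← Module.End.mul_eq_comp, Finset.sum_mul, ← map_mul,
          map_sum]
    _ = _ := by
        rw [hs, htr, LinearMap.smul_comp, LinearMap.id_comp, map_smul, smul_eq_mul]
        simp only [Representation.character]
        ring

open scoped Classical in
theorem exists_commutator_iff (g : G) [Fintype (Cfsg.IrrCharacter G)] :
    (∃ a b : G, g = a * b * a⁻¹ * b⁻¹) ↔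
      ∑ χ : Cfsg.IrrCharacter G, (χ : G → ℂ) g / (χ : G → ℂ) 1 ≠ 0 := by
  let N : G → ℂ := fun x =>
    (((Finset.univ : Finset (G × G)).filter fun p => p.1 * p.2 * p.1⁻¹ * p.2⁻¹ = x).card : ℂ)
  have hcl : Cfsg.IsClassFunction G N := by
    intro x h
    simp only [N]
    congr 1
    refine Finset.card_equiv ((MulAut.conj h⁻¹).toEquiv.prodCongr (MulAut.conj h⁻¹).toEquiv)
      fun p => ?_
    simp only [Finset.mem_filter, Finset.mem_univ, true_and, Equiv.prodCongr_apply, Prod.map,
      MulEquiv.toEquiv_eq_coe, MulEquiv.coe_toEquiv, ← map_inv, ← map_mul]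
    rw [MulAut.conj_apply, inv_inv]
    constructor
    · intro e; rw [e]; group
    · intro e; rw [← e]; group
  have hinner : ∀ χ : Cfsg.IrrCharacter G,
      Cfsg.classInner N (χ : G → ℂ) = (Nat.card G : ℂ) / (χ : G → ℂ) 1 := by
    rintro ⟨χ, n, ρ, hρ, rfl⟩
    change Cfsg.classInner N ρ.character = (Nat.card G : ℂ) / ρ.character 1
    have h1 : ∑ x : G, N x * conj (ρ.character x) =
        ∑ p : G × G, conj (ρ.character (p.1 * p.2 * p.1⁻¹ * p.2⁻¹)) := by
      rw [← Finset.sum_fiberwise Finset.univ (fun p : G × G => p.1 * p.2 * p.1⁻¹ * p.2⁻¹)]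
      refine Finset.sum_congr rfl fun x _ => ?_
      rw [Finset.sum_congr rfl (g := fun _ => conj (ρ.character x))
        (fun p hp => by rw [(Finset.mem_filter.mp hp).2]), Finset.sum_const, nsmul_eq_mul]
    rw [classInner_def, h1, Fintype.sum_prod_type, Finset.sum_comm]
    simp only [← map_sum, sum_char_conj_mul]
    rw [Representation.char_one, ← Finset.sum_div]
    simp only [mul_assoc, ← Finset.mul_sum, map_div₀, map_mul, map_natCast]
    have h2 := irr_classInner_self (isIrrCharacter_of_rep ρ)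
    rw [classInner_def, inv_mul_eq_one₀ natCard_ne_zero] at h2
    simp only [char_inv_eq_conj, ← h2, map_natCast]
    rw [← mul_div_assoc, inv_mul_cancel_left₀ natCard_ne_zero]
  have hN : N g = (Nat.card G : ℂ) *
      ∑ χ : Cfsg.IrrCharacter G, (χ : G → ℂ) g / (χ : G → ℂ) 1 := by
    rw [classFunction_apply_eq_sum hcl g, Finset.mul_sum]
    exact Finset.sum_congr rfl fun χ _ => by rw [hinner]; ring
  have hN0 : (∃ a b : G, g = a * b * a⁻¹ * b⁻¹) ↔ N g ≠ 0 := by
    simp only [N, Nat.cast_ne_zero, Finset.card_ne_zero, Finset.filter_nonempty_iff,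
      Finset.mem_univ, true_and, Prod.exists]
    exact ⟨fun ⟨a, b, h⟩ => ⟨a, b, h.symm⟩, fun ⟨a, b, h⟩ => ⟨a, b, h.symm⟩⟩
  rw [hN0, hN, mul_ne_zero_iff]
  exact ⟨fun h => h.2, fun h => ⟨natCard_ne_zero, h⟩⟩

/-- An element with no nontrivial fixed point on a normal subgroup outside the kernel
has character value zero. -/
theorem char_eq_zero_of_fpf (ρ : Representation ℂ G V) [ρ.IsIrreducible] (H : Subgroup G)
    [hN : H.Normal] (hker : ∃ h ∈ H, ρ h ≠ LinearMap.id) (g : G)
    (hg : ∀ h ∈ H, h * g = g * h → h = 1) : ρ.character g = 0 := by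
  classical
  have := Fintype.ofFinite H
  set e : V →ₗ[ℂ] V := ∑ h : H, ρ (h : G) with he
  have he0 : e = 0 := by
    have hinv : ∀ h : H, ρ (h : G) ∘ₗ e = e := fun h => by
      simp only [he, ← Module.End.mul_eq_comp, Finset.mul_sum, ← map_mul]
      exact Fintype.sum_equiv (Equiv.mulLeft h) _ _ fun x => rfl
    have hcomm : ∀ x : G, e ∘ₗ ρ x = ρ x ∘ₗ e := fun x => by
      simp only [he, ← Module.End.mul_eq_comp, Finset.sum_mul, Finset.mul_sum, ← map_mul]
      refine Fintype.sum_equiv (MulAut.conjNormal x⁻¹).toEquiv _ _ fun h => ?_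
      congr 1
      simp [mul_assoc]
    have hs := commute_eq_trace_scalar ρ e hcomm
    by_contra hne
    obtain ⟨h, hh, hρ⟩ := hker
    refine hρ ?_
    have hc : LinearMap.trace ℂ V e / (finrank ℂ V : ℂ) ≠ 0 := fun h0 => hne (by
      rw [hs, h0, zero_smul])
    have h1 := hinv ⟨h, hh⟩
    rw [hs, LinearMap.comp_smul, LinearMap.comp_id] at h1
    exact smul_right_injective _ hc h1
  have hbij : Function.Bijective (fun h : H => (⟨g⁻¹ * ((h : G) * g * (h : G)⁻¹), by
      have h2 := H.mul_mem (hN.conj_mem (h : G) h.2 g⁻¹) (H.inv_mem h.2)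
      convert h2 using 1
      group⟩ : H)) := by
    rw [← Finite.injective_iff_bijective]
    intro a b hab
    have h1 : (a : G) * g * (a : G)⁻¹ = (b : G) * g * (b : G)⁻¹ :=
      mul_left_cancel (congr_arg Subtype.val hab)
    have h2 := hg ((b : G)⁻¹ * a) (H.mul_mem (H.inv_mem b.2) a.2) (by
      have h3 := congr_arg (fun x => (b : G)⁻¹ * x * a) h1
      simpa [mul_assoc] using h3)
    exact Subtype.ext (inv_mul_eq_one.mp h2).symm
  have hsum : ∑ h : H, ρ.character ((h : G) * g * (h : G)⁻¹) = 0 := by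
    have h1 : ∑ h : H, ρ ((h : G) * g * (h : G)⁻¹) = ρ g ∘ₗ e := by
      simp only [he, ← Module.End.mul_eq_comp, Finset.mul_sum, ← map_mul]
      refine Fintype.sum_bijective _ hbij _ _ fun h => ?_
      congr 1
      simp [mul_assoc]
    have h2 := congr_arg (LinearMap.trace ℂ V) h1
    rw [he0, LinearMap.comp_zero, map_zero, map_sum] at h2
    exact h2
  simp only [Representation.char_conj, Finset.sum_const, Finset.card_univ, nsmul_eq_mul,
    mul_eq_zero, Nat.cast_eq_zero, Fintype.card_ne_zero, false_or] at hsum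
  exact hsum

end CfsgLib.Char
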