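import Cfsg.Agent.Lib.Char.Constituent
import Mathlib.GroupTheory.Solvable

/-!
# Taketa: monomial groups are solvable
-/

namespace CfsgLib.Char

open scoped ComplexConjugate

universe u

variable {G : Type u} [Group G] [Fintype G]

theorem derivedSeries_le_ker_of_monomial
    (hM : ∀ χ : G → ℂ, Cfsg.IsIrrCharacter G χ →
      ∃ (H : Subgroup G) (lam : H →* ℂˣ), χ = Cfsg.indFun H (fun h => (lam h : ℂ))) :
    ∀ (d : ℕ) (χ : G → ℂ), Cfsg.IsIrrCharacter G χ → χ 1 = (d : ℂ) →
      ∀ g ∈ derivedSeries G d, χ g = χ 1 := by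
  classical
  intro d
  induction d using Nat.strong_induction_on with
  | _ d ih =>
  intro χ hχ hd g hg
  obtain ⟨H, lam, hH⟩ := hM χ hχ
  have hidx : H.index = d := by
    have := congr_fun hH 1
    rw [hd, indFun_apply_one, map_one, Units.val_one, mul_one] at this
    exact_mod_cast this.symm
  have hdpos : 0 < d := hidx ▸ Nat.pos_of_ne_zero Subgroup.index_ne_zero_of_finite
  set D := derivedSeries G (d - 1)
  have hDn : D.Normal := derivedSeries_normal G _
  have hDH : D ≤ H := by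
    intro x hx
    have := Fintype.ofFinite H
    set π : G → ℂ := Cfsg.indFun H (fun _ => 1) with hπ
    have hπc : Cfsg.IsCharacter G π := isCharacter_indFun H isCharacter_one
    have h11 : Cfsg.classInner π (fun _ => (1 : ℂ)) = 1 := by
      rw [hπ, frobenius_reciprocity H _ _ (irr_isClassFunction isIrrCharacter_one)]
      exact irr_classInner_self isIrrCharacter_one
    obtain ⟨l, hl, hle⟩ := isCharacter_exists_multiset
      (isCharacter_sub_of_constituent hπc isIrrCharacter_one (by rw [h11]; exact one_ne_zero))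
    have hl1 : l.sum 1 = ((d - 1 : ℕ) : ℂ) := by
      rw [← hle, Pi.sub_apply, hπ, indFun_apply_one, hidx, mul_one,
        Nat.cast_sub hdpos, Nat.cast_one]
    have hmem : ∀ ψ ∈ l, ψ x = ψ 1 := by
      intro ψ hψ
      obtain ⟨e, he, he1⟩ := irr_apply_one_pos (hl ψ hψ)
      obtain ⟨l', rfl⟩ := Multiset.exists_cons_of_mem hψ
      obtain ⟨r, hr⟩ := char_apply_one_eq_nat (isCharacter_multiset_sum (l := l')
        fun φ hφ => irr_isCharacter (hl φ (Multiset.mem_cons_of_mem hφ)))
      rw [Multiset.sum_cons, Pi.add_apply, he1, hr] at hl1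
      have : e + r = d - 1 := by exact_mod_cast hl1
      exact ih e (by omega) ψ (hl ψ (Multiset.mem_cons_self _ _)) he1 x
        (derivedSeries_antitone G (by omega : e ≤ d - 1) hx)
    have hsum : ∀ s : Multiset (G → ℂ), (∀ ψ ∈ s, ψ x = ψ 1) → s.sum x = s.sum 1 := fun s => by
      induction s using Multiset.induction with
      | empty => simp
      | cons a s ih' =>
        intro h
        rw [Multiset.sum_cons, Pi.add_apply, Pi.add_apply, h a (Multiset.mem_cons_self a s),
          ih' fun ψ hψ => h ψ (Multiset.mem_cons_of_mem hψ)]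
    have hπx : π x = π 1 := by
      have := hsum l hmem
      rw [← hle] at this
      simpa using this
    rw [hπ, indFun_def, indFun_def] at hπx
    have h2 := mul_left_cancel₀ (inv_ne_zero (by exact_mod_cast Nat.card_pos.ne')) hπx
    by_contra hxH
    have hlt : ∑ y : G, (Cfsg.extendByZero H (fun _ => (1 : ℂ)) (y⁻¹ * x * y)).re <
        ∑ y : G, (Cfsg.extendByZero H (fun _ => (1 : ℂ)) (y⁻¹ * 1 * y)).re := by
      refine Finset.sum_lt_sum (fun y _ => ?_) ⟨1, Finset.mem_univ _, ?_⟩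
      · rw [extendByZero_of_mem (g := y⁻¹ * 1 * y) _ (by simp)]
        by_cases hy : y⁻¹ * x * y ∈ H
        · rw [extendByZero_of_mem _ hy]
        · rw [extendByZero_of_not_mem _ hy]; simp
      · rw [extendByZero_of_mem (g := (1 : G)⁻¹ * 1 * 1) _ (by simp),
          extendByZero_of_not_mem _ (by simpa using hxH)]
        simp
    rw [← Complex.re_sum, ← Complex.re_sum, h2] at hlt
    exact lt_irrefl _ hlt
  have hsucc : derivedSeries G d = ⁅D, D⁆ := by
    rw [show derivedSeries G d = derivedSeries G (d - 1 + 1) by rw [Nat.sub_add_cancel hdpos]]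
    rfl
  rw [hsucc] at hg
  rw [hH, indFun_def, indFun_def]
  congr 1
  refine Finset.sum_congr rfl fun y _ => ?_
  have hy : y⁻¹ * g * y ∈ ⁅D, D⁆ := by
    simpa using (Subgroup.commutator_normal D D).conj_mem g hg y⁻¹
  have hyH : y⁻¹ * g * y ∈ H := hDH ((Subgroup.commutator_le_right D D) hy)
  rw [extendByZero_of_mem _ hyH, extendByZero_of_mem (g := y⁻¹ * 1 * y) _ (by simp)]
  have hker : ∀ (z : G) (hz : z ∈ ⁅D, D⁆),
      lam ⟨z, hDH ((Subgroup.commutator_le_right D D) hz)⟩ = 1 := by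
    have hle : ⁅D, D⁆ ≤ lam.ker.map H.subtype := by
      rw [Subgroup.commutator_le]
      intro a ha b hb
      refine ⟨⟨a, hDH ha⟩ * ⟨b, hDH hb⟩ * ⟨a, hDH ha⟩⁻¹ * ⟨b, hDH hb⟩⁻¹, ?_, rfl⟩
      show lam _ = 1
      rw [map_mul, map_mul, map_mul, map_inv, map_inv]
      rw [mul_comm (lam ⟨a, hDH ha⟩), mul_inv_cancel_right, mul_inv_cancel]
    intro z hz
    obtain ⟨w, hw, hwz⟩ := hle hz
    exact (congr_arg lam (Subtype.ext hwz.symm)).trans hw
  show ((lam ⟨y⁻¹ * g * y, hyH⟩ : ℂˣ) : ℂ) = ((lam ⟨y⁻¹ * 1 * y, _⟩ : ℂˣ) : ℂ)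
  rw [hker _ hy, ← map_one lam]
  congr 2
  exact Subtype.ext (by simp)

theorem isSolvable_of_monomial
    (hM : ∀ χ : G → ℂ, Cfsg.IsIrrCharacter G χ →
      ∃ (H : Subgroup G) (lam : H →* ℂˣ), χ = Cfsg.indFun H (fun h => (lam h : ℂ))) :
    Group.IsSolvable G := by
  have := Fintype.ofFinite (Cfsg.IrrCharacter G)
  choose d hd hd1 using fun χ : Cfsg.IrrCharacter G => irr_apply_one_pos χ.2
  refine ⟨⟨∑ χ, d χ, eq_bot_iff.mpr fun g hg => ?_⟩⟩
  rw [Subgroup.mem_bot]
  by_contra hne
  obtain ⟨χ, hχ⟩ := exists_irr_apply_ne hne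
  exact hχ (derivedSeries_le_ker_of_monomial hM (d χ) χ χ.2 (hd1 χ) g
    (derivedSeries_antitone G
      (Finset.single_le_sum (fun ψ _ => Nat.zero_le (d ψ)) (Finset.mem_univ χ)) hg))

end CfsgLib.Char
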