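import Cfsg.Agent.Lib.Char.Brauer

/-!
# Artin's induction theorem
-/

namespace CfsgLib.Char

open Module
open scoped ComplexConjugate

universe u

open scoped Classical in
/-- `|A|` on generators of `A`, zero elsewhere. -/
noncomputable def genIndicator {G : Type u} [Group G] (A : Subgroup G) : A → ℂ :=
  fun a => if Subgroup.zpowers (a : G) = A then (Nat.card A : ℂ) else 0

theorem sum_indFun_genIndicator {G : Type u} [Group G] [Fintype G]
    [Fintype {A : Subgroup G // IsCyclic A}] :
    ∑ A : {A : Subgroup G // IsCyclic A}, Cfsg.indFun A.1 (genIndicator A.1) =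
      fun _ => (Nat.card G : ℂ) := by
  classical
  ext g
  simp only [Finset.sum_apply, indFun_def, Finset.mul_sum]
  rw [Finset.sum_comm]
  have hterm : ∀ (A : {A : Subgroup G // IsCyclic A}) (y : G),
      (Nat.card A.1 : ℂ)⁻¹ * Cfsg.extendByZero A.1 (genIndicator A.1) y =
        if Subgroup.zpowers y = A.1 then 1 else 0 := fun A y => by
    split_ifs with h
    · have hy : y ∈ A.1 := h ▸ Subgroup.mem_zpowers y
      rw [extendByZero_of_mem _ hy, genIndicator, if_pos h,
        inv_mul_cancel₀ (by exact_mod_cast Nat.card_pos.ne')]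
    · by_cases hy : y ∈ A.1
      · rw [extendByZero_of_mem _ hy, genIndicator, if_neg h, mul_zero]
      · rw [extendByZero_of_not_mem _ hy, mul_zero]
  simp only [hterm]
  have hone : ∀ y : G, ∑ A : {A : Subgroup G // IsCyclic A},
      (if Subgroup.zpowers y = A.1 then (1 : ℂ) else 0) = 1 := fun y => by
    rw [Fintype.sum_eq_single (⟨Subgroup.zpowers y, inferInstance⟩ :
      {A : Subgroup G // IsCyclic A}) (fun A hA => if_neg fun h => hA (Subtype.ext h.symm))]
    exact if_pos rfl
  simp [hone]

theorem genIndicator_map {G : Type u} [Group G] (A : Subgroup G) (B : Subgroup A) (x : B) :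
    genIndicator (B.map A.subtype) (B.equivMapOfInjective A.subtype A.subtype_injective x) =
      genIndicator B x := by
  classical
  unfold genIndicator
  rw [Nat.card_congr (B.equivMapOfInjective A.subtype A.subtype_injective).symm.toEquiv,
    show ((B.equivMapOfInjective A.subtype A.subtype_injective x : B.map A.subtype) : G) =
      A.subtype (x : A) from rfl, ← MonoidHom.map_zpowers]
  simp only [(Subgroup.map_injective A.subtype_injective).eq_iff]

theorem isGeneralized_genIndicator : ∀ (G : Type u) [Group G] [Fintype G] (A : Subgroup G)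
    [IsCyclic A], Cfsg.IsGeneralizedCharacter A (genIndicator A) := by
  suffices ∀ (n : ℕ) (G : Type u) [Group G] [Fintype G] (A : Subgroup G) [IsCyclic A],
      Nat.card A = n → Cfsg.IsGeneralizedCharacter A (genIndicator A) from
    fun G _ _ A _ => this _ G A rfl
  intro n
  induction n using Nat.strong_induction_on with
  | _ n ih =>
  intro G _ _ A _ hn
  classical
  have := Fintype.ofFinite A
  have := Fintype.ofFinite {B : Subgroup A // IsCyclic B}
  have h := sum_indFun_genIndicator (G := A)
  rw [Fintype.sum_eq_add_sum_compl (⟨⊤, isCyclic_of_surjective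
    Subgroup.topEquiv.symm.toMonoidHom Subgroup.topEquiv.symm.surjective⟩ :
      {B : Subgroup A // IsCyclic B})] at h
  have htop : Cfsg.indFun (⊤ : Subgroup A) (genIndicator (⊤ : Subgroup A)) = genIndicator A := by
    have hpt : ∀ y : A, Cfsg.extendByZero (⊤ : Subgroup A) (genIndicator (⊤ : Subgroup A)) y =
        genIndicator A y := fun y => by
      rw [extendByZero_of_mem _ (Subgroup.mem_top y)]
      unfold genIndicator
      rw [Subgroup.card_top]
      have : Subgroup.zpowers y = ⊤ ↔ Subgroup.zpowers (y : G) = A := by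
        rw [← (Subgroup.map_injective A.subtype_injective).eq_iff, MonoidHom.map_zpowers,
          ← MonoidHom.range_eq_map, Subgroup.range_subtype]
        rfl
      simp only [this]
    ext a
    have hc : ∀ x : A, x⁻¹ * a * x = a := fun x => by
      rw [mul_assoc, (IsCyclic.commGroup (α := A)).mul_comm a x, inv_mul_cancel_left]
    simp only [indFun_def, hpt, hc, Finset.sum_const, Finset.card_univ, nsmul_eq_mul,
      Subgroup.card_top, ← Nat.card_eq_fintype_card]
    rw [inv_mul_cancel_left₀ natCard_ne_zero]
  rw [htop] at h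
  have heq : genIndicator A = (fun _ => (Nat.card A : ℂ)) - _ := eq_sub_of_add_eq h
  rw [heq]
  refine isGeneralized_sub ?_ (isGeneralized_sum _ fun B hB => ?_)
  · have h1 := isGeneralized_zsmul (isGeneralized_of_isCharacter (isCharacter_one (G := A)))
      (Nat.card A : ℤ)
    have e : (((Nat.card A : ℤ) : ℂ) • fun _ : A => (1 : ℂ)) = fun _ => (Nat.card A : ℂ) := by
      ext; simp
    rwa [e] at h1
  · refine isGeneralized_indFun B.1 ?_
    have := B.2
    refine ih _ ?_ A B.1 rfl
    rw [← hn]
    refine lt_of_le_of_ne (Nat.le_of_dvd Nat.card_pos B.1.card_subgroup_dvd_card) fun he => ?_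
    rw [Finset.mem_compl, Finset.mem_singleton] at hB
    exact hB (Subtype.ext (Subgroup.eq_top_of_card_eq B.1 he))

/-- Artin's induction theorem. -/
theorem artin_induction {G : Type u} [Group G] [Fintype G] {χ : G → ℂ}
    (hχ : Cfsg.IsCharacter G χ) :
    (Nat.card G : ℂ) • χ ∈ brauerSpan (fun A : Subgroup G => IsCyclic A) := by
  classical
  have := Fintype.ofFinite {A : Subgroup G // IsCyclic A}
  have e : (Nat.card G : ℂ) • χ =
      ∑ A : {A : Subgroup G // IsCyclic A},
        Cfsg.indFun A.1 (genIndicator A.1 * fun a : A.1 => χ a) := by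
    simp only [← indFun_mul _ _ (isCharacter_isClassFunction hχ), ← Finset.sum_mul,
      sum_indFun_genIndicator]
    ext g
    simp
  rw [e]
  refine AddSubgroup.sum_mem _ fun A _ => ?_
  have := A.2
  obtain ⟨a, b, ha, hb, hab⟩ := isGeneralized_mul (isGeneralized_genIndicator G A.1)
    (isGeneralized_of_isCharacter (isCharacter_restrict hχ A.1))
  rw [hab, indFun_sub]
  have hlin : ∀ c : A.1 → ℂ, Cfsg.IsCharacter A.1 c →
      Cfsg.indFun A.1 c ∈ brauerSpan (fun B : Subgroup G => IsCyclic B) := fun c hc => by
    have := Fintype.ofFinite A.1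
    obtain ⟨l, hl, rfl⟩ := isCharacter_exists_multiset hc
    clear hc
    induction l using Multiset.induction with
    | empty => simp [indFun_zero]
    | cons x s ih =>
      rw [Multiset.sum_cons, indFun_add]
      refine AddSubgroup.add_mem _ ?_ (ih fun ψ hψ => hl ψ (Multiset.mem_cons_of_mem hψ))
      obtain ⟨μ, hμ⟩ := exists_hom_of_degree_one
        (irr_isCharacter (hl x (Multiset.mem_cons_self x s)))
        (irr_degree_one_of_comm (IsCyclic.commGroup (α := A.1)).mul_comm
          (hl x (Multiset.mem_cons_self x s)))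
      exact AddSubgroup.subset_closure
        (show _ ∈ {f : G → ℂ | ∃ (E : Subgroup G) (ν : E →* ℂˣ),
          IsCyclic E ∧ f = Cfsg.indFun E (fun e => (ν e : ℂ))} from
          ⟨A.1, μ, A.2, by rw [hμ]⟩)
  exact AddSubgroup.sub_mem _ (hlin a ha) (hlin b hb)

end CfsgLib.Char
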