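import Cfsg.Agent.Lib.Clifford.Correspondence
import Cfsg.Agent.Lib.Clifford.CentralTypeEmbed
import Cfsg.Agent.Lib.Clifford.Degrees
import Cfsg.Agent.Lib.BlockB.Codegree
import Cfsg.Agent.Lib.Char.CliffordApps

/-!
# Groups with bounded character degrees: elementary facts
-/

set_option autoImplicit false
set_option linter.unusedSectionVars false

namespace CfsgLib.Char.BDeg

open scoped ComplexConjugate

universe u v

variable {G : Type u} [Group G] [Fintype G]

/-- All irreducible character degrees of `G` are at most `b`. -/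
def Bdd (b : ℕ) (G : Type u) [Group G] : Prop :=
  ∀ χ : G → ℂ, Cfsg.IsIrrCharacter G χ → Cfsg.charDegree χ ≤ b

open scoped Classical in
/-- The sum of the squared absolute values of `f` over a subgroup. -/
noncomputable def sq (H : Subgroup G) (f : G → ℂ) : ℝ :=
  ∑ g : G, if g ∈ H then ‖f g‖ ^ 2 else 0

theorem deg_cast {χ : G → ℂ} (hχ : Cfsg.IsCharacter G χ) : (Cfsg.charDegree χ : ℂ) = χ 1 :=
  BlockB.charDegree_cast hχ

theorem deg_pos {χ : G → ℂ} (hχ : Cfsg.IsIrrCharacter G χ) : 0 < Cfsg.charDegree χ :=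
  Nat.pos_of_ne_zero fun h => irr_apply_one_ne_zero hχ (by
    rw [← deg_cast (irr_isCharacter hχ), h, Nat.cast_zero])

theorem deg_eq_of_eq {H : Type v} [Group H] [Finite H] {θ : H → ℂ} {χ : G → ℂ}
    (hθ : Cfsg.IsCharacter H θ) (hχ : Cfsg.IsCharacter G χ) (h : θ 1 = χ 1) :
    Cfsg.charDegree θ = Cfsg.charDegree χ := by
  have := Fintype.ofFinite H
  exact_mod_cast (deg_cast hθ).trans (h.trans (deg_cast hχ).symm)

theorem deg_restrict {H : Subgroup G} {χ : G → ℂ} (hχ : Cfsg.IsCharacter G χ) :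
    Cfsg.charDegree (fun h : H => χ h) = Cfsg.charDegree χ :=
  deg_eq_of_eq (isCharacter_restrict hχ H) hχ rfl

theorem eq_zero_of_one_eq_zero {F : G → ℂ} (hF : Cfsg.IsCharacter G F) (h : F 1 = 0) : F = 0 := by
  by_contra hne
  obtain ⟨χ, R, hχ, hR, rfl⟩ :
      ∃ χ R : G → ℂ, Cfsg.IsIrrCharacter G χ ∧ Cfsg.IsCharacter G R ∧ F = χ + R := by
    obtain ⟨χ, hχ, hn⟩ : ∃ χ, Cfsg.IsIrrCharacter G χ ∧ Cfsg.classInner F χ ≠ 0 := by
      by_contra hc
      push Not at hc
      exact hne (classFunction_eq_zero (isCharacter_isClassFunction hF) hc)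
    obtain ⟨R, hR, e⟩ := Clifford.exists_add_of_constituent hF hχ hn
    exact ⟨χ, R, hχ, hR, e⟩
  rw [Pi.add_apply, ← deg_cast (irr_isCharacter hχ), ← deg_cast hR] at h
  have := deg_pos hχ
  norm_cast at h
  omega

theorem deg_le_of_inner {F ψ : G → ℂ} (hF : Cfsg.IsCharacter G F) (hψ : Cfsg.IsIrrCharacter G ψ)
    (h : Cfsg.classInner F ψ ≠ 0) : Cfsg.charDegree ψ ≤ Cfsg.charDegree F := by
  obtain ⟨R, hR, rfl⟩ := Clifford.exists_add_of_constituent hF hψ h
  have e : ((Cfsg.charDegree (ψ + R) : ℕ) : ℂ) =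
      (Cfsg.charDegree ψ : ℂ) + (Cfsg.charDegree R : ℂ) := by
    rw [deg_cast hF, deg_cast (irr_isCharacter hψ), deg_cast hR]; rfl
  have : Cfsg.charDegree (ψ + R) = Cfsg.charDegree ψ + Cfsg.charDegree R := by exact_mod_cast e
  omega

theorem eq_of_inner_of_le {F ψ : G → ℂ} (hF : Cfsg.IsCharacter G F)
    (hψ : Cfsg.IsIrrCharacter G ψ) (h : Cfsg.classInner F ψ ≠ 0)
    (hle : Cfsg.charDegree F ≤ Cfsg.charDegree ψ) : F = ψ := by
  obtain ⟨R, hR, rfl⟩ := Clifford.exists_add_of_constituent hF hψ h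
  have e : ((Cfsg.charDegree (ψ + R) : ℕ) : ℂ) =
      (Cfsg.charDegree ψ : ℂ) + (Cfsg.charDegree R : ℂ) := by
    rw [deg_cast hF, deg_cast (irr_isCharacter hψ), deg_cast hR]; rfl
  have hsum : Cfsg.charDegree (ψ + R) = Cfsg.charDegree ψ + Cfsg.charDegree R := by exact_mod_cast e
  have h0 : Cfsg.charDegree R = 0 := by omega
  rw [eq_zero_of_one_eq_zero hR (by rw [← deg_cast hR, h0, Nat.cast_zero]), add_zero]

theorem inner_symm_ne {F ψ : G → ℂ} : Cfsg.classInner F ψ ≠ 0 ↔ Cfsg.classInner ψ F ≠ 0 := by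
  have := classInner_conj_symm F ψ
  constructor
  · intro h h'
    exact h (by rw [← classInner_conj_symm ψ F, h', map_zero])
  · intro h h'
    exact h (by rw [← classInner_conj_symm F ψ, h', map_zero])

/-- Every irreducible character of a subgroup lies below one of the group. -/
theorem exists_above (H : Subgroup G) [Fintype H] {θ : H → ℂ}
    (hθ : Cfsg.IsIrrCharacter H θ) :
    ∃ χ : G → ℂ, Cfsg.IsIrrCharacter G χ ∧
      Cfsg.classInner (fun h : H => χ h) θ ≠ 0 := by
  obtain ⟨χ, hχ, hne⟩ := exists_constituent (isCharacter_indFun H (irr_isCharacter hθ)) (by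
    rw [indFun_apply_one]
    exact mul_ne_zero (by exact_mod_cast H.index_ne_zero_of_finite) (irr_apply_one_ne_zero hθ))
  rw [frobenius_reciprocity H _ _ (irr_isClassFunction hχ)] at hne
  exact ⟨χ, hχ, inner_symm_ne.mp hne⟩

theorem Bdd.subgroup {b : ℕ} (hb : Bdd b G) (H : Subgroup G) : Bdd b H := fun θ hθ => by
  have := Fintype.ofFinite H
  obtain ⟨χ, hχ, hne⟩ := exists_above H hθ
  refine (deg_le_of_inner (isCharacter_restrict (irr_isCharacter hχ) H) hθ hne).trans ?_
  rw [deg_restrict (irr_isCharacter hχ)]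
  exact hb χ hχ

theorem Bdd.quotient {b : ℕ} (hb : Bdd b G) (N : Subgroup G) [N.Normal] : Bdd b (G ⧸ N) :=
  fun θ hθ => by
  rw [deg_eq_of_eq (G := G) (χ := fun g => θ (QuotientGroup.mk' N g)) (irr_isCharacter hθ)
    (irr_isCharacter (isIrrCharacter_comp_surjective hθ _ (QuotientGroup.mk'_surjective N)))
    (by rw [map_one])]
  exact hb _ (isIrrCharacter_comp_surjective hθ _ (QuotientGroup.mk'_surjective N))

/-- A character of maximal degree of a subgroup is the restriction of one of the group. -/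
theorem exists_extension {b : ℕ} (hb : Bdd b G) {H : Subgroup G} [Fintype H] {θ : H → ℂ}
    (hθ : Cfsg.IsIrrCharacter H θ) (hd : b ≤ Cfsg.charDegree θ) :
    ∃ χ : G → ℂ, Cfsg.IsIrrCharacter G χ ∧ Cfsg.charDegree χ = b ∧
      (fun h : H => χ h) = θ := by
  obtain ⟨χ, hχ, hne⟩ := exists_above H hθ
  have hc := isCharacter_restrict (irr_isCharacter hχ) H
  have h1 := deg_le_of_inner hc hθ hne
  have h2 := hb χ hχ
  rw [deg_restrict (irr_isCharacter hχ)] at h1
  exact ⟨χ, hχ, by omega,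
    eq_of_inner_of_le hc hθ hne (by rw [deg_restrict (irr_isCharacter hχ)]; omega)⟩

theorem bdd_sub {b : ℕ} (hb : Bdd b G) (H : Subgroup G)
    (hno : ∀ χ : G → ℂ, Cfsg.IsIrrCharacter G χ → Cfsg.charDegree χ = b →
      ¬ Cfsg.IsIrrCharacter H (fun h : H => χ h)) : Bdd (b - 1) H := fun θ hθ => by
  have := Fintype.ofFinite H
  by_contra hlt
  obtain ⟨χ, hχ, hd, e⟩ := exists_extension hb hθ (by omega)
  exact hno χ hχ hd (e ▸ hθ)

/-! ### Sums of squares -/

open scoped Classical in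
theorem sq_eq_sum (H : Subgroup G) [Fintype H] (f : G → ℂ) :
    sq H f = ∑ h : H, ‖f h‖ ^ 2 := by
  rw [sq, ← Finset.sum_filter]
  exact (Finset.sum_subtype _ (fun x => by simp) _)

theorem sq_mono {H K : Subgroup G} (h : H ≤ K) (f : G → ℂ) : sq H f ≤ sq K f := by
  refine Finset.sum_le_sum fun g _ => ?_
  by_cases hg : g ∈ H
  · rw [if_pos hg, if_pos (h hg)]
  · rw [if_neg hg]; split_ifs <;> positivity

theorem sq_eq_inner (H : Subgroup G) [Fintype H] (f : G → ℂ) :
    ((sq H f : ℝ) : ℂ) = (Nat.card H : ℂ) *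
      Cfsg.classInner (fun h : H => f h) (fun h : H => f h) := by
  rw [classInner_self_eq_norm, sq_eq_sum]
  have : (Nat.card H : ℂ) ≠ 0 := natCard_ne_zero
  push_cast
  rw [← mul_assoc, mul_inv_cancel₀ this, one_mul]

theorem sq_irr (H : Subgroup G) [Fintype H] {f : G → ℂ}
    (h : Cfsg.IsIrrCharacter H (fun h : H => f h)) : sq H f = Nat.card H := by
  have e := sq_eq_inner H f
  rw [irr_classInner_self h, mul_one] at e
  exact_mod_cast e

theorem sq_top {f : G → ℂ} (h : Cfsg.IsIrrCharacter G f) : sq ⊤ f = Nat.card G := by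
  have e : (Cfsg.classInner f f) = 1 := irr_classInner_self h
  rw [classInner_self_eq_norm] at e
  have e' : (Nat.card G : ℝ)⁻¹ * ∑ g : G, ‖f g‖ ^ 2 = 1 := by exact_mod_cast e
  have h0 : (Nat.card G : ℝ) ≠ 0 := by exact_mod_cast Nat.card_pos.ne'
  rw [inv_mul_eq_div, div_eq_one_iff_eq h0] at e'
  simpa [sq] using e'

theorem sq_nat (H : Subgroup G) [Fintype H] {f : G → ℂ} (hf : Cfsg.IsCharacter G f) :
    ∃ k : ℕ, sq H f = Nat.card H * k ∧
      Cfsg.classInner (fun h : H => f h) (fun h : H => f h) = k := by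
  obtain ⟨k, hk⟩ := classInner_isCharacter_nat (isCharacter_restrict hf H)
    (isCharacter_restrict hf H)
  have e := sq_eq_inner H f
  rw [hk] at e
  exact ⟨k, by exact_mod_cast e, hk⟩

/-- A character of degree `n * b` in a group with degrees at most `b` has norm at least `n`. -/
theorem le_norm {b : ℕ} (hb : Bdd b G) {F : G → ℂ} (hF : Cfsg.IsCharacter G F) (n : ℕ)
    (h1 : F 1 = (n : ℂ) * (b : ℂ)) (hb0 : 0 < b) :
    (n : ℝ) * Nat.card G ≤ ∑ g : G, ‖F g‖ ^ 2 := by
  have := Fintype.ofFinite (Cfsg.IrrCharacter G)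
  choose c hc using fun χ : Cfsg.IrrCharacter G =>
    classInner_isCharacter_nat hF (irr_isCharacter χ.2)
  have hcl := isCharacter_isClassFunction hF
  have e1 := classFunction_apply_eq_sum hcl 1
  simp only [hc, h1] at e1
  have e2 : (n : ℂ) * b = ((∑ χ : Cfsg.IrrCharacter G,
      c χ * Cfsg.charDegree (χ : G → ℂ) : ℕ) : ℂ) := by
    rw [e1]; push_cast
    exact Finset.sum_congr rfl fun χ _ => by rw [deg_cast (irr_isCharacter χ.2)]
  have e3 : n * b ≤ (∑ χ : Cfsg.IrrCharacter G, c χ * c χ) * b := by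
    rw [show n * b = ∑ χ : Cfsg.IrrCharacter G, c χ * Cfsg.charDegree (χ : G → ℂ) by
      exact_mod_cast e2, Finset.sum_mul]
    refine Finset.sum_le_sum fun χ _ => ?_
    calc c χ * Cfsg.charDegree (χ : G → ℂ) ≤ c χ * b := Nat.mul_le_mul_left _ (hb _ χ.2)
      _ ≤ c χ * c χ * b := Nat.mul_le_mul_right _ (Nat.le_mul_self _)
  have e4 : n ≤ ∑ χ : Cfsg.IrrCharacter G, c χ * c χ := Nat.le_of_mul_le_mul_right e3 hb0
  have e5 := classInner_eq_sum_mul hcl F
  rw [classInner_self_eq_norm] at e5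
  simp only [hc, Complex.conj_natCast] at e5
  have e6 : (Nat.card G : ℝ)⁻¹ * ∑ g : G, ‖F g‖ ^ 2 =
      ((∑ χ : Cfsg.IrrCharacter G, c χ * c χ : ℕ) : ℝ) := by exact_mod_cast e5
  have h0 : (0 : ℝ) < Nat.card G := by exact_mod_cast Nat.card_pos
  have : (n : ℝ) ≤ (Nat.card G : ℝ)⁻¹ * ∑ g : G, ‖F g‖ ^ 2 := by
    rw [e6]; exact_mod_cast e4
  rwa [inv_mul_eq_div, le_div_iff₀ h0] at this

/-! ### Linear characters -/

/-- If every irreducible character of `G / N` is linear, then `G' ≤ N`. -/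
theorem exists_nonlinear {N : Subgroup G} [N.Normal] (h : ¬ commutator G ≤ N) :
    ∃ ν : G → ℂ, Cfsg.IsIrrCharacter G ν ∧ 2 ≤ Cfsg.charDegree ν ∧ ∀ n ∈ N, ν n = ν 1 := by
  by_contra hcon
  push Not at hcon
  refine h ?_
  have hlin : ∀ θ : G ⧸ N → ℂ, Cfsg.IsIrrCharacter (G ⧸ N) θ → θ 1 = 1 := fun θ hθ => by
    have hν : Cfsg.IsIrrCharacter G (fun g => θ (QuotientGroup.mk' N g)) :=
      isIrrCharacter_comp_surjective hθ _ (QuotientGroup.mk'_surjective N)
    by_contra hne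
    obtain ⟨n, hn, hne'⟩ := hcon _ hν (by
      have := deg_pos hν
      by_contra hlt
      refine hne ?_
      have : (Cfsg.charDegree (fun g : G => θ (QuotientGroup.mk' N g)) : ℂ) = 1 := by
        norm_cast; omega
      rw [deg_cast (irr_isCharacter hν), map_one] at this
      exact this)
    refine hne' ?_
    rw [show QuotientGroup.mk' N n = 1 from (QuotientGroup.eq_one_iff n).mpr hn, map_one]
  have hcomm : ∀ a b : G ⧸ N, a * b = b * a := comm_iff_forall_degree_one.mpr fun χ => hlin _ χ.2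
  rw [commutator_def, Subgroup.commutator_le]
  intro a _ b _
  rw [← QuotientGroup.eq_one_iff, commutatorElement_def]
  simp only [QuotientGroup.mk_mul, QuotientGroup.mk_inv]
  rw [hcomm (a : G ⧸ N) b]
  group

end CfsgLib.Char.BDeg
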