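import Cfsg.Agent.Lib.Char.BDegLemmas
import Mathlib.GroupTheory.ClassEquation

/-!
# A small class outside a normal subgroup of large index
-/

set_option autoImplicit false
set_option linter.unusedSectionVars false

namespace CfsgLib.Char.BDeg

open scoped ComplexConjugate

universe u

variable {G : Type u} [Group G] [Fintype G]

theorem exists_small_class {b : ℕ} (hb : Bdd b G) (N : Subgroup G) [hNn : N.Normal]
    (hN : b ^ 4 < N.index) :
    ∃ x ∉ N, (Subgroup.centralizer ({x} : Set G)).index ≤ b ^ 2 := by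
  classical
  have := Fintype.ofFinite N
  have := Fintype.ofFinite (Cfsg.IrrCharacter G)
  have := Fintype.ofFinite (Cfsg.IrrCharacter N)
  have : Finite (ConjClasses G) := Quotient.finite _
  have := Fintype.ofFinite (ConjClasses G)
  by_contra hcon
  push Not at hcon
  have hNmem : ∀ {g h : G}, IsConj g h → g ∈ N → h ∈ N := fun hgh hg => by
    obtain ⟨c, rfl⟩ := isConj_iff.mp hgh
    exact hNn.conj_mem _ hg c
  set In : Finset (ConjClasses G) :=
    Finset.univ.filter fun C => ∀ g ∈ C.carrier, g ∈ N with hIn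
  let r : Cfsg.IrrCharacter G → N → ℂ := fun χ =>
    ((χ : G → ℂ) 1)⁻¹ • fun n : N => (χ : G → ℂ) n
  set R := Finset.univ.image r with hR
  have hclk : In.card ≤ R.card := by
    let f : ↥In → N → ℂ := fun C n => classIndicator C.1 (n : G)
    have hmem : ∀ C : ↥In, f C ∈ Submodule.span ℂ (↑R : Set (N → ℂ)) := fun C => by
      have hcl := classIndicator_isClassFunction C.1
      have e : f C = ∑ χ : Cfsg.IrrCharacter G,
          (Cfsg.classInner (classIndicator C.1) (χ : G → ℂ) * (χ : G → ℂ) 1) • r χ := by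
        funext n
        have h0 := classFunction_apply_eq_sum hcl (n : G)
        rw [Finset.sum_apply]
        simp only [f]
        rw [h0]
        refine Finset.sum_congr rfl fun χ _ => ?_
        simp only [r, Pi.smul_apply, smul_eq_mul]
        rw [mul_assoc, ← mul_assoc ((χ : G → ℂ) 1), mul_inv_cancel₀ (irr_apply_one_ne_zero χ.2),
          one_mul]
      rw [e]
      exact Submodule.sum_mem _ fun χ _ => Submodule.smul_mem _ _
        (Submodule.subset_span (Finset.mem_image_of_mem r (Finset.mem_univ χ)))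
    have hli : LinearIndependent ℂ f := Fintype.linearIndependent_iff.mpr fun c hc C => by
      obtain ⟨g, hg⟩ := ConjClasses.exists_rep C.1
      have hgN : g ∈ N := (Finset.mem_filter.mp C.2).2 g (ConjClasses.mem_carrier_iff_mk_eq.mpr hg)
      have := congrFun hc ⟨g, hgN⟩
      rw [Finset.sum_apply, Finset.sum_eq_single C (fun D _ hD => by
        simp only [f, classIndicator, Pi.smul_apply, smul_eq_mul]
        rw [if_neg fun e => hD (Subtype.ext (e.symm.trans hg)), mul_zero])
        (fun h => absurd (Finset.mem_univ C) h)] at this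
      simpa [f, classIndicator, hg] using this
    have hli' : LinearIndependent ℂ (fun C : ↥In =>
        (⟨f C, hmem C⟩ : Submodule.span ℂ (↑R : Set (N → ℂ)))) :=
      LinearIndependent.of_comp (Submodule.subtype _) hli
    calc In.card = Fintype.card ↥In := (Fintype.card_coe In).symm
      _ ≤ Module.finrank ℂ (Submodule.span ℂ (↑R : Set (N → ℂ))) := hli'.fintype_card_le_finrank
      _ ≤ R.card := finrank_span_finset_le_card R
  -- each fibre is large
  have hfib : ∀ y ∈ R, b ^ 2 + 1 ≤ (Finset.univ.filter fun χ => r χ = y).card := by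
    intro y hy
    obtain ⟨χ, -, rfl⟩ := Finset.mem_image.mp hy
    obtain ⟨φ, hφ, hne⟩ :=
      exists_constituent (isCharacter_restrict (irr_isCharacter χ.2) N) (irr_apply_one_ne_zero χ.2)
    set O : N → ℂ := ∑ᶠ ψ ∈ {ψ : N → ℂ | ∃ g : G, ψ = fun n : N =>
      φ ⟨g * n * g⁻¹, hNn.conj_mem n n.2 g⟩}, ψ with hO
    have hline : ∀ ξ : Cfsg.IrrCharacter G,
        Cfsg.classInner (fun n : N => (ξ : G → ℂ) n) φ ≠ 0 → r ξ = (O 1)⁻¹ • O := fun ξ hξ => by
      have e := clifford_restrict N hNn ξ.2 hφ hξ
      rw [← hO] at e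
      have e1 := congrFun e 1
      simp only [Pi.smul_apply, smul_eq_mul, Subgroup.coe_one] at e1
      simp only [r]
      rw [e, smul_smul, e1, mul_inv_rev, mul_assoc, inv_mul_cancel₀ hξ, mul_one]
    have hsub : (Finset.univ.filter fun ξ : Cfsg.IrrCharacter G =>
        Cfsg.classInner (fun n : N => (ξ : G → ℂ) n) φ ≠ 0) ⊆
        Finset.univ.filter fun ξ => r ξ = r χ := fun ξ hξ => by
      rw [Finset.mem_filter] at hξ ⊢
      exact ⟨hξ.1, (hline ξ hξ.2).trans (hline χ hne).symm⟩
    refine le_trans ?_ (Finset.card_le_card hsub)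
    choose c hc using fun ξ : Cfsg.IrrCharacter G =>
      classInner_isCharacter_nat (isCharacter_restrict (irr_isCharacter ξ.2) N) (irr_isCharacter hφ)
    have hF := isCharacter_indFun N (irr_isCharacter hφ)
    have hFin : ∀ ξ : Cfsg.IrrCharacter G,
        Cfsg.classInner (Cfsg.indFun N φ) (ξ : G → ℂ) = c ξ := fun ξ => by
      rw [frobenius_reciprocity N _ _ (irr_isClassFunction ξ.2), ← classInner_conj_symm, hc,
        Complex.conj_natCast]
    have e1 := classFunction_apply_eq_sum (isCharacter_isClassFunction hF) 1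
    simp only [hFin, indFun_apply_one] at e1
    have e2 : N.index * Cfsg.charDegree φ =
        ∑ ξ : Cfsg.IrrCharacter G, c ξ * Cfsg.charDegree (ξ : G → ℂ) := by
      rw [← Nat.cast_inj (R := ℂ)]
      push_cast
      rw [deg_cast (irr_isCharacter hφ), e1]
      exact Finset.sum_congr rfl fun ξ _ => by rw [deg_cast (irr_isCharacter ξ.2)]
    have hcle : ∀ ξ : Cfsg.IrrCharacter G,
        c ξ * Cfsg.charDegree φ ≤ Cfsg.charDegree (ξ : G → ℂ) := fun ξ => by
      have hres := isCharacter_restrict (irr_isCharacter ξ.2) N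
      have hrest : Cfsg.IsCharacter N ((fun n : N => (ξ : G → ℂ) n) - (c ξ : ℂ) • φ) := by
        refine isCharacter_of_nat ?_ fun μ hμ => ?_
        · intro a d
          simp only [Pi.sub_apply, Pi.smul_apply, irr_isClassFunction hφ a d]
          congr 1
          exact isCharacter_isClassFunction hres a d
        · obtain ⟨k, hk⟩ := classInner_isCharacter_nat hres (irr_isCharacter hμ)
          rw [classInner_sub_left, classInner_smul_left, irr_classInner hφ hμ, hk]
          split_ifs with he
          · subst he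
            rw [hc] at hk
            exact ⟨0, by rw [← hk, mul_one, sub_self, Nat.cast_zero]⟩
          · exact ⟨k, by rw [mul_zero, sub_zero]⟩
      obtain ⟨d, hd⟩ := char_apply_one_eq_nat hrest
      simp only [Pi.sub_apply, Pi.smul_apply, smul_eq_mul, Subgroup.coe_one] at hd
      rw [← deg_cast (irr_isCharacter hφ), ← deg_cast (irr_isCharacter ξ.2), sub_eq_iff_eq_add] at hd
      have : Cfsg.charDegree (ξ : G → ℂ) = d + c ξ * Cfsg.charDegree φ := by exact_mod_cast hd
      omega
    have hφ0 := deg_pos hφ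
    have e3 : N.index * Cfsg.charDegree φ * Cfsg.charDegree φ ≤
        (Finset.univ.filter fun ξ : Cfsg.IrrCharacter G =>
          Cfsg.classInner (fun n : N => (ξ : G → ℂ) n) φ ≠ 0).card * b ^ 2 := by
      rw [e2, Finset.sum_mul, Finset.card_eq_sum_ones, Finset.sum_mul, Finset.sum_filter]
      refine Finset.sum_le_sum fun ξ _ => ?_
      split_ifs with h
      · rw [one_mul, pow_two, mul_right_comm]
        exact Nat.mul_le_mul ((hcle ξ).trans (hb _ ξ.2)) (hb _ ξ.2)
      · rw [hc, not_not, Nat.cast_eq_zero] at h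
        simp [h]
    by_contra hlt
    have h1 : N.index ≤ N.index * Cfsg.charDegree φ * Cfsg.charDegree φ := by
      calc N.index = N.index * 1 * 1 := by ring
        _ ≤ _ := Nat.mul_le_mul (Nat.mul_le_mul le_rfl hφ0) hφ0
    have h2 := h1.trans (e3.trans (Nat.mul_le_mul_right _ (show _ ≤ b ^ 2 by omega)))
    rw [← pow_add] at h2
    norm_num at h2
    omega
  have hk1 : R.card * (b ^ 2 + 1) ≤ Nat.card (ConjClasses G) := by
    rw [← irr_card_eq, Nat.card_eq_fintype_card, ← Finset.card_univ,
      Finset.card_eq_sum_card_image r Finset.univ, ← smul_eq_mul, ← Finset.sum_const]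
    exact Finset.sum_le_sum hfib
  have hk2 : Nat.card G ≤ Nat.card (ConjClasses G) * b ^ 2 := by
    have e : Nat.card G = ∑ χ : Cfsg.IrrCharacter G, Cfsg.charDegree (χ : G → ℂ) ^ 2 := by
      rw [← Nat.cast_inj (R := ℂ), ← sum_irr_sq]
      push_cast
      exact Finset.sum_congr rfl fun χ _ => by rw [deg_cast (irr_isCharacter χ.2)]
    rw [e, ← irr_card_eq, Nat.card_eq_fintype_card, ← Finset.card_univ, ← smul_eq_mul,
      ← Finset.sum_const]
    exact Finset.sum_le_sum fun χ _ => Nat.pow_le_pow_left (hb _ χ.2) 2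
  -- the classes outside `N` are too large
  have hone : ConjClasses.mk (1 : G) ∈ In := Finset.mem_filter.mpr ⟨Finset.mem_univ _, fun g hg => by
    have h0 : IsConj g 1 :=
      ConjClasses.mk_eq_mk_iff_isConj.mp (ConjClasses.mem_carrier_iff_mk_eq.mp hg)
    rw [isConj_one_left.mp h0]
    exact N.one_mem⟩
  have hsum : ∑ C : ConjClasses G, C.carrier.toFinset.card = Nat.card G := by
    rw [Nat.card_eq_fintype_card, ← sum_conjClasses_card_eq_card]
  have hout : ∀ C ∈ Inᶜ, b ^ 2 + 1 ≤ C.carrier.toFinset.card := fun C hC => by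
    rw [Finset.mem_compl, Finset.mem_filter, not_and] at hC
    obtain ⟨g, hg, hgN⟩ := by simpa using hC (Finset.mem_univ _)
    have := hcon g hgN
    rw [← natCard_carrier_eq_index, ConjClasses.mem_carrier_iff_mk_eq.mp hg,
      Nat.card_eq_fintype_card, ← Set.toFinset_card] at this
    omega
  have h3 : In.card + Inᶜ.card * (b ^ 2 + 1) ≤ Nat.card G := by
    rw [← hsum, ← Finset.sum_add_sum_compl In, Finset.card_eq_sum_ones In, ← smul_eq_mul,
      ← Finset.sum_const]
    refine Nat.add_le_add (Finset.sum_le_sum fun C hC => ?_) (Finset.sum_le_sum hout)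
    obtain ⟨g, rfl⟩ := ConjClasses.exists_rep C
    exact Finset.card_pos.mpr ⟨g, by simp [ConjClasses.mem_carrier_mk]⟩
  have h4 : Inᶜ.card + In.card = Nat.card (ConjClasses G) := by
    rw [add_comm, Finset.card_add_card_compl, Nat.card_eq_fintype_card]
  have h5 := Nat.mul_le_mul_right (b ^ 2 + 1) hclk
  have h6 : 0 < In.card := Finset.card_pos.mpr ⟨_, hone⟩
  nlinarith

end CfsgLib.Char.BDeg
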