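import Cfsg.Agent.Lib.Char.BDegLemmas
import Cfsg.Agent.Lib.InvChar.Basic
import Cfsg.Agent.Lib.Char.Constituent
import Cfsg.Agent.Lib.Clifford.TwoDegreeStructure

/-!
# The two just non-abelian solvable quotients
-/

set_option autoImplicit false
set_option linter.unusedSectionVars false

namespace CfsgLib.Char.BDeg

open scoped ComplexConjugate

universe u

section Central

variable {Q : Type u} [Group Q] [Fintype Q]

theorem mul_of_central {θ : Q → ℂ} (hθ : Cfsg.IsIrrCharacter Q θ) {z : Q}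
    (hz : z ∈ Subgroup.center Q) : ∃ ω : ℂ, ∀ x, θ (z * x) = ω * θ x := by
  obtain ⟨n, ρ, hρ, rfl⟩ := hθ
  obtain ⟨ω, hω⟩ := exists_scalar_of_commute ρ (ρ z) fun g => by
    rw [← Module.End.mul_eq_comp, ← Module.End.mul_eq_comp, ← map_mul, ← map_mul,
      Subgroup.mem_center_iff.mp hz g]
  refine ⟨ω, fun x => ?_⟩
  simp only [Representation.character]
  rw [map_mul, hω, Module.End.mul_eq_comp, LinearMap.smul_comp, LinearMap.id_comp, map_smul,
    smul_eq_mul]

theorem eq_zero_off_center {θ : Q → ℂ} (hθ : Cfsg.IsIrrCharacter Q θ)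
    (hfaith : ∀ g, θ g = θ 1 → g = 1) (hcl : commutator Q ≤ Subgroup.center Q)
    {x : Q} (hx : x ∉ Subgroup.center Q) : θ x = 0 := by
  by_contra h0
  refine hx (Subgroup.mem_center_iff.mpr fun y => ?_)
  have hz : y * x * y⁻¹ * x⁻¹ ∈ commutator Q :=
    Subgroup.commutator_mem_commutator (Subgroup.mem_top y) (Subgroup.mem_top x)
  obtain ⟨ω, hω⟩ := mul_of_central hθ (hcl hz)
  have e := hω x
  rw [inv_mul_cancel_right, irr_isClassFunction hθ x y] at e
  have hω1 : ω = 1 := mul_right_cancel₀ h0 (by rw [one_mul]; exact e.symm)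
  have h1 := hfaith _ (by simpa [hω1] using hω 1)
  rwa [mul_inv_eq_one, mul_inv_eq_iff_eq_mul] at h1

theorem center_index_eq {θ : Q → ℂ} (hθ : Cfsg.IsIrrCharacter Q θ)
    (hfaith : ∀ g, θ g = θ 1 → g = 1) (hcl : commutator Q ≤ Subgroup.center Q) :
    (Subgroup.center Q).index = Cfsg.charDegree θ ^ 2 := by
  have := Fintype.ofFinite (Subgroup.center Q)
  have h : (Cfsg.charDegree θ : ℝ) ^ 2 * sq (Subgroup.center Q) (fun _ => (1 : ℂ)) = Nat.card Q := by
    rw [← sq_top hθ, sq, sq, Finset.mul_sum]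
    refine Finset.sum_congr rfl fun g _ => ?_
    by_cases hg : g ∈ Subgroup.center Q
    · simp [hg, Clifford.CentralTypeEmbed.norm_of_central hθ hg]
    · simp [hg, eq_zero_off_center hθ hfaith hcl hg]
  rw [sq_irr _ isIrrCharacter_one, ← (Subgroup.center Q).index_mul_card] at h
  push_cast at h
  have h0 : (Nat.card (Subgroup.center Q) : ℝ) ≠ 0 := by exact_mod_cast Nat.card_pos.ne'
  have := mul_right_cancel₀ h0 h
  exact_mod_cast this.symm

end Central

section Frobenius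

variable {Q : Type u} [Group Q] [Fintype Q]
  (hab : ∀ x ∈ commutator Q, ∀ y ∈ commutator Q, x * y = y * x)
  (hmin : ∀ L : Subgroup Q, L.Normal → L ≠ ⊥ → commutator Q ≤ L)
  (hnc : ¬ commutator Q ≤ Subgroup.center Q)

include hab hmin hnc

local notation "V" => commutator Q

theorem center_bot : Subgroup.center Q = ⊥ :=
  Classical.not_not.mp fun h => hnc (hmin _ inferInstance h)

theorem inf_centralizer_singleton {a : Q} (ha : ∃ v ∈ V, v * a ≠ a * v) {w : Q} (hw : w ∈ V)
    (hwa : w * a = a * w) : w = 1 := by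
  by_contra hw1
  set W := V ⊓ Subgroup.centralizer ({a} : Set Q) with hW
  have hWn : W.Normal := ⟨fun v hv q => by
    obtain ⟨hvV, hva⟩ := Subgroup.mem_inf.mp hv
    have hva' := Subgroup.mem_centralizer_singleton_iff.mp hva
    have hv' : q * v * q⁻¹ ∈ V := Subgroup.Normal.conj_mem inferInstance v hvV q
    refine Subgroup.mem_inf.mpr ⟨hv', Subgroup.mem_centralizer_singleton_iff.mpr ?_⟩
    have hu : q * a * q⁻¹ * a⁻¹ ∈ V :=
      Subgroup.commutator_mem_commutator (Subgroup.mem_top q) (Subgroup.mem_top a)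
    have h1 := hab _ hv' _ hu
    have h2 : q * v * q⁻¹ * (q * a * q⁻¹) = q * a * q⁻¹ * (q * v * q⁻¹) :=
      calc q * v * q⁻¹ * (q * a * q⁻¹) = q * (v * a) * q⁻¹ := by group
        _ = q * (a * v) * q⁻¹ := by rw [hva']
        _ = q * a * q⁻¹ * (q * v * q⁻¹) := by group
    calc q * v * q⁻¹ * a
        = (q * a * q⁻¹ * a⁻¹)⁻¹ * ((q * a * q⁻¹ * a⁻¹) * (q * v * q⁻¹)) * a := by group
      _ = (q * a * q⁻¹ * a⁻¹)⁻¹ * ((q * v * q⁻¹) * (q * a * q⁻¹ * a⁻¹)) * a := by rw [h1]
      _ = (q * a * q⁻¹ * a⁻¹)⁻¹ * (q * v * q⁻¹ * (q * a * q⁻¹)) := by group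
      _ = (q * a * q⁻¹ * a⁻¹)⁻¹ * (q * a * q⁻¹ * (q * v * q⁻¹)) := by rw [h2]
      _ = a * (q * v * q⁻¹) := by group⟩
  have hne : W ≠ ⊥ := fun h => hw1 (Subgroup.mem_bot.mp (h ▸ Subgroup.mem_inf.mpr
    ⟨hw, Subgroup.mem_centralizer_singleton_iff.mpr hwa⟩))
  obtain ⟨v, hv, hva⟩ := ha
  exact hva (Subgroup.mem_centralizer_singleton_iff.mp (Subgroup.mem_inf.mp (hmin W hWn hne hv)).2)

/-- The Frobenius structure of the quotient. -/
theorem frob : ∃ C : Subgroup Q,
    Nat.card C = (commutator Q).index ∧ C.index = Nat.card V ∧ 1 < Nat.card V ∧ 1 < (commutator Q).index ∧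
    (Nat.card V).Coprime (commutator Q).index ∧
    (∀ v ∈ V, v ≠ 1 → Nat.card (Subgroup.centralizer ({v} : Set Q)) = Nat.card V) ∧
    ∀ q ∉ V, Nat.card (Subgroup.centralizer ({q} : Set Q)) ≤ (commutator Q).index := by
  obtain ⟨v₀, hv₀, a, hav⟩ : ∃ v ∈ V, ∃ a, v * a ≠ a * v := by
    by_contra h
    push Not at h
    exact hnc fun v hv => Subgroup.mem_center_iff.mpr fun g => (h v hv g).symm
  have hbij : ∀ v ∈ V, v * a = a * v → v = 1 := fun v hv h =>
    inf_centralizer_singleton hab hmin hnc ⟨v₀, hv₀, hav⟩ hv h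
  set C := Subgroup.centralizer ({a} : Set Q) with hC
  -- `v ↦ [v, a]` is a permutation of `V`
  let f : V → V := fun v => ⟨(v : Q) * a * (v : Q)⁻¹ * a⁻¹,
    Subgroup.commutator_mem_commutator (Subgroup.mem_top _) (Subgroup.mem_top _)⟩
  have hfinj : Function.Injective f := fun v w h => by
    have h' : (v : Q) * a * (v : Q)⁻¹ * a⁻¹ = (w : Q) * a * (w : Q)⁻¹ * a⁻¹ := congrArg Subtype.val h
    have h'' : ((w : Q)⁻¹ * v) * a = a * ((w : Q)⁻¹ * v) :=
      calc ((w : Q)⁻¹ * v) * a = (w : Q)⁻¹ * ((v : Q) * a * (v : Q)⁻¹ * a⁻¹) * a * v := by group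
        _ = (w : Q)⁻¹ * ((w : Q) * a * (w : Q)⁻¹ * a⁻¹) * a * v := by rw [h']
        _ = a * ((w : Q)⁻¹ * v) := by group
    have := hbij _ (mul_mem (inv_mem w.2) v.2) h''
    exact Subtype.ext (inv_mul_eq_one.mp this).symm
  have hdec : ∀ q : Q, ∃ v ∈ V, v⁻¹ * q ∈ C := fun q => by
    obtain ⟨v, hv⟩ := Finite.injective_iff_surjective.mp hfinj
      ⟨q * a * q⁻¹ * a⁻¹, Subgroup.commutator_mem_commutator (Subgroup.mem_top _) (Subgroup.mem_top _)⟩
    have h' : (v : Q) * a * (v : Q)⁻¹ * a⁻¹ = q * a * q⁻¹ * a⁻¹ := congrArg Subtype.val hv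
    refine ⟨v, v.2, Subgroup.mem_centralizer_singleton_iff.mpr ?_⟩
    calc (v : Q)⁻¹ * q * a = (v : Q)⁻¹ * (q * a * q⁻¹ * a⁻¹) * a * q := by group
      _ = (v : Q)⁻¹ * ((v : Q) * a * (v : Q)⁻¹ * a⁻¹) * a * q := by rw [h']
      _ = a * ((v : Q)⁻¹ * q) := by group
  have hCV : ∀ c ∈ C, c ∈ V → c = 1 := fun c hc hcV =>
    hbij c hcV (Subgroup.mem_centralizer_singleton_iff.mp hc)
  have hCab : ∀ c ∈ C, ∀ d ∈ C, c * d = d * c := fun c hc d hd => by
    have := hCV _ (mul_mem (mul_mem (mul_mem hc hd) (inv_mem hc)) (inv_mem hd))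
      (Subgroup.commutator_mem_commutator (Subgroup.mem_top c) (Subgroup.mem_top d))
    rwa [mul_inv_eq_one, mul_inv_eq_iff_eq_mul] at this
  have hmove : ∀ c ∈ C, c ≠ 1 → ∃ v ∈ V, v * c ≠ c * v := fun c hc hc1 => by
    by_contra h
    push Not at h
    refine hc1 (Subgroup.mem_bot.mp ((center_bot hab hmin hnc) ▸ Subgroup.mem_center_iff.mpr fun g => ?_))
    obtain ⟨v, hv, hvg⟩ := hdec g
    calc g * c = v * (v⁻¹ * g * c) := by group
      _ = v * (c * (v⁻¹ * g)) := by rw [hCab _ hvg c hc]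
      _ = v * c * (v⁻¹ * g) := by group
      _ = c * v * (v⁻¹ * g) := by rw [h v hv]
      _ = c * g := by group
  have hfpf : ∀ q ∉ V, ∀ w ∈ V, w * q = q * w → w = 1 := fun q hq w hw hwq => by
    obtain ⟨v, hv, hc⟩ := hdec q
    have hc1 : v⁻¹ * q ≠ 1 := fun h => hq (by rw [← inv_mul_eq_one.mp h]; exact hv)
    refine inf_centralizer_singleton hab hmin hnc (hmove _ hc hc1) hw ?_
    calc w * (v⁻¹ * q) = (w * v⁻¹) * q := by group
      _ = (v⁻¹ * w) * q := by rw [hab w hw _ (inv_mem hv)]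
      _ = v⁻¹ * (w * q) := by group
      _ = v⁻¹ * (q * w) := by rw [hwq]
      _ = v⁻¹ * q * w := by group
  have hcardC : Nat.card C = (commutator Q).index := by
    refine Nat.card_eq_of_bijective (fun c : C => ((c : Q) : Q ⧸ V)) ⟨fun c d h => ?_, fun x => ?_⟩
    · exact Subtype.ext (inv_mul_eq_one.mp
        (hCV _ (mul_mem (inv_mem c.2) d.2) (QuotientGroup.eq.mp h)))
    · obtain ⟨q, rfl⟩ := QuotientGroup.mk_surjective x
      obtain ⟨v, hv, hc⟩ := hdec q
      refine ⟨⟨_, hc⟩, QuotientGroup.eq.mpr ?_⟩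
      simpa using Subgroup.Normal.conj_mem' inferInstance v hv q
  have hV1 : 1 < Nat.card V :=
    (commutator Q).one_lt_card_iff_ne_bot.mpr fun h => hnc (h ▸ bot_le)
  have hVi : 1 < (commutator Q).index := by
    rw [← hcardC]
    refine C.one_lt_card_iff_ne_bot.mpr fun h => hav ?_
    have hac : a ∈ C := Subgroup.mem_centralizer_singleton_iff.mpr rfl
    rw [h, Subgroup.mem_bot] at hac
    rw [hac, mul_one, one_mul]
  refine ⟨C, hcardC, ?_, hV1, hVi, ?_, fun v hv hv1 => ?_, fun q hq => ?_⟩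
  · have h1 := C.index_mul_card
    rw [hcardC, ← (commutator Q).index_mul_card, mul_comm] at h1
    exact Nat.eq_of_mul_eq_mul_left (by omega) h1
  · refine Nat.coprime_of_dvd fun p hp hpV hpi => ?_
    have := Fact.mk hp
    obtain ⟨c, hc⟩ := exists_prime_orderOf_dvd_card' (G := C) p (hcardC ▸ hpi)
    have hcV : (c : Q) ∉ V := fun h => by
      have := hCV _ c.2 h
      rw [show c = 1 from Subtype.ext this, orderOf_one] at hc
      exact hp.one_lt.ne hc
    obtain ⟨P, hP⟩ := (IsPGroup.of_card (n := 1) (p := p) (G := Subgroup.zpowers (c : Q))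
      (by rw [Nat.card_zpowers, Subgroup.orderOf_coe, hc, pow_one])).exists_le_sylow
    obtain ⟨z, hz⟩ := exists_prime_orderOf_dvd_card' (G := V) p hpV
    obtain ⟨P', hP'⟩ := (IsPGroup.of_card (n := 1) (p := p) (G := Subgroup.zpowers (z : Q))
      (by rw [Nat.card_zpowers, Subgroup.orderOf_coe, hz, pow_one])).exists_le_sylow
    obtain ⟨g, hg⟩ := MulAction.exists_smul_eq Q P' P
    have hzP : g * (z : Q) * g⁻¹ ∈ (P : Subgroup Q) := by
      rw [← hg, Sylow.coe_subgroup_smul, Subgroup.mem_smul_pointwise_iff_exists]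
      exact ⟨z, hP' (Subgroup.mem_zpowers _), by simp [MulAut.smul_def]⟩
    have hne : (commutator Q).subgroupOf (P : Subgroup Q) ≠ ⊥ := fun h => by
      have hm : (⟨g * (z : Q) * g⁻¹, hzP⟩ : (P : Subgroup Q)) ∈ (commutator Q).subgroupOf (P : Subgroup Q) :=
        Subgroup.mem_subgroupOf.mpr (Subgroup.Normal.conj_mem inferInstance _ z.2 g)
      rw [h, Subgroup.mem_bot] at hm
      have hz1 : (z : Q) = 1 := by simpa using congrArg Subtype.val hm
      rw [show z = 1 from Subtype.ext hz1, orderOf_one] at hz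
      exact hp.one_lt.ne hz
    obtain ⟨w, hwV, hw1, hwc⟩ :=
      InvChar.exists_mem_center_of_normal P.2 ((commutator Q).subgroupOf (P : Subgroup Q)) hne
    refine hw1 (Subtype.ext (hfpf _ hcV _ (Subgroup.mem_subgroupOf.mp hwV) ?_))
    exact (congrArg Subtype.val
      (Subgroup.mem_center_iff.mp hwc ⟨c, hP (Subgroup.mem_zpowers _)⟩)).symm
  · have : Subgroup.centralizer ({v} : Set Q) = V := le_antisymm (fun q hq => by
      by_contra hqV
      exact hv1 (hfpf q hqV v hv (Subgroup.mem_centralizer_singleton_iff.mp hq).symm))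
      fun q hq => Subgroup.mem_centralizer_singleton_iff.mpr (hab q hq v hv)
    rw [this]
  · refine Nat.card_le_card_of_injective
      (fun c : Subgroup.centralizer ({q} : Set Q) => ((c : Q) : Q ⧸ V)) fun c d h => ?_
    refine Subtype.ext (inv_mul_eq_one.mp (hfpf q hq _ (QuotientGroup.eq.mp h) ?_))
    exact Subgroup.mem_centralizer_singleton_iff.mp (mul_mem (inv_mem c.2) d.2)

theorem index_le_card : (commutator Q).index ≤ Nat.card V := by
  obtain ⟨C, -, -, hV1, -, -, hcV, -⟩ := frob hab hmin hnc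
  obtain ⟨⟨v, hv⟩, hv1⟩ : ∃ v : V, v ≠ 1 := by
    have := (Finite.one_lt_card_iff_nontrivial).mp hV1
    exact exists_ne 1
  have h := hcV v hv (fun h => hv1 (Subtype.ext h))
  have h1 := (Subgroup.centralizer ({v} : Set Q)).index_mul_card
  rw [h, ← (commutator Q).index_mul_card] at h1
  rw [← Nat.eq_of_mul_eq_mul_right (by omega) h1, ← natCard_carrier_eq_index]
  refine Nat.card_le_card_of_injective
    (fun y : (ConjClasses.mk v).carrier => (⟨(y : Q), ?_⟩ : V)) fun a b e =>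
      Subtype.ext (congrArg (fun z : V => (z : Q)) e)
  obtain ⟨g, hg⟩ := isConj_iff.mp
    (ConjClasses.mk_eq_mk_iff_isConj.mp (ConjClasses.mem_carrier_iff_mk_eq.mp y.2).symm)
  rw [← hg]
  exact Subgroup.Normal.conj_mem inferInstance v hv g

open scoped Classical in
/-- The nonlinear characters: their degree sum and their column sums. -/
theorem nonlinear_facts [Fintype (Cfsg.IrrCharacter Q)] {b : ℕ} (hb : Bdd b Q) :
    (commutator Q).index ≤ b ∧
    (Nat.card V : ℝ) - 1 ≤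
      ∑ μ : Cfsg.IrrCharacter Q, (if (μ : Q → ℂ) 1 = 1 then 0 else (Cfsg.charDegree (μ : Q → ℂ) : ℝ)) ∧
    ∀ q : Q, ∑ μ : Cfsg.IrrCharacter Q, (if (μ : Q → ℂ) 1 = 1 then 0 else ‖(μ : Q → ℂ) q‖ ^ 2) ≤
      if q = 1 then ((commutator Q).index : ℝ) * Nat.card V - (commutator Q).index
      else if q ∈ V then (Nat.card V : ℝ) - (commutator Q).index else 0 := by
  obtain ⟨C, hC, -, hV1, hVi, -, hcV, hcout⟩ := frob hab hmin hnc
  set L := Finset.univ.filter fun μ : Cfsg.IrrCharacter Q => (μ : Q → ℂ) 1 = 1 with hL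
  set M := Finset.univ.filter fun μ : Cfsg.IrrCharacter Q => ¬ (μ : Q → ℂ) 1 = 1 with hM
  have hLcard : L.card = (commutator Q).index := by
    rw [← natCard_linearIrr (G := Q), Nat.card_eq_fintype_card, Fintype.card_subtype]
  have hQ : (Nat.card Q : ℝ) = (commutator Q).index * Nat.card V := by
    exact_mod_cast ((commutator Q).index_mul_card).symm
  have hcol : ∀ q : Q, ∑ μ : Cfsg.IrrCharacter Q, ‖(μ : Q → ℂ) q‖ ^ 2 =
      (Nat.card (Subgroup.centralizer ({q} : Set Q)) : ℝ) := fun q => by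
    have e := column_orthogonality q q
    rw [if_pos (IsConj.refl q)] at e
    simp only [Complex.mul_conj'] at e
    exact_mod_cast e
  have hlin : ∀ μ ∈ L, ∀ q : Q, ‖(μ : Q → ℂ) q‖ = 1 := fun μ hμ q => by
    obtain ⟨lam, hlam⟩ := exists_hom_of_degree_one (irr_isCharacter μ.2) (Finset.mem_filter.mp hμ).2
    rw [hlam]
    have hfin : IsOfFinOrder ((lam q : ℂ)) :=
      isOfFinOrder_iff_pow_eq_one.mpr ⟨Nat.card Q, Nat.card_pos, by
        rw [← Units.val_pow_eq_pow_val, ← map_pow, pow_card_eq_one', map_one, Units.val_one]⟩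
    exact hfin.norm_eq_one
  have hsplit : ∀ q : Q, ∑ μ ∈ M, ‖(μ : Q → ℂ) q‖ ^ 2 =
      (Nat.card (Subgroup.centralizer ({q} : Set Q)) : ℝ) - (commutator Q).index := fun q => by
    have e : ∑ μ ∈ L, ‖(μ : Q → ℂ) q‖ ^ 2 = (L.card : ℝ) := by
      rw [Finset.card_eq_sum_ones, Nat.cast_sum]
      exact Finset.sum_congr rfl fun μ hμ => by rw [hlin μ hμ q]; norm_num
    rw [← hcol q, ← Finset.sum_filter_add_sum_filter_not Finset.univ
      (fun μ : Cfsg.IrrCharacter Q => (μ : Q → ℂ) 1 = 1), ← hL, ← hM, e, hLcard]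
    ring
  have hone : Subgroup.centralizer ({(1 : Q)} : Set Q) = ⊤ := top_le_iff.mp fun g _ =>
    Subgroup.mem_centralizer_singleton_iff.mpr (by rw [mul_one, one_mul])
  -- class number
  have hk : ((commutator Q).index : ℝ) * Fintype.card (Cfsg.IrrCharacter Q) ≤
      ((commutator Q).index : ℝ) ^ 2 + Nat.card V - 1 := by
    have e1 : ∑ q : Q, (Nat.card (Subgroup.centralizer ({q} : Set Q)) : ℝ) =
        Fintype.card (Cfsg.IrrCharacter Q) * (Nat.card Q : ℝ) := by
      have h : ∀ μ : Cfsg.IrrCharacter Q, ∑ q : Q, ‖(μ : Q → ℂ) q‖ ^ 2 = (Nat.card Q : ℝ) :=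
        fun μ => by simpa [sq] using sq_top μ.2
      simp only [← hcol]
      rw [Finset.sum_comm]
      simp only [h]
      rw [Finset.sum_const, Finset.card_univ, nsmul_eq_mul]
    have e2 : ∀ q : Q, (Nat.card (Subgroup.centralizer ({q} : Set Q)) : ℝ) ≤ ((commutator Q).index : ℝ) +
        (if q ∈ V then (Nat.card V : ℝ) - (commutator Q).index else 0) +
        if q = 1 then ((commutator Q).index : ℝ) * Nat.card V - Nat.card V else 0 := fun q => by
      by_cases h1 : q = 1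
      · subst h1
        rw [hone, Subgroup.card_top, hQ, if_pos (Subgroup.one_mem _), if_pos rfl]
        linarith
      · rw [if_neg h1]
        by_cases hq : q ∈ V
        · rw [if_pos hq, hcV q hq h1]; linarith
        · rw [if_neg hq]; simpa using (Nat.cast_le (α := ℝ)).mpr (hcout q hq)
    have e3 := Finset.sum_le_sum fun q (_ : q ∈ Finset.univ) => e2 q
    rw [e1, Finset.sum_add_distrib, Finset.sum_add_distrib, Finset.sum_const, Finset.card_univ,
      nsmul_eq_mul, Finset.sum_ite_eq' Finset.univ (1 : Q) (fun _ => _), if_pos (Finset.mem_univ _),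
      ← Finset.sum_filter, Finset.sum_const, nsmul_eq_mul, ← Nat.card_eq_fintype_card,
      show ((Finset.univ.filter fun q => q ∈ V).card : ℝ) = Nat.card V by
        rw [Nat.card_eq_fintype_card, Fintype.card_subtype], hQ] at e3
    have hv : (0 : ℝ) < Nat.card V := by exact_mod_cast (by omega : 0 < Nat.card V)
    rw [Nat.card_eq_fintype_card (α := Cfsg.IrrCharacter Q), ← Nat.card_eq_fintype_card (α := Q),
      hQ] at e3
    refine le_of_mul_le_mul_left ?_ hv
    linarith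
  have hsum2 : ∑ μ ∈ M, (Cfsg.charDegree (μ : Q → ℂ) : ℝ) ^ 2 =
      ((commutator Q).index : ℝ) * ((Nat.card V : ℝ) - 1) := by
    have e := hsplit 1
    rw [hone, Subgroup.card_top, hQ] at e
    rw [mul_sub, mul_one, ← e]
    exact Finset.sum_congr rfl fun μ _ => by
      rw [← deg_cast (irr_isCharacter μ.2), Complex.norm_natCast]
  have hcardM : ((commutator Q).index : ℝ) * M.card ≤ (Nat.card V : ℝ) - 1 := by
    have h1 := Finset.card_filter_add_card_filter_not (s := (Finset.univ :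
      Finset (Cfsg.IrrCharacter Q))) (fun μ : Cfsg.IrrCharacter Q => (μ : Q → ℂ) 1 = 1)
    rw [← hL, ← hM, hLcard, Finset.card_univ] at h1
    have h2 : ((commutator Q).index : ℝ) + (M.card : ℝ) = Fintype.card (Cfsg.IrrCharacter Q) := by exact_mod_cast h1
    nlinarith
  have hv1 : (0 : ℝ) < (Nat.card V : ℝ) - 1 := by
    have : (1 : ℝ) < Nat.card V := by exact_mod_cast hV1
    linarith
  have hf0 : (0 : ℝ) < (commutator Q).index := by exact_mod_cast (by omega : 0 < (commutator Q).index)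
  refine ⟨?_, ?_, fun q => ?_⟩
  · have h1 : ∑ μ ∈ M, (Cfsg.charDegree (μ : Q → ℂ) : ℝ) ^ 2 ≤ M.card * (b : ℝ) ^ 2 := by
      rw [← nsmul_eq_mul, ← Finset.sum_const]
      exact Finset.sum_le_sum fun μ _ => by exact_mod_cast Nat.pow_le_pow_left (hb _ μ.2) 2
    rw [hsum2] at h1
    have hf2 : ((commutator Q).index : ℝ) ^ 2 ≤ (b : ℝ) ^ 2 := by nlinarith
    have : (commutator Q).index ^ 2 ≤ b ^ 2 := by exact_mod_cast hf2
    exact (Nat.pow_le_pow_iff_left two_ne_zero).mp this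
  · rw [Finset.sum_ite, Finset.sum_const_zero, zero_add, ← hM]
    have h1 : ∑ μ ∈ M, (Cfsg.charDegree (μ : Q → ℂ) : ℝ) ^ 2 ≤
        ((commutator Q).index : ℝ) * ∑ μ ∈ M, (Cfsg.charDegree (μ : Q → ℂ) : ℝ) := by
      rw [Finset.mul_sum]
      refine Finset.sum_le_sum fun μ _ => ?_
      rw [pow_two]
      refine mul_le_mul_of_nonneg_right ?_ (Nat.cast_nonneg _)
      exact_mod_cast Clifford.TwoDegrees.degree_le_index μ V hab
    rw [hsum2] at h1
    exact le_of_mul_le_mul_left h1 hf0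
  · rw [Finset.sum_ite, Finset.sum_const_zero, zero_add, ← hM, hsplit q]
    split_ifs with h1 h2
    · subst h1; rw [hone, Subgroup.card_top, hQ]
    · rw [hcV q h2 h1]
    · rw [sub_nonpos]; exact_mod_cast hcout q h2

end Frobenius

end CfsgLib.Char.BDeg
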