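import Cfsg.Agent.Lib.Char.BDegBasic
import Cfsg.Agent.Lib.Clifford.Extension

/-!
# Groups with bounded character degrees: restriction lemmas
-/

set_option autoImplicit false
set_option linter.unusedSectionVars false

namespace CfsgLib.Char.BDeg

open scoped ComplexConjugate

universe u

variable {G : Type u} [Group G] [Fintype G]

theorem inner_conjFn (N : Subgroup G) [N.Normal] [Fintype N] (F θ : N → ℂ) (g : G) :
    Cfsg.classInner (Clifford.conjFn g F) (Clifford.conjFn g θ) = Cfsg.classInner F θ := by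
  simp only [classInner_def]
  congr 1
  exact Fintype.sum_equiv
    ⟨Clifford.conjN g, Clifford.conjN g⁻¹, fun n => Subtype.ext (by simp [mul_assoc]),
      fun n => Subtype.ext (by simp [mul_assoc])⟩ _ _ fun n => rfl

/-- Clifford: the constituents of `χ` on `N` have equal multiplicity and degree. -/
theorem norm_decomp (N : Subgroup G) [N.Normal] [Fintype N] {χ : G → ℂ}
    (hχ : Cfsg.IsIrrCharacter G χ) :
    ∃ c t m : ℕ, 0 < c ∧ 0 < t ∧ 0 < m ∧ Cfsg.charDegree χ = c * t * m ∧
      sq N χ = Nat.card N * (c ^ 2 * t : ℕ) := by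
  classical
  have := Fintype.ofFinite (Cfsg.IrrCharacter N)
  have hres := isCharacter_restrict (irr_isCharacter hχ) N
  obtain ⟨φ, hφ, hne⟩ := exists_constituent hres (irr_apply_one_ne_zero hχ)
  obtain ⟨c, hc⟩ := classInner_isCharacter_nat hres (irr_isCharacter hφ)
  set S : Finset (Cfsg.IrrCharacter N) :=
    Finset.univ.filter fun ψ => ∃ g : G, Clifford.conjFn g φ = (ψ : N → ℂ) with hS
  have hcoef : ∀ ψ : Cfsg.IrrCharacter N, Cfsg.classInner (fun n : N => χ n) (ψ : N → ℂ) =
      if ψ ∈ S then (c : ℂ) else 0 := fun ψ => by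
    split_ifs with h
    · obtain ⟨g, hg⟩ := (Finset.mem_filter.mp h).2
      rw [← hg, ← hc]
      conv_lhs => rw [← Clifford.isCharacter_restrict_conj (N := N) (irr_isClassFunction hχ) g]
      rw [inner_conjFn]
    · by_contra h0
      obtain ⟨g, hg⟩ := Clifford.exists_conj_of_constituents hχ hφ ψ.2 hne h0
      exact h (Finset.mem_filter.mpr ⟨Finset.mem_univ _, g, hg⟩)
  have hcl := irr_isClassFunction hχ
  have hcl' : Cfsg.IsClassFunction N (fun n : N => χ n) := fun a b => hcl a b
  have hdegS : ∀ ψ ∈ S, Cfsg.charDegree (ψ : N → ℂ) = Cfsg.charDegree φ := fun ψ hψ => by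
    obtain ⟨g, hg⟩ := (Finset.mem_filter.mp hψ).2
    exact deg_eq_of_eq (irr_isCharacter ψ.2) (irr_isCharacter hφ) (by
      rw [← hg, Clifford.conjFn_apply]; exact congrArg φ (Subtype.ext (by simp)))
  refine ⟨c, S.card, Cfsg.charDegree φ, ?_, ?_, deg_pos hφ, ?_, ?_⟩
  · exact Nat.pos_of_ne_zero fun h => hne (by rw [hc, h, Nat.cast_zero])
  · exact Finset.card_pos.mpr ⟨⟨φ, hφ⟩, Finset.mem_filter.mpr ⟨Finset.mem_univ _, 1,
      Clifford.conjFn_one φ⟩⟩
  · have e := classFunction_apply_eq_sum hcl' 1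
    simp only [hcoef, ite_mul, zero_mul, Finset.sum_ite_mem, Finset.univ_inter] at e
    rw [show ((1 : N) : G) = 1 from rfl, ← deg_cast (irr_isCharacter hχ)] at e
    have e2 : ∑ ψ ∈ S, (c : ℂ) * (ψ : N → ℂ) 1 =
        ((c * S.card * Cfsg.charDegree φ : ℕ) : ℂ) := by
      rw [Finset.sum_congr rfl fun ψ hψ => by rw [← deg_cast (irr_isCharacter ψ.2), hdegS ψ hψ],
        Finset.sum_const, nsmul_eq_mul]
      push_cast; ring
    exact_mod_cast e.trans e2
  · have e := classInner_eq_sum_mul hcl' (fun n : N => χ n)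
    simp only [hcoef, apply_ite (starRingEnd ℂ), map_zero, Complex.conj_natCast, ite_mul,
      zero_mul, mul_ite, mul_zero, Finset.sum_ite_mem, Finset.univ_inter, Finset.sum_const,
      nsmul_eq_mul] at e
    have e2 := sq_eq_inner N χ
    rw [e] at e2
    have e3 : ((sq N χ : ℝ) : ℂ) = (((Nat.card N : ℝ) * ((c ^ 2 * S.card : ℕ) : ℝ) : ℝ) : ℂ) := by
      rw [e2]; push_cast
      simp only [Finset.inter_self]
      ring
    exact_mod_cast e3

/-- If `G / N` is not abelian, every irreducible character of `N` lies below one of at least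
twice its degree. -/
theorem exists_two_mul (N : Subgroup G) [N.Normal] [Fintype N] (hN : ¬ commutator G ≤ N)
    {φ : N → ℂ} (hφ : Cfsg.IsIrrCharacter N φ) :
    ∃ χ : G → ℂ, Cfsg.IsIrrCharacter G χ ∧ 2 * Cfsg.charDegree φ ≤ Cfsg.charDegree χ := by
  by_contra hcon
  push Not at hcon
  -- every character over `φ` restricts to `φ`
  have hres : ∀ χ : G → ℂ, Cfsg.IsIrrCharacter G χ →
      Cfsg.classInner (fun n : N => χ n) φ ≠ 0 → (fun n : N => χ n) = φ := fun χ hχ hne => by
    have hc := isCharacter_restrict (irr_isCharacter hχ) N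
    obtain ⟨c, t, m, hc0, ht0, hm0, hd, -⟩ := norm_decomp N hχ
    obtain ⟨R, hR, e⟩ := Clifford.exists_add_of_constituent hc hφ hne
    by_contra hne'
    have hR0 : R ≠ 0 := fun h => hne' (by rw [e, h, add_zero])
    obtain ⟨ψ, hψ, hψne⟩ := exists_constituent hR fun h => hR0 (eq_zero_of_one_eq_zero hR h)
    have hψc : Cfsg.classInner (fun n : N => χ n) ψ ≠ 0 := by
      obtain ⟨a, ha⟩ := classInner_isCharacter_nat hR (irr_isCharacter hψ)
      obtain ⟨a', ha'⟩ := classInner_isCharacter_nat (irr_isCharacter hφ) (irr_isCharacter hψ)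
      rw [e, classInner_add_left, ha, ha']
      have : a ≠ 0 := fun h => hψne (by rw [ha, h, Nat.cast_zero])
      exact_mod_cast (by omega : a' + a ≠ 0)
    obtain ⟨g, rfl⟩ := Clifford.exists_conj_of_constituents hχ hφ hψ hne hψc
    have h1 : Cfsg.charDegree (Clifford.conjFn g φ) = Cfsg.charDegree φ :=
      deg_eq_of_eq (irr_isCharacter hψ) (irr_isCharacter hφ) (by
        rw [Clifford.conjFn_apply]; exact congrArg φ (Subtype.ext (by simp)))
    have h2 := deg_le_of_inner hR hψ hψne
    have h3 : ((Cfsg.charDegree χ : ℕ) : ℂ) =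
        ((Cfsg.charDegree φ + Cfsg.charDegree R : ℕ) : ℂ) := by
      push_cast
      rw [deg_cast (irr_isCharacter hχ), deg_cast (irr_isCharacter hφ), deg_cast hR]
      exact congrFun e 1
    have h4 : Cfsg.charDegree χ = Cfsg.charDegree φ + Cfsg.charDegree R := by exact_mod_cast h3
    have := hcon χ hχ
    omega
  obtain ⟨χ, hχ, hne⟩ := exists_above N hφ
  have hχN := hres χ hχ hne
  obtain ⟨ν, hν, hν2, hνN⟩ := exists_nonlinear hN
  -- the permutation character on the cosets of `N`
  have h1N : Cfsg.IsCharacter N (fun _ : N => (1 : ℂ)) := isCharacter_one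
  set π := Cfsg.indFun N (fun _ : N => (1 : ℂ)) with hπ
  have hπc : Cfsg.IsCharacter G π := isCharacter_indFun N h1N
  have hπν : Cfsg.classInner π ν = (Cfsg.charDegree ν : ℂ) := by
    rw [hπ, frobenius_reciprocity N _ _ (irr_isClassFunction hν)]
    have e : (fun n : N => ν n) = (Cfsg.charDegree ν : ℂ) • fun _ : N => (1 : ℂ) := funext fun n => by
      rw [Pi.smul_apply, smul_eq_mul, mul_one, deg_cast (irr_isCharacter hν), hνN n n.2]
    rw [e, classInner_smul_right, irr_classInner_self isIrrCharacter_one, Complex.conj_natCast,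
      mul_one]
  have hrest : Cfsg.IsCharacter G (π - (Cfsg.charDegree ν : ℂ) • ν) := by
    refine isCharacter_of_nat ?_ fun μ hμ => ?_
    · intro a b
      simp only [Pi.sub_apply, Pi.smul_apply, isCharacter_isClassFunction hπc a b,
        irr_isClassFunction hν a b]
    · obtain ⟨k, hk⟩ := classInner_isCharacter_nat hπc (irr_isCharacter hμ)
      rw [classInner_sub_left, classInner_smul_left, irr_classInner hν hμ, hk]
      split_ifs with he
      · subst he
        rw [hπν] at hk
        exact ⟨0, by rw [← hk, mul_one, sub_self, Nat.cast_zero]⟩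
      · exact ⟨k, by rw [mul_zero, sub_zero]⟩
  have hF : Cfsg.indFun N φ = χ * π := by
    rw [mul_comm, hπ, indFun_mul N _ (irr_isClassFunction hχ), ← hχN]
    congr 1
    funext n; simp
  have hχν : Cfsg.IsCharacter G (χ * ν) := isCharacter_mul (irr_isCharacter hχ) (irr_isCharacter hν)
  obtain ⟨ξ, hξ, hξne⟩ := exists_constituent hχν (by
    rw [Pi.mul_apply]; exact mul_ne_zero (irr_apply_one_ne_zero hχ) (irr_apply_one_ne_zero hν))
  obtain ⟨k, hk⟩ := classInner_isCharacter_nat hχν (irr_isCharacter hξ)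
  obtain ⟨j, hj⟩ := classInner_isCharacter_nat
    (isCharacter_mul (irr_isCharacter hχ) hrest) (irr_isCharacter hξ)
  have hsplit : Cfsg.indFun N φ = (Cfsg.charDegree ν : ℂ) • (χ * ν) +
      χ * (π - (Cfsg.charDegree ν : ℂ) • ν) := by
    rw [hF]; funext g
    simp only [Pi.add_apply, Pi.smul_apply, Pi.mul_apply, Pi.sub_apply, smul_eq_mul]; ring
  have e : Cfsg.classInner (Cfsg.indFun N φ) ξ = ((Cfsg.charDegree ν * k + j : ℕ) : ℂ) := by
    rw [hsplit, classInner_add_left, classInner_smul_left, hk, hj]; push_cast; ring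
  have hk0 : k ≠ 0 := fun h => hξne (by rw [hk, h, Nat.cast_zero])
  rw [frobenius_reciprocity N _ _ (irr_isClassFunction hξ)] at e
  have hn : Cfsg.classInner (fun n : N => ξ n) φ ≠ 0 := by
    refine inner_symm_ne.mp ?_
    rw [e]
    have : Cfsg.charDegree ν * k + j ≠ 0 := by positivity
    exact_mod_cast this
  rw [hres ξ hξ hn, irr_classInner_self hφ] at e
  have e' : Cfsg.charDegree ν * k + j = 1 := by exact_mod_cast e.symm
  have : 2 ≤ Cfsg.charDegree ν * k := le_trans hν2 (Nat.le_mul_of_pos_right _ (Nat.pos_of_ne_zero hk0))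
  omega

/-- `N` has half the bound when `G / N` is not abelian. -/
theorem Bdd.half {b : ℕ} (hb : Bdd b G) (N : Subgroup G) [N.Normal] (hN : ¬ commutator G ≤ N) :
    Bdd (b / 2) N := fun φ hφ => by
  have := Fintype.ofFinite N
  obtain ⟨χ, hχ, hle⟩ := exists_two_mul N hN hφ
  have := hb χ hχ
  omega

/-- The centralizer of an element not commuting with all its conjugates has smaller bound. -/
theorem bdd_centralizer {b : ℕ} (hb : Bdd b G) {x : G}
    (hx : ∃ g : G, ¬ Commute x (g * x * g⁻¹)) :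
    Bdd (b - 1) (Subgroup.centralizer ({x} : Set G)) := by
  classical
  set H := Subgroup.centralizer ({x} : Set G) with hH
  have := Fintype.ofFinite H
  refine bdd_sub hb H fun χ hχ hd hirr => ?_
  have hxH : x ∈ H := Subgroup.mem_centralizer_singleton_iff.mpr rfl
  have hxc : (⟨x, hxH⟩ : H) ∈ Subgroup.center H := Subgroup.mem_center_iff.mpr fun h =>
    Subtype.ext (Subgroup.mem_centralizer_singleton_iff.mp h.2)
  have hχx : χ x ≠ 0 := fun h0 => by
    have := Clifford.CentralTypeEmbed.norm_of_central hirr hxc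
    rw [deg_restrict (irr_isCharacter hχ)] at this
    simp only [h0, norm_zero] at this
    have := deg_pos hχ
    norm_cast at *
    omega
  set θ : H → ℂ := fun h => χ h with hθ
  have := Fintype.ofFinite (Cfsg.IrrCharacter G)
  have hθc : Cfsg.IsCharacter H θ := irr_isCharacter hirr
  have hF := isCharacter_indFun H hθc
  have hcl := isCharacter_isClassFunction hF
  -- every constituent restricts to `θ`
  have hval : ∀ ξ : Cfsg.IrrCharacter G,
      Cfsg.classInner (Cfsg.indFun H θ) (ξ : G → ℂ) ≠ 0 → ∀ h : H, (ξ : G → ℂ) h = χ h := by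
    intro ξ hne h
    rw [frobenius_reciprocity H _ _ (irr_isClassFunction ξ.2)] at hne
    have e := eq_of_inner_of_le (isCharacter_restrict (irr_isCharacter ξ.2) H) hirr
      (inner_symm_ne.mp hne) (by
        rw [deg_restrict (irr_isCharacter ξ.2), deg_restrict (irr_isCharacter hχ), hd]
        exact hb _ ξ.2)
    exact congrFun e h
  have hat : ∀ h : H, Cfsg.indFun H θ h =
      (∑ ξ : Cfsg.IrrCharacter G, Cfsg.classInner (Cfsg.indFun H θ) (ξ : G → ℂ)) * χ h := by
    intro h
    rw [classFunction_apply_eq_sum hcl, Finset.sum_mul]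
    refine Finset.sum_congr rfl fun ξ _ => ?_
    rcases eq_or_ne (Cfsg.classInner (Cfsg.indFun H θ) (ξ : G → ℂ)) 0 with h0 | h0
    · rw [h0, zero_mul, zero_mul]
    · rw [hval ξ h0 h]
  have h1 := hat 1
  rw [show ((1 : H) : G) = 1 from rfl, indFun_apply_one] at h1
  have hsum := mul_right_cancel₀ (irr_apply_one_ne_zero hχ) h1
  have hx1 := hat ⟨x, hxH⟩
  simp only at hx1
  rw [← hsum] at hx1
  -- the permutation character takes its full value at `x`
  have hπ : Cfsg.indFun H θ = Cfsg.indFun H (fun _ : H => (1 : ℂ)) * χ := by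
    rw [indFun_mul H _ (irr_isClassFunction hχ)]
    congr 1
    funext h; simp [hθ]
  rw [hπ, Pi.mul_apply] at hx1
  have hπx := mul_right_cancel₀ hχx hx1
  rw [indFun_def] at hπx
  have hcard : ((Finset.univ.filter fun y : G => y⁻¹ * x * y ∈ H).card : ℂ) =
      (Nat.card G : ℂ) := by
    have h0 : (Nat.card H : ℂ) ≠ 0 := natCard_ne_zero
    rw [inv_mul_eq_iff_eq_mul₀ h0] at hπx
    rw [← H.index_mul_card, Nat.cast_mul, mul_comm, ← hπx, Finset.card_filter, Nat.cast_sum]
    refine Finset.sum_congr rfl fun y _ => ?_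
    by_cases hy : y⁻¹ * x * y ∈ H
    · rw [if_pos hy, extendByZero_of_mem _ hy, Nat.cast_one]
    · rw [if_neg hy, extendByZero_of_not_mem _ hy, Nat.cast_zero]
  rw [Nat.card_eq_fintype_card] at hcard
  have hall := Finset.eq_univ_of_card _ (by exact_mod_cast hcard)
  obtain ⟨g, hg⟩ := hx
  refine hg ?_
  have hmem : g⁻¹⁻¹ * x * g⁻¹ ∈ H :=
    (Finset.mem_filter.mp ((Finset.ext_iff.mp hall g⁻¹).mpr (Finset.mem_univ _))).2
  rw [inv_inv] at hmem
  exact (Subgroup.mem_centralizer_singleton_iff.mp hmem).symm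

/-- A subgroup off which a nonlinear character vanishes, scalar on it, has smaller bound. -/
theorem bdd_vanish {b : ℕ} (hb : Bdd b G) (H : Subgroup G) {ν : G → ℂ}
    (hν : Cfsg.IsIrrCharacter G ν) (hν2 : 2 ≤ Cfsg.charDegree ν)
    (hoff : ∀ g, g ∉ H → ν g = 0) (hon : ∀ g ∈ H, ‖ν g‖ = Cfsg.charDegree ν) :
    Bdd (b - 1) H := by
  have := Fintype.ofFinite H
  refine bdd_sub hb H fun χ hχ hd hirr => ?_
  have hν1 : (Cfsg.charDegree ν : ℝ) ^ 2 * sq H (fun _ => (1 : ℂ)) = Nat.card G := by
    rw [← sq_top hν, sq, sq, Finset.mul_sum]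
    refine Finset.sum_congr rfl fun g _ => ?_
    by_cases hg : g ∈ H
    · simp [hg, hon g hg]
    · simp [hg, hoff g hg]
  have hH1 : sq H (fun _ => (1 : ℂ)) = Nat.card H := sq_irr H isIrrCharacter_one
  have hsum : ∑ g : G, ‖(χ * ν) g‖ ^ 2 = (Cfsg.charDegree ν : ℝ) ^ 2 * sq H χ := by
    rw [sq, Finset.mul_sum]
    refine Finset.sum_congr rfl fun g _ => ?_
    by_cases hg : g ∈ H
    · simp [hg, hon g hg, mul_pow]; ring
    · simp [hg, hoff g hg]
  have hF := isCharacter_mul (irr_isCharacter hχ) (irr_isCharacter hν)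
  have hirr2 : Cfsg.IsIrrCharacter G (χ * ν) := by
    refine Clifford.isIrrCharacter_of_classInner_self hF ?_
    rw [classInner_self_eq_norm, hsum, sq_irr H hirr, ← hH1, hν1]
    rw [inv_mul_cancel₀ (by exact_mod_cast Nat.card_pos.ne'), Complex.ofReal_one]
  have e : Cfsg.charDegree (χ * ν) = Cfsg.charDegree χ * Cfsg.charDegree ν := by
    have : (Cfsg.charDegree (χ * ν) : ℂ) = ((Cfsg.charDegree χ * Cfsg.charDegree ν : ℕ) : ℂ) := by
      push_cast
      rw [deg_cast hF, deg_cast (irr_isCharacter hχ), deg_cast (irr_isCharacter hν)]; rfl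
    exact_mod_cast this
  have := hb _ hirr2
  have := deg_pos hχ
  nlinarith

end CfsgLib.Char.BDeg
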