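import Cfsg.Agent.Lib.Char.BDegBasic
import Cfsg.Agent.Lib.ClassK.RowDegree
import Cfsg.Agent.Lib.Transfer.ExcSimple

/-!
# A nontrivial perfect group has an irreducible character of degree at least five
-/

set_option autoImplicit false
set_option linter.unusedSectionVars false

namespace CfsgLib.Char.BDeg

open scoped ComplexConjugate

universe u

theorem five_le_of_simple {S : Type u} [Group S] [Fintype S] [IsSimpleGroup S]
    (hperf : commutator S = ⊤) {b : ℕ} (hb : Bdd b S) : 5 ≤ b := by
  classical
  by_contra hlt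
  have := Fintype.ofFinite (Cfsg.IrrCharacter S)
  have hnc : ¬ IsMulCommutative S := fun h => by
    have h0 : commutator S = ⊥ := by
      rw [commutator_def, eq_bot_iff, Subgroup.commutator_le]
      intro a _ c _
      rw [Subgroup.mem_bot, commutatorElement_eq_one_iff_mul_comm]
      exact h.is_comm.comm a c
    exact bot_ne_top (h0.symm.trans hperf)
  set one : Cfsg.IrrCharacter S := ⟨fun _ => 1, isIrrCharacter_one⟩ with hone
  have hdeg : ∀ χ : Cfsg.IrrCharacter S, χ ≠ one →
      2 ≤ Cfsg.charDegree (χ : S → ℂ) ∧ Cfsg.charDegree (χ : S → ℂ) ≤ 4 := fun χ hne => by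
    refine ⟨?_, (hb _ χ.2).trans (by omega)⟩
    have h1 := Transfer.irr_apply_one_ne_one hnc χ (fun e => hne (Subtype.ext e))
    have := deg_pos χ.2
    by_contra h2
    refine h1 ?_
    rw [← deg_cast (irr_isCharacter χ.2)]
    norm_cast
    omega
  have hsq := sum_irr_sq (G := S)
  rw [← Finset.add_sum_erase _ _ (Finset.mem_univ one)] at hsq
  have hsq' : 1 + ∑ χ ∈ Finset.univ.erase one, Cfsg.charDegree (χ : S → ℂ) ^ 2 = Nat.card S := by
    rw [← Nat.cast_inj (R := ℂ), ← hsq]
    push_cast
    congr 1
    · simp [hone]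
    · exact Finset.sum_congr rfl fun χ _ => by rw [deg_cast (irr_isCharacter χ.2)]
  by_cases h2 : 2 ∣ Nat.card S
  · obtain ⟨t, ht⟩ := exists_prime_orderOf_dvd_card' 2 h2
    have ht1 : t ≠ 1 := fun h => by simp [h] at ht
    have hcen : Subgroup.center S = ⊥ := by
      rcases (Subgroup.center S).normal_of_characteristic.eq_bot_or_eq_top with h | h
      · exact h
      · exact absurd ⟨⟨fun a c => (Subgroup.mem_center_iff.mp (h ▸ Subgroup.mem_top c) a)⟩⟩ hnc
    have key : ∀ χ : Cfsg.IrrCharacter S, χ ≠ one → ∃ z : ℤ, (z = -3 ∨ z = 0) ∧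
        (χ : S → ℂ) t * conj ((χ : S → ℂ) 1) = (z : ℂ) := fun χ hne => by
      obtain ⟨hd2, hd4⟩ := hdeg χ hne
      obtain ⟨n, ρ, hρ, hρc⟩ := χ.2
      obtain ⟨ι, hι, b', μ, hμb, hμ, hχ, -⟩ := exists_char_eigen ρ t
      have hprod := ClassK.RowDegree.prod_eigen_eq_one hperf ρ b' μ t hμb
      rw [ht] at hμ
      have hcard : Fintype.card ι = Cfsg.charDegree (χ : S → ℂ) := by
        have h0 := hχ 0
        simp only [pow_zero, Finset.sum_const, Finset.card_univ, nsmul_eq_mul, mul_one] at h0
        rw [hρc, ← deg_cast (irr_isCharacter χ.2)] at h0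
        exact_mod_cast h0.symm
      set M := Finset.univ.filter fun i => μ i = -1 with hM
      have hpm : ∀ i, μ i = 1 ∨ μ i = -1 := fun i => sq_eq_one_iff.mp (hμ i)
      have hval : (χ : S → ℂ) t = (Fintype.card ι : ℂ) - 2 * (M.card : ℂ) := by
        have h1 := hχ 1
        simp only [pow_one] at h1
        rw [← hρc, h1, hM, Finset.card_filter, Nat.cast_sum, Finset.mul_sum, Fintype.card,
          Finset.card_eq_sum_ones, Nat.cast_sum, ← Finset.sum_sub_distrib]
        refine Finset.sum_congr rfl fun i _ => ?_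
        rcases hpm i with e | e <;> simp [e] <;> norm_num
      have heven : Even M.card := by
        have hp : ∏ i, μ i = (-1 : ℂ) ^ M.card := by
          rw [hM, ← Finset.prod_const, Finset.prod_filter]
          refine Finset.prod_congr rfl fun i _ => ?_
          rcases hpm i with e | e <;> simp [e] <;> norm_num
        rw [hprod] at hp
        rcases Nat.even_or_odd M.card with h | h
        · exact h
        · rw [h.neg_one_pow] at hp; norm_num at hp
      have hfaith := Transfer.irr_apply_ne_apply_one χ (fun e => hne (Subtype.ext e)) ht1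
      rw [← deg_cast (irr_isCharacter χ.2), hval, hcard] at hfaith
      have hne0 : M.card ≠ 0 := fun h => hfaith (by rw [h]; simp)
      have hned : M.card ≠ Cfsg.charDegree (χ : S → ℂ) := fun h => by
        have hn : ‖(χ : S → ℂ) t‖ = (Cfsg.charDegree (χ : S → ℂ) : ℝ) := by
          rw [hval, hcard, h, show ((Cfsg.charDegree (χ : S → ℂ) : ℂ)) -
            2 * (Cfsg.charDegree (χ : S → ℂ) : ℂ) = -(Cfsg.charDegree (χ : S → ℂ) : ℂ) by ring,
            norm_neg, Complex.norm_natCast]
        have := Clifford.CentralTypeEmbed.mem_center_of_norm χ.2 (fun g hg => by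
          by_contra hg1
          exact Transfer.irr_apply_ne_apply_one χ (fun e => hne (Subtype.ext e)) hg1 hg) hn
        rw [hcen, Subgroup.mem_bot] at this
        exact ht1 this
      have hle : M.card ≤ Fintype.card ι := Finset.card_le_univ _
      refine ⟨((Cfsg.charDegree (χ : S → ℂ) : ℤ) - 2 * M.card) * Cfsg.charDegree (χ : S → ℂ),
        ?_, ?_⟩
      · obtain ⟨r, hr⟩ := heven
        have hM2 : M.card = 2 := by omega
        rw [hM2]
        have : Cfsg.charDegree (χ : S → ℂ) = 3 ∨ Cfsg.charDegree (χ : S → ℂ) = 4 := by omega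
        rcases this with e | e <;> rw [e] <;> norm_num
      · rw [hval, hcard, ← deg_cast (irr_isCharacter χ.2), Complex.conj_natCast]
        push_cast
        ring
    choose! z hz using key
    have horth := column_orthogonality t (1 : S)
    rw [if_neg (fun h => ht1 (isConj_one_left.mp h)),
      ← Finset.add_sum_erase _ _ (Finset.mem_univ one),
      Finset.sum_congr rfl fun χ hχ => (hz χ (Finset.ne_of_mem_erase hχ)).2] at horth
    simp only [hone, map_one, mul_one] at horth
    have hint : (1 : ℤ) + ∑ χ ∈ Finset.univ.erase one, z χ = 0 := by exact_mod_cast horth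
    have hdvd : (3 : ℤ) ∣ ∑ χ ∈ Finset.univ.erase one, z χ :=
      Finset.dvd_sum fun χ hχ => by
        rcases (hz χ (Finset.ne_of_mem_erase hχ)).1 with e | e <;> rw [e] <;> norm_num
    omega
  · rcases (Finset.univ.erase one).eq_empty_or_nonempty with h | ⟨χ, hχ⟩
    · rw [h, Finset.sum_empty] at hsq'
      have := Finite.one_lt_card (α := S)
      omega
    · have h3 : ∀ χ ∈ Finset.univ.erase one, Cfsg.charDegree (χ : S → ℂ) = 3 := fun χ hχ => by
        obtain ⟨hd2, hd4⟩ := hdeg χ (Finset.ne_of_mem_erase hχ)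
        have hdvd := Clifford.Degrees.charDegree_dvd_card χ.2
        by_contra hne
        have : Cfsg.charDegree (χ : S → ℂ) = 2 ∨ Cfsg.charDegree (χ : S → ℂ) = 4 := by omega
        rcases this with e | e <;> rw [e] at hdvd
        · exact h2 hdvd
        · exact h2 (Dvd.dvd.trans (by norm_num) hdvd)
      have hdvd := Clifford.Degrees.charDegree_dvd_card χ.2
      rw [h3 χ hχ] at hdvd
      rw [Finset.sum_congr rfl fun χ hχ => by rw [h3 χ hχ], Finset.sum_const, smul_eq_mul] at hsq'
      obtain ⟨k, hk⟩ := hdvd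
      omega

theorem five_le_of_perfect {H : Type u} [Group H] [Fintype H] [Nontrivial H]
    (hperf : commutator H = ⊤) {b : ℕ} (hb : Bdd b H) : 5 ≤ b := by
  classical
  obtain ⟨K, hK, hmax⟩ := Set.Finite.exists_maximal
    (Set.toFinite {K : Subgroup H | K.Normal ∧ K ≠ ⊤}) ⟨⊥, Subgroup.normal_bot, bot_ne_top⟩
  have := hK.1
  have hnt : Nontrivial (H ⧸ K) := QuotientGroup.nontrivial_iff.mpr hK.2
  have : IsSimpleGroup (H ⧸ K) := ⟨fun L hL => by
    have hC : (L.comap (QuotientGroup.mk' K)).Normal := hL.comap _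
    have hle : K ≤ L.comap (QuotientGroup.mk' K) := fun k hk => by
      rw [Subgroup.mem_comap, show QuotientGroup.mk' K k = 1 from (QuotientGroup.eq_one_iff k).mpr hk]
      exact L.one_mem
    by_cases htop : L.comap (QuotientGroup.mk' K) = ⊤
    · right
      rw [← Subgroup.map_comap_eq_self_of_surjective (QuotientGroup.mk'_surjective K) L, htop,
        Subgroup.map_top_of_surjective _ (QuotientGroup.mk'_surjective K)]
    · left
      have := le_antisymm (hmax ⟨hC, htop⟩ hle) hle
      rw [← Subgroup.map_comap_eq_self_of_surjective (QuotientGroup.mk'_surjective K) L, this,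
        QuotientGroup.map_mk'_self]⟩
  refine five_le_of_simple ?_ (hb.quotient K)
  rw [commutator_def, ← Subgroup.map_top_of_surjective _ (QuotientGroup.mk'_surjective K),
    ← Subgroup.map_commutator, ← commutator_def, hperf]

end CfsgLib.Char.BDeg
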