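import Cfsg.Agent.Lib.Char.BDegCount
import Cfsg.Agent.Lib.Char.BDegFrob
import Cfsg.Agent.Lib.Char.BDegPerfect

/-!
# An abelian subgroup of index at most `(b!)²`
-/

set_option autoImplicit false
set_option linter.unusedSectionVars false

namespace CfsgLib.Char.BDeg

open scoped ComplexConjugate
open QuotientGroup (mk')

universe u

variable {G : Type u} [Group G] [Fintype G]

theorem natCard_comap (N : Subgroup G) [N.Normal] (K : Subgroup (G ⧸ N)) :
    Nat.card (K.comap (mk' N)) = Nat.card N * Nat.card K := by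
  have h1 := (K.comap (mk' N)).index_mul_card
  rw [Subgroup.index_comap_of_surjective _ (QuotientGroup.mk'_surjective N)] at h1
  have h2 := K.index_mul_card
  have h3 := N.index_mul_card
  rw [Subgroup.index_eq_card, ← h2] at h3
  have h0 : 0 < K.index := Nat.pos_of_ne_zero K.index_ne_zero_of_finite
  rw [← h3] at h1
  have h4 : K.index * Nat.card (K.comap (mk' N)) = K.index * (Nat.card N * Nat.card K) := by
    rw [h1]; ring
  exact Nat.eq_of_mul_eq_mul_left h0 h4

/-- A character of maximal degree irreducible on the Frobenius kernel vanishes on it off `N`. -/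
theorem vanish_kernel {b : ℕ} (hb : Bdd b G) (N : Subgroup G) [N.Normal]
    (hab : ∀ x ∈ commutator (G ⧸ N), ∀ y ∈ commutator (G ⧸ N), x * y = y * x)
    (hcen : Subgroup.center (G ⧸ N) = ⊥) {χ : G → ℂ} (hχ : Cfsg.IsIrrCharacter G χ)
    (hd : Cfsg.charDegree χ = b)
    (hirr : Cfsg.IsIrrCharacter ((commutator (G ⧸ N)).comap (mk' N))
      (fun h : (commutator (G ⧸ N)).comap (mk' N) => χ h)) {x : G}
    (hx : x ∈ (commutator (G ⧸ N)).comap (mk' N)) (hxN : x ∉ N) : χ x = 0 := by
  set D := (commutator (G ⧸ N)).comap (mk' N) with hD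
  have := Fintype.ofFinite D
  by_contra h0
  refine hxN ((QuotientGroup.eq_one_iff x).mp (Subgroup.mem_bot.mp (hcen ▸ ?_)))
  refine Subgroup.mem_center_iff.mpr fun q => ?_
  obtain ⟨g, rfl⟩ := QuotientGroup.mk'_surjective N q
  let π : D →* commutator (G ⧸ N) :=
    ((mk' N).comp D.subtype).codRestrict _ fun d => d.2
  have hgx : g * x * g⁻¹ ∈ D := Subgroup.Normal.conj_mem inferInstance x hx g
  have hπ : π ⟨g * x * g⁻¹, hgx⟩ = π ⟨x, hx⟩ := by
    by_contra hne
    obtain ⟨μ, hμ⟩ := exists_linear_ne_one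
      (fun u w : commutator (G ⧸ N) => Subtype.ext (hab u u.2 w w.2))
      (g := π ⟨g * x * g⁻¹, hgx⟩ * (π ⟨x, hx⟩)⁻¹) (fun h => hne (mul_inv_eq_one.mp h))
    refine hμ ?_
    have htw := isIrrCharacter_mul_linear hirr (μ.comp π)
    obtain ⟨ξ, hξ, -, hres⟩ := exists_extension hb htw (le_of_eq (by
      rw [← hd, ← deg_restrict (H := D) (irr_isCharacter hχ)]
      exact deg_eq_of_eq (G := D) (irr_isCharacter hirr) (irr_isCharacter htw) (by simp)))
    have e1 := congrFun hres ⟨x, hx⟩
    have e2 := congrFun hres ⟨g * x * g⁻¹, hgx⟩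
    simp only [MonoidHom.comp_apply] at e1 e2
    rw [irr_isClassFunction hξ x g, e1, irr_isClassFunction hχ x g] at e2
    have e3 := mul_right_cancel₀ h0 e2
    rw [map_mul, map_inv, ← Units.val_inj.mp e3, mul_inv_cancel]
  have h1 : mk' N (g * x * g⁻¹) = mk' N x := congrArg Subtype.val hπ
  rw [map_mul, map_mul, map_inv, mul_inv_eq_iff_eq_mul] at h1
  exact h1

/-- The Frobenius case. -/
theorem exists_sub_frob {b : ℕ} (hb : Bdd b G) (hb2 : 2 ≤ b) (N : Subgroup G) [N.Normal]
    (hN : ¬ commutator G ≤ N)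
    (hab : ∀ x ∈ commutator (G ⧸ N), ∀ y ∈ commutator (G ⧸ N), x * y = y * x)
    (hmin : ∀ L : Subgroup (G ⧸ N), L.Normal → L ≠ ⊥ → commutator (G ⧸ N) ≤ L)
    (hnc : ¬ commutator (G ⧸ N) ≤ Subgroup.center (G ⧸ N)) :
    ∃ H : Subgroup G, H.index ≤ b ^ 2 ∧ Bdd (b - 1) H := by
  classical
  have := Fintype.ofFinite N
  have := Fintype.ofFinite (Cfsg.IrrCharacter (G ⧸ N))
  have := Fintype.ofFinite (G ⧸ N)
  obtain ⟨C, hC, hCi, hV1, hVi, hcop, -, -⟩ := frob hab hmin hnc
  obtain ⟨hfb, hsumdeg, hcol⟩ := nonlinear_facts hab hmin hnc (hb.quotient N)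
  set V := commutator (G ⧸ N) with hV
  set v := Nat.card V with hv
  set f := V.index with hf
  set D := V.comap (mk' N) with hD
  set E := C.comap (mk' N) with hE
  have := Fintype.ofFinite D
  have := Fintype.ofFinite E
  have hDi : D.index = f := Subgroup.index_comap_of_surjective _ (QuotientGroup.mk'_surjective N)
  have hEi : E.index = v := by
    rw [hE, Subgroup.index_comap_of_surjective _ (QuotientGroup.mk'_surjective N), hCi]
  have hfb2 : f ≤ b ^ 2 := hfb.trans (Nat.le_self_pow two_ne_zero b)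
  by_cases hgoodD : Bdd (b - 1) D
  · exact ⟨D, hDi.trans_le hfb2, hgoodD⟩
  -- `D` is bad
  obtain ⟨χ, hχ, hd, hirrD⟩ : ∃ χ : G → ℂ, Cfsg.IsIrrCharacter G χ ∧ Cfsg.charDegree χ = b ∧
      Cfsg.IsIrrCharacter D (fun h : D => χ h) := by
    by_contra hcon
    push Not at hcon
    exact hgoodD (bdd_sub hb D hcon)
  have hDcard : Nat.card D = Nat.card N * v := natCard_comap N V
  have hGcard : Nat.card G = Nat.card N * v * f := by
    rw [← hDcard, ← hDi, mul_comm, D.index_mul_card]
  have hND : N ≤ D := fun n hn => by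
    rw [hD, Subgroup.mem_comap, show mk' N n = 1 from (QuotientGroup.eq_one_iff n).mpr hn]
    exact V.one_mem
  obtain ⟨c, t, m, hc0, ht0, hm0, hdeg, hsq⟩ := norm_decomp N hχ
  have hN0 : (Nat.card N : ℝ) ≠ 0 := by exact_mod_cast Nat.card_pos.ne'
  have hct : c ^ 2 * t = v := by
    have e : sq N χ = sq D χ := by
      refine Finset.sum_congr rfl fun g _ => ?_
      by_cases hg : g ∈ D
      · by_cases hgN : g ∈ N
        · rw [if_pos hg, if_pos hgN]
        · rw [if_pos hg, if_neg hgN,
            vanish_kernel hb N hab (center_bot hab hmin hnc) hχ hd hirrD hg hgN]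
          simp
      · rw [if_neg hg, if_neg fun hgN => hg (hND hgN)]
    rw [hsq, sq_irr D hirrD, hDcard, Nat.cast_mul (Nat.card N) v] at e
    exact_mod_cast mul_left_cancel₀ hN0 e
  have hct2 : v ≤ b ^ 2 := by
    rw [← hct, ← hd, hdeg]
    calc c ^ 2 * t ≤ c ^ 2 * t ^ 2 * m ^ 2 := by
          rw [mul_assoc]
          refine Nat.mul_le_mul_left _ ?_
          calc t = t * 1 := (mul_one t).symm
            _ ≤ t ^ 2 * m ^ 2 := Nat.mul_le_mul (Nat.le_self_pow two_ne_zero t)
                (Nat.one_le_pow _ _ hm0)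
      _ = (c * t * m) ^ 2 := by ring
  by_cases hgoodE : Bdd (b - 1) E
  · exact ⟨E, hEi.trans_le hct2, hgoodE⟩
  obtain ⟨χ', hχ', hd', hirrE⟩ : ∃ χ : G → ℂ, Cfsg.IsIrrCharacter G χ ∧ Cfsg.charDegree χ = b ∧
      Cfsg.IsIrrCharacter E (fun h : E => χ h) := by
    by_contra hcon
    push Not at hcon
    exact hgoodE (bdd_sub hb E hcon)
  obtain ⟨c', t', m', hc0', ht0', hm0', hdeg', hsq'⟩ := norm_decomp N hχ'
  have hNE : N ≤ E := fun n hn => by
    rw [hE, Subgroup.mem_comap, show mk' N n = 1 from (QuotientGroup.eq_one_iff n).mpr hn]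
    exact C.one_mem
  have hEcard : Nat.card E = Nat.card N * f := by rw [hE, natCard_comap N C, hC]
  set a : ℕ := c' ^ 2 * t' with ha
  have haf : a ≤ f := by
    have e := sq_mono hNE χ'
    rw [hsq', sq_irr E hirrE, hEcard, Nat.cast_mul (Nat.card N) f] at e
    exact_mod_cast le_of_mul_le_mul_left e (by positivity)
  obtain ⟨d, hsqD, -⟩ := sq_nat D (irr_isCharacter hχ')
  rw [hDcard, Nat.cast_mul] at hsqD
  have hdf : d ≤ f := by
    have e := sq_mono (le_top : D ≤ ⊤) χ'
    rw [hsqD, sq_top hχ', hGcard, Nat.cast_mul, Nat.cast_mul] at e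
    have hv0 : (0 : ℝ) < Nat.card N * v := by
      have : 0 < v := by omega
      positivity
    exact_mod_cast le_of_mul_le_mul_left e hv0
  -- the products with the nonlinear characters of the quotient
  have hkey : ((v : ℝ) - 1) * Nat.card G ≤
      ((f : ℝ) * v - f) * sq N χ' + ((v : ℝ) - f) * (sq D χ' - sq N χ') := by
    have h1 : ∀ μ : Cfsg.IrrCharacter (G ⧸ N),
        (if (μ : G ⧸ N → ℂ) 1 = 1 then 0 else (Cfsg.charDegree (μ : G ⧸ N → ℂ) : ℝ)) *
          Nat.card G ≤
        ∑ g : G, ‖χ' g‖ ^ 2 *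
          (if (μ : G ⧸ N → ℂ) 1 = 1 then 0 else ‖(μ : G ⧸ N → ℂ) (mk' N g)‖ ^ 2) := fun μ => by
      split_ifs with h
      · simp
      · have hlift := isIrrCharacter_comp_surjective μ.2 _ (QuotientGroup.mk'_surjective N)
        have h2 := le_norm hb (isCharacter_mul (irr_isCharacter hχ') (irr_isCharacter hlift))
          (Cfsg.charDegree (μ : G ⧸ N → ℂ)) (by
            simp only [Pi.mul_apply, Function.comp_apply, map_one]
            rw [← deg_cast (irr_isCharacter μ.2), ← deg_cast (irr_isCharacter hχ'), hd']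
            ring) (by omega)
        simpa [mul_pow] using h2
    have h2 := Finset.sum_le_sum fun μ (_ : μ ∈ Finset.univ) => h1 μ
    rw [← Finset.sum_mul, Finset.sum_comm] at h2
    simp only [← Finset.mul_sum] at h2
    refine le_trans (mul_le_mul_of_nonneg_right hsumdeg (Nat.cast_nonneg _)) (h2.trans ?_)
    have h3 : ∀ g : G, ‖χ' g‖ ^ 2 * (if mk' N g = 1 then (f : ℝ) * v - f
        else if mk' N g ∈ V then (v : ℝ) - f else 0) =
        ((f : ℝ) * v - f) * (if g ∈ N then ‖χ' g‖ ^ 2 else 0) + ((v : ℝ) - f) *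
          ((if g ∈ D then ‖χ' g‖ ^ 2 else 0) - (if g ∈ N then ‖χ' g‖ ^ 2 else 0)) := fun g => by
      have hiff : mk' N g = 1 ↔ g ∈ N := QuotientGroup.eq_one_iff g
      have hiffD : mk' N g ∈ V ↔ g ∈ D := Iff.rfl
      by_cases hgN : g ∈ N
      · rw [if_pos (hiff.mpr hgN), if_pos hgN, if_pos (hND hgN)]; ring
      · rw [if_neg (hiff.not.mpr hgN), if_neg hgN]
        by_cases hgD : g ∈ D
        · rw [if_pos (hiffD.mpr hgD), if_pos hgD]; ring
        · rw [if_neg (hiffD.not.mpr hgD), if_neg hgD]; ring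
    refine (Finset.sum_le_sum fun g _ =>
      mul_le_mul_of_nonneg_left (hcol (mk' N g)) (by positivity)).trans (le_of_eq ?_)
    refine (Finset.sum_congr rfl fun g _ => Eq.trans ?_ (h3 g)).trans ?_
    · congr!
    rw [Finset.sum_add_distrib, ← Finset.mul_sum, ← Finset.mul_sum, Finset.sum_sub_distrib]
    simp only [sq]
  have hfv : f ≤ v := index_le_card hab hmin hnc
  have hfa : f ≤ a := by
    rw [hsq', hsqD, hGcard, Nat.cast_mul (Nat.card N * v) f, Nat.cast_mul (Nat.card N) v] at hkey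
    have hNpos : (0 : ℝ) < Nat.card N := by exact_mod_cast Nat.card_pos
    have hvr : (0 : ℝ) < v := by exact_mod_cast (by omega : 0 < v)
    have h4 : ((v : ℝ) - 1) * f ≤ ((f : ℝ) - 1) * a + ((v : ℝ) - f) * d := by
      refine le_of_mul_le_mul_left (a := (Nat.card N : ℝ) * v) ?_ (by positivity)
      linarith
    have h5 : ((v : ℝ) - f) * d ≤ ((v : ℝ) - f) * f :=
      mul_le_mul_of_nonneg_left (by exact_mod_cast hdf)
        (sub_nonneg.mpr (by exact_mod_cast hfv))
    have h6 : (1 : ℝ) < f := by exact_mod_cast hVi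
    have : (f : ℝ) ≤ a := by
      refine le_of_mul_le_mul_left (a := (f : ℝ) - 1) ?_ (by linarith)
      linarith
    exact_mod_cast this
  have haeq : a = f := le_antisymm haf hfa
  have hcop' : Nat.Coprime (c * t) (c' * t') := by
    refine ((hcop.pow 2 2).coprime_dvd_left (Nat.dvd_trans (dvd_pow_self _ two_ne_zero)
      (pow_dvd_pow_of_dvd ⟨c, ?_⟩ 2))).coprime_dvd_right (Nat.dvd_trans (dvd_pow_self _ two_ne_zero)
      (pow_dvd_pow_of_dvd ⟨c', ?_⟩ 2))
    · rw [← hct]; ring
    · rw [← haeq, ha]; ring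
  have hdvd : c * t * (c' * t') ∣ b :=
    hcop'.mul_dvd_of_dvd_of_dvd ⟨m, hd.symm.trans hdeg⟩ ⟨m', hd'.symm.trans hdeg'⟩
  refine ⟨N, ?_, fun φ hφ => (hb.half N hN φ hφ).trans (by omega)⟩
  have hNi : N.index = v * f := by
    have h1 := N.index_mul_card
    rw [hGcard, mul_comm, mul_assoc] at h1
    exact Nat.eq_of_mul_eq_mul_left Nat.card_pos h1
  rw [hNi, ← hct, ← haeq, ha]
  calc c ^ 2 * t * (c' ^ 2 * t') ≤ c ^ 2 * t ^ 2 * (c' ^ 2 * t' ^ 2) :=
        Nat.mul_le_mul (Nat.mul_le_mul_left _ (Nat.le_self_pow two_ne_zero t))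
          (Nat.mul_le_mul_left _ (Nat.le_self_pow two_ne_zero t'))
    _ = (c * t * (c' * t')) ^ 2 := by ring
    _ ≤ b ^ 2 := Nat.pow_le_pow_left (Nat.le_of_dvd (by omega) hdvd) 2

/-- The step of the induction. -/
theorem exists_step {b : ℕ} (hb : Bdd b G) (hG : ¬ commutator G ≤ ⊥) :
    ∃ (H : Subgroup G) (c : ℕ), c < b ∧ Bdd c H ∧
      H.index * c.factorial ^ 2 ≤ b.factorial ^ 2 := by
  classical
  obtain ⟨N, hNN, hmax⟩ := Set.Finite.exists_maximal
    (Set.toFinite {N : Subgroup G | N.Normal ∧ ¬ commutator G ≤ N}) ⟨⊥, Subgroup.normal_bot, hG⟩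
  obtain ⟨hNn, hN⟩ := hNN
  have := Fintype.ofFinite N
  have := Fintype.ofFinite (G ⧸ N)
  have hcomm : (commutator G).map (mk' N) = commutator (G ⧸ N) := by
    rw [commutator_def, commutator_def, Subgroup.map_commutator,
      Subgroup.map_top_of_surjective _ (QuotientGroup.mk'_surjective N)]
  have hmin : ∀ L : Subgroup (G ⧸ N), L.Normal → L ≠ ⊥ → commutator (G ⧸ N) ≤ L := fun L hL hL1 => by
    by_contra hnot
    have hle : N ≤ L.comap (mk' N) := fun n hn => by
      rw [Subgroup.mem_comap, show mk' N n = 1 from (QuotientGroup.eq_one_iff n).mpr hn]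
      exact L.one_mem
    have hin : L.comap (mk' N) ≤ N := hmax ⟨hL.comap _, fun h => hnot (by
      rw [← hcomm, Subgroup.map_le_iff_le_comap]; exact h)⟩ hle
    refine hL1 (eq_bot_iff.mpr ?_)
    rw [← Subgroup.map_comap_eq_self_of_surjective (QuotientGroup.mk'_surjective N) L,
      le_antisymm hin hle, QuotientGroup.map_mk'_self]
  have hQ : commutator (G ⧸ N) ≠ ⊥ := fun h => hN (by
    rw [← QuotientGroup.ker_mk' N, ← Subgroup.map_eq_bot_iff, hcomm, h])
  obtain ⟨ν, hν, hν2, hνN⟩ := exists_nonlinear hN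
  have hb2 : 2 ≤ b := hν2.trans (hb ν hν)
  suffices h : (∃ H : Subgroup G, H.index ≤ b ^ 2 ∧ Bdd (b - 1) H) ∨
      (5 ≤ b ∧ N.index ≤ b ^ 4) by
    rcases h with ⟨H, hi, hH⟩ | ⟨h5, hi⟩
    · refine ⟨H, b - 1, by omega, hH, ?_⟩
      obtain ⟨k, rfl⟩ : ∃ k, b = k + 1 := ⟨b - 1, by omega⟩
      rw [Nat.add_sub_cancel, Nat.factorial_succ, mul_pow]
      exact Nat.mul_le_mul_right _ hi
    · refine ⟨N, b / 2, by omega, hb.half N hN, ?_⟩
      obtain ⟨k, rfl⟩ : ∃ k, b = k + 3 := ⟨b - 3, by omega⟩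
      have h1 : ((k + 3) / 2).factorial ≤ k.factorial := Nat.factorial_le (by omega)
      have h2 : (k + 3) * (k + 3) ≤ (k + 3) * ((k + 2) * (k + 1)) :=
        Nat.mul_le_mul_left _ (by nlinarith)
      calc N.index * ((k + 3) / 2).factorial ^ 2
          ≤ (k + 3) ^ 4 * k.factorial ^ 2 := Nat.mul_le_mul hi (Nat.pow_le_pow_left h1 2)
        _ = ((k + 3) * (k + 3) * k.factorial) ^ 2 := by ring
        _ ≤ ((k + 3) * ((k + 2) * (k + 1)) * k.factorial) ^ 2 :=
            Nat.pow_le_pow_left (Nat.mul_le_mul_right _ h2) 2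
        _ = (k + 3).factorial ^ 2 := by
            rw [Nat.factorial_succ, Nat.factorial_succ, Nat.factorial_succ]; ring
  by_cases hcen : commutator (G ⧸ N) ≤ Subgroup.center (G ⧸ N)
  · left
    obtain ⟨θ, hθ, hlift⟩ := isIrr_quotient_lift N hν hνN
    have hθd : Cfsg.charDegree θ = Cfsg.charDegree ν :=
      deg_eq_of_eq (irr_isCharacter hθ) (irr_isCharacter hν) (by
        rw [hlift, Function.comp_apply, map_one])
    have hfaith : ∀ q, θ q = θ 1 → q = 1 := fun q hq => by
      set K := BlockB.charKer (⟨θ, hθ⟩ : Cfsg.IrrCharacter (G ⧸ N)) with hK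
      have hKn : K.Normal := ⟨fun a ha g => by
        have := irr_isClassFunction hθ a g
        exact this.trans ha⟩
      by_contra hq1
      have hle := hmin K hKn fun h => hq1 (Subgroup.mem_bot.mp (h ▸ (show q ∈ K from hq)))
      obtain ⟨ψ, hψ, hψl⟩ := isIrr_quotient_lift (commutator (G ⧸ N)) hθ fun n hn => hle hn
      have hab' : ∀ a d : (G ⧸ N) ⧸ commutator (G ⧸ N), a * d = d * a :=
        (inferInstance : CommGroup (Abelianization (G ⧸ N))).mul_comm
      have h1 := irr_degree_one_of_comm hab' hψ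
      have h2 : (Cfsg.charDegree θ : ℂ) = 1 := by
        rw [deg_cast (irr_isCharacter hθ), hψl, Function.comp_apply, map_one, h1]
      have : Cfsg.charDegree θ = 1 := by exact_mod_cast h2
      omega
    refine ⟨(Subgroup.center (G ⧸ N)).comap (mk' N), ?_, ?_⟩
    · rw [Subgroup.index_comap_of_surjective _ (QuotientGroup.mk'_surjective N),
        center_index_eq hθ hfaith hcen, hθd]
      exact Nat.pow_le_pow_left (hb ν hν) 2
    · refine bdd_vanish hb _ hν hν2 (fun g hg => ?_) (fun g hg => ?_)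
      · rw [hlift, Function.comp_apply]
        exact eq_zero_off_center hθ hfaith hcen hg
      · rw [hlift, Function.comp_apply, ← hlift, ← hθd]
        exact Clifford.CentralTypeEmbed.norm_of_central hθ hg
  · by_cases hab : ∀ x ∈ commutator (G ⧸ N), ∀ y ∈ commutator (G ⧸ N), x * y = y * x
    · exact Or.inl (exists_sub_frob hb hb2 N hN hab hmin hcen)
    · -- the non-solvable case
      by_cases hi : N.index ≤ b ^ 4
      · right
        refine ⟨?_, hi⟩
        set V := commutator (G ⧸ N) with hV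
        have := Fintype.ofFinite V
        have : Nontrivial V := (Subgroup.nontrivial_iff_ne_bot V).mpr hQ
        refine five_le_of_perfect ?_ ((hb.quotient N).subgroup V)
        have hne : ⁅V, V⁆ ≠ ⊥ := fun h => hab fun x hx y hy =>
          commutatorElement_eq_one_iff_mul_comm.mp
            (Subgroup.mem_bot.mp (h ▸ Subgroup.commutator_mem_commutator hx hy))
        have heq : ⁅V, V⁆ = V :=
          le_antisymm (Subgroup.commutator_le_left V V) (hmin _ inferInstance hne)
        refine Subgroup.map_injective V.subtype_injective ?_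
        rw [commutator_def, Subgroup.map_commutator, ← MonoidHom.range_eq_map,
          Subgroup.range_subtype, heq]
      · left
        obtain ⟨x, hxN, hx⟩ := exists_small_class hb N (not_le.mp hi)
        refine ⟨_, hx, bdd_centralizer hb ?_⟩
        by_contra hcomm'
        push Not at hcomm'
        set A := Subgroup.normalClosure ({x} : Set G) with hA
        have hAab : ∀ a ∈ A, ∀ c ∈ A, a * c = c * a := by
          have h : IsMulCommutative A := by
            refine Subgroup.isMulCommutative_closure fun a ha c hc => ?_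
            rw [Group.conjugatesOfSet, Set.biUnion_singleton] at ha hc
            obtain ⟨g, rfl⟩ := isConj_iff.mp (ha)
            obtain ⟨h, rfl⟩ := isConj_iff.mp (hc)
            have e := hcomm' (g⁻¹ * h)
            calc g * x * g⁻¹ * (h * x * h⁻¹)
                = g * (x * (g⁻¹ * h * x * (g⁻¹ * h)⁻¹)) * g⁻¹ := by group
              _ = g * ((g⁻¹ * h * x * (g⁻¹ * h)⁻¹) * x) * g⁻¹ := by rw [e.eq]
              _ = h * x * h⁻¹ * (g * x * g⁻¹) := by group
          intro a ha c hc
          exact congrArg Subtype.val (h.is_comm.comm ⟨a, ha⟩ ⟨c, hc⟩)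
        have hAn : (A.map (mk' N)).Normal :=
          Subgroup.normalClosure_normal.map _ (QuotientGroup.mk'_surjective N)
        have hle := hmin _ hAn fun h => hxN (by
          rw [← QuotientGroup.eq_one_iff]
          exact Subgroup.mem_bot.mp (h ▸ Subgroup.mem_map_of_mem (mk' N)
            (Subgroup.subset_normalClosure rfl)))
        refine hab fun a ha c hc => ?_
        obtain ⟨a', ha', rfl⟩ := hle ha
        obtain ⟨c', hc', rfl⟩ := hle hc
        rw [← map_mul, ← map_mul, hAab a' ha' c' hc']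

end CfsgLib.Char.BDeg
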