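import Mathlib.Algebra.Group.Subgroup.Basic
import Mathlib.Data.Int.GCD
import Mathlib.RingTheory.Int.Basic
import Mathlib.Tactic

/-!
# Banaschewski's lemma on subrings of integer valued functions
-/

namespace CfsgLib.Char

theorem one_sub_prod_mem {A ι : Type*} [CommRing A] (R : AddSubgroup A)
    (hmul : ∀ f ∈ R, ∀ g ∈ R, f * g ∈ R) (s : Finset ι) (f : ι → A) (hf : ∀ i ∈ s, f i ∈ R) :
    1 - ∏ i ∈ s, (1 - f i) ∈ R := by
  classical
  induction s using Finset.induction with
  | empty => simp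
  | insert a t ha ih =>
    have h1 := hf a (Finset.mem_insert_self a t)
    have h2 := ih fun i hi => hf i (Finset.mem_insert_of_mem hi)
    rw [Finset.prod_insert ha]
    have e : 1 - (1 - f a) * ∏ i ∈ t, (1 - f i) =
        f a + (1 - ∏ i ∈ t, (1 - f i)) - f a * (1 - ∏ i ∈ t, (1 - f i)) := by ring
    rw [e]
    exact R.sub_mem (R.add_mem h1 h2) (hmul _ h1 _ h2)

theorem banaschewski {S : Type*} [Finite S] (R : AddSubgroup (S → ℤ))
    (hmul : ∀ f ∈ R, ∀ g ∈ R, f * g ∈ R) (h1 : (1 : S → ℤ) ∉ R) :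
    ∃ (x : S) (p : ℕ), p.Prime ∧ ∀ f ∈ R, (p : ℤ) ∣ f x := by
  classical
  by_contra hcon
  push Not at hcon
  have := Fintype.ofFinite S
  have hex : ∀ x : S, ∃ f ∈ R, f x = 1 := by
    intro x
    let I : AddSubgroup ℤ := R.map (Pi.evalAddMonoidHom (fun _ => ℤ) x)
    obtain ⟨d, hd⟩ := Int.subgroup_cyclic I
    have hdI : d ∈ I := by rw [hd]; exact AddSubgroup.mem_closure_singleton_self d
    have hunit : d.natAbs = 1 := by
      by_contra hne
      obtain ⟨p, hp, hpd⟩ := Nat.exists_prime_and_dvd hne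
      obtain ⟨f, hf, hpf⟩ := hcon x p hp
      have hmem : f x ∈ I := ⟨f, hf, rfl⟩
      rw [hd, AddSubgroup.mem_closure_singleton] at hmem
      obtain ⟨k, hk⟩ := hmem
      apply hpf
      rw [← hk, smul_eq_mul]
      exact Dvd.dvd.mul_left (Int.natCast_dvd.mpr hpd) k
    obtain ⟨f, hf, hfx⟩ := hdI
    rcases Int.natAbs_eq d with h | h <;> rw [hunit] at h
    · exact ⟨f, hf, by simpa [h] using hfx⟩
    · refine ⟨-f, R.neg_mem hf, ?_⟩
      have : f x = -1 := by simpa [h] using hfx
      simp [this]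
  choose f hf hfx using hex
  apply h1
  have := one_sub_prod_mem R hmul Finset.univ f fun i _ => hf i
  convert this using 1
  ext s
  simp only [Pi.one_apply, Pi.sub_apply, Finset.prod_apply]
  rw [Finset.prod_eq_zero (Finset.mem_univ s) (by simp [hfx s]), sub_zero]

end CfsgLib.Char
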