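import Cfsg.Agent.Lib.Char.CASimple
import Cfsg.Agent.Lib.Solvable.MinNormal
import Mathlib.GroupTheory.SchurZassenhaus

/-!
# Suzuki's theorem: CA-groups of odd order are solvable
-/

namespace CfsgLib.Char

open scoped ComplexConjugate Pointwise

universe u

variable {G : Type u} [Group G]

/-- Suzuki: a CA-group of odd order is solvable. -/
theorem isSolvable_of_ca_odd [Finite G] (hodd : Odd (Nat.card G))
    (hCA : ∀ x : G, x ≠ 1 → ∀ a ∈ Subgroup.centralizer ({x} : Set G),
      ∀ b ∈ Subgroup.centralizer ({x} : Set G), a * b = b * a) : Group.IsSolvable G := by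
  suffices ∀ (n : ℕ) (G : Type u) [Group G] [Finite G], Nat.card G = n → Odd (Nat.card G) →
      (∀ x : G, x ≠ 1 → ∀ a ∈ Subgroup.centralizer ({x} : Set G),
        ∀ b ∈ Subgroup.centralizer ({x} : Set G), a * b = b * a) → Group.IsSolvable G from
    this _ G rfl hodd hCA
  intro n
  induction n using Nat.strong_induction_on with
  | _ n ih =>
  intro G _ _ hn hodd hCA
  subst hn
  by_cases hcomm : ∀ a b : G, a * b = b * a
  · exact Group.isSolvable_of_comm hcomm
  have : Nontrivial G := by
    by_contra h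
    rw [not_nontrivial_iff_subsingleton] at h
    exact hcomm fun a b => Subsingleton.elim _ _
  have hsub : ∀ H : Subgroup G, H ≠ ⊤ → Group.IsSolvable H := fun H hH =>
    ih _ (Solvable.card_subgroup_lt hH) H rfl (hodd.of_dvd_nat H.card_subgroup_dvd_card)
      fun x hx a ha b hb => Subtype.ext (hCA (x : G) (fun h => hx (Subtype.ext h)) a
        (Subgroup.mem_centralizer_singleton_iff.mpr
          (congr_arg Subtype.val (Subgroup.mem_centralizer_singleton_iff.mp ha))) b
        (Subgroup.mem_centralizer_singleton_iff.mpr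
          (congr_arg Subtype.val (Subgroup.mem_centralizer_singleton_iff.mp hb))))
  by_cases hsimple : IsSimpleGroup G
  · have := Fintype.ofFinite G
    exact (not_ca_odd_simple hodd (fun h => hcomm h.is_comm.comm) hCA).elim
  obtain ⟨M, hM, hMne, hMmin⟩ := Solvable.exists_minimal_normal (G := G)
  have hMtop : M ≠ ⊤ := fun h => hsimple ⟨fun K hK => h ▸ hMmin K hK (h ▸ le_top)⟩
  have := hsub M hMtop
  have hMc := Solvable.isMulCommutative_of_minimal_normal hMne hMmin
  set C := Subgroup.centralizer (M : Set G) with hC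
  obtain ⟨x, hx, hx1⟩ := (Subgroup.bot_or_exists_ne_one M).resolve_left hMne
  have hMC : M ≤ C := fun y hy => Subgroup.mem_centralizer_iff.mpr fun z hz =>
    congr_arg Subtype.val (hMc.is_comm.comm ⟨z, hz⟩ ⟨y, hy⟩)
  have hCx : C = Subgroup.centralizer ({x} : Set G) := by
    refine le_antisymm (Subgroup.centralizer_le (by simpa using hx)) fun y hy => ?_
    refine Subgroup.mem_centralizer_iff.mpr fun z hz => ?_
    refine hCA x hx1 z ?_ y hy
    exact Subgroup.mem_centralizer_singleton_iff.mpr
      (congr_arg Subtype.val (hMc.is_comm.comm ⟨z, hz⟩ ⟨x, hx⟩))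
  have hCself : ∀ a ∈ C, a ≠ 1 → Subgroup.centralizer ({a} : Set G) = C := fun a ha ha1 => by
    rw [hCx] at ha ⊢
    exact ca_centralizer_eq hCA hx1 ha ha1
  have hCcomm : ∀ a ∈ C, ∀ b ∈ C, a * b = b * a := fun a ha b hb =>
    comm_of_selfCentral hCself ha hb
  have hCn : C.Normal := inferInstance
  by_cases hCtop : C = ⊤
  · exact absurd (fun a b => hCcomm a (hCtop ▸ Subgroup.mem_top a) b (hCtop ▸ Subgroup.mem_top b))
      hcomm
  have hcop : (Nat.card C).Coprime C.index := by
    refine Nat.coprime_of_dvd fun p hp hpC hpi => ?_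
    have : Fact p.Prime := ⟨hp⟩
    obtain ⟨P, hP⟩ := exists_sylow_le_of_selfCentral hCself hpC
    exact P.not_dvd_index (hpi.trans (Subgroup.index_dvd_of_le hP))
  obtain ⟨H, hH⟩ := Subgroup.exists_right_complement'_of_coprime hcop
  have hHtop : H ≠ ⊤ := fun h => hMne (le_bot_iff.mp (hMC.trans
    (le_of_eq (Subgroup.isComplement'_top_right.mp (h ▸ hH)))))
  have := hsub H hHtop
  have : Group.IsSolvable C :=
    Group.isSolvable_of_comm fun a b => Subtype.ext (hCcomm a a.2 b b.2)
  have e : H ≃* G ⧸ C := (Subgroup.IsComplement'.QuotientMulEquiv hH.symm).symm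
  have : Group.IsSolvable (G ⧸ C) :=
    Group.isSolvable_of_surjective (f := e.toMonoidHom) e.surjective
  exact Group.isSolvable_of_ker_le_range C.subtype (QuotientGroup.mk' C)
    (by rw [QuotientGroup.ker_mk', Subgroup.range_subtype])

end CfsgLib.Char
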