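import Cfsg.Agent.Lib.Char.TI
import Cfsg.Agent.Lib.Char.Misc
import Cfsg.Agent.Lib.Char.Fixed
import Cfsg.Agent.Lib.Clifford.Frobenius

/-!
# Exceptional characters of a self-centralizing abelian TI subgroup (odd order)
-/

namespace CfsgLib.Char

open scoped ComplexConjugate

universe u

variable {G : Type u} [Group G] [Fintype G]

open scoped Classical in
/-- The non-identity elements of a subgroup, as a finset of the group. -/
noncomputable def nonId (A : Subgroup G) : Finset G :=
  Finset.univ.filter fun x => x ∈ A ∧ x ≠ 1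

theorem mem_nonId {A : Subgroup G} {x : G} : x ∈ nonId A ↔ x ∈ A ∧ x ≠ 1 := by
  classical
  simp [nonId]

theorem sum_subgroup_eq {M : Type*} [AddCommMonoid M] (A : Subgroup G) [Fintype A] (f : G → M) :
    ∑ a : A, f a = f 1 + ∑ x ∈ nonId A, f x := by
  classical
  rw [← Finset.add_sum_erase (Finset.univ : Finset A) (fun a : A => f a) (Finset.mem_univ 1)]
  congr 1
  refine Finset.sum_bij (fun a _ => (a : G)) (fun a ha => ?_) (fun a _ b _ h => Subtype.ext h)
    (fun x hx => ⟨⟨x, (mem_nonId.mp hx).1⟩, ?_, rfl⟩) (fun a _ => rfl)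
  · exact mem_nonId.mpr ⟨a.2, fun h => (Finset.mem_erase.mp ha).1 (Subtype.ext h)⟩
  · exact Finset.mem_erase.mpr
      ⟨fun h => (mem_nonId.mp hx).2 (congr_arg Subtype.val h), Finset.mem_univ _⟩

theorem card_nonId (A : Subgroup G) : (nonId A).card + 1 = Nat.card A := by
  classical
  have := Fintype.ofFinite A
  have h := sum_subgroup_eq A (fun _ : G => 1)
  simp only [Finset.sum_const, Finset.card_univ, smul_eq_mul, mul_one] at h
  rw [Nat.card_eq_fintype_card, h, add_comm]

/-- A family of exceptional characters attached to `A`. -/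
structure ExFamily (A : Subgroup G) (e w : ℕ) (θ : Fin w → G → ℂ) : Prop where
  two_le : 2 ≤ w
  even : Even w
  card_eq : w * e + 1 = Nat.card A
  irr : ∀ j, Cfsg.IsIrrCharacter G (θ j)
  inj : Function.Injective θ
  diff_off : ∀ j k (g : G), (∀ x : G, x⁻¹ * g * x ∈ A → x⁻¹ * g * x = 1) → θ j g = θ k g
  const : ∀ φ : G → ℂ, Cfsg.IsIrrCharacter G φ → (∀ j, φ ≠ θ j) →
    ∃ c : ℤ, ∀ a ∈ nonId A, φ a = c
  nonconst : ∀ j, ¬ ∃ c : ℤ, ∀ a ∈ nonId A, θ j a = c
  sumsq : ∀ j, (e : ℝ) * ((Nat.card A : ℝ) - e) ≤ ∑ a ∈ nonId A, Complex.normSq (θ j a)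
  total : ∃ k : ℤ, Odd k ∧ ∀ a ∈ nonId A, ∑ j, θ j a = (k : ℂ)

theorem exists_exFamily (A : Subgroup G)
    (hA : ∀ x ∈ A, x ≠ 1 → Subgroup.centralizer ({x} : Set G) = A)
    (hodd : Odd (Nat.card G)) (hA1 : 1 < Nat.card A)
    (hne : ¬ Subgroup.normalizer (A : Set G) ≤ A) :
    ∃ (e w : ℕ) (θ : Fin w → G → ℂ), 3 ≤ e ∧
      Nat.card (Subgroup.normalizer (A : Set G)) = e * Nat.card A ∧ ExFamily A e w θ := by
  classical
  set N := Subgroup.normalizer (A : Set G) with hN
  set A' := A.subgroupOf N with hA'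
  have hAN : A ≤ N := Subgroup.le_normalizer
  have hA'n : A'.Normal := ⟨fun a ha n => by
    rw [hA', Subgroup.mem_subgroupOf] at ha ⊢
    simpa using (Subgroup.mem_normalizer_iff.mp n.2 (a : G)).mp ha⟩
  have := Fintype.ofFinite N
  have := Fintype.ofFinite A'
  have := Fintype.ofFinite (Cfsg.IrrCharacter A')
  have := Fintype.ofFinite (Cfsg.IrrCharacter G)
  have hcA' : Nat.card A' = Nat.card A := Nat.card_congr (Subgroup.subgroupOfEquivOfLe hAN).toEquiv
  set m := Nat.card A with hm
  set e := A'.index with he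
  have hcN : Nat.card N = e * m := by rw [he, ← hcA', Subgroup.index_mul_card]
  have hoddm : Odd m := hodd.of_dvd_nat A.card_subgroup_dvd_card
  have hodde : Odd e :=
    hodd.of_dvd_nat ((Dvd.intro m hcN.symm).trans N.card_subgroup_dvd_card)
  have he3 : 3 ≤ e := by
    have h1 : e ≠ 1 := fun h => hne (Subgroup.subgroupOf_eq_top.mp (Subgroup.index_eq_one.mp h))
    obtain ⟨k, hk⟩ := hodde
    omega
  obtain ⟨w, hw⟩ : e ∣ m - 1 := normalizer_index_dvd A hA
  have hwe : w * e + 1 = m := by rw [mul_comm]; omega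
  have hweven : Even w := by
    have h2 : Odd (w * e + 1) := hwe ▸ hoddm
    rw [Nat.odd_add_one, Nat.not_odd_iff_even, Nat.even_mul] at h2
    exact h2.resolve_right (Nat.not_even_iff_odd.mpr hodde)
  have hw0 : w ≠ 0 := by rintro rfl; omega
  have hw2 : 2 ≤ w := by obtain ⟨k, hk⟩ := hweven; omega
  -- the induced characters of `N`
  have hAcomm : ∀ a b : A', a * b = b * a := fun a b => Subtype.ext (Subtype.ext (by
    show ((a : N) : G) * ((b : N) : G) = ((b : N) : G) * ((a : N) : G)
    have ha : ((a : N) : G) ∈ A := Subgroup.mem_subgroupOf.mp a.2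
    have hb : ((b : N) : G) ∈ A := Subgroup.mem_subgroupOf.mp b.2
    by_cases h1 : ((a : N) : G) = 1
    · rw [h1, one_mul, mul_one]
    · rw [← hA _ ha h1, Subgroup.mem_centralizer_singleton_iff] at hb
      exact hb.symm))
  have hlin : ∀ l : Cfsg.IrrCharacter A', (l : A' → ℂ) 1 = 1 := fun l =>
    irr_degree_one_of_comm hAcomm l.2
  have hC : ∀ n ∈ A', n ≠ 1 → Subgroup.centralizer ({n} : Set N) ≤ A' := fun n hn hn1 x hx => by
    rw [hA', Subgroup.mem_subgroupOf] at hn ⊢
    rw [← hA _ hn (fun h => hn1 (Subtype.ext h)), Subgroup.mem_centralizer_singleton_iff]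
    exact congr_arg Subtype.val (Subgroup.mem_centralizer_singleton_iff.mp hx)
  set one' : Cfsg.IrrCharacter A' := ⟨fun _ => 1, isIrrCharacter_one⟩ with hone'
  set L := (Finset.univ : Finset (Cfsg.IrrCharacter A')).erase one' with hL
  set X := L.image fun l : Cfsg.IrrCharacter A' => Cfsg.indFun A' (l : A' → ℂ) with hX
  have hirr : ∀ χ ∈ X, Cfsg.IsIrrCharacter N χ := fun χ hχ => by
    obtain ⟨l, hl, rfl⟩ := Finset.mem_image.mp hχ
    exact Clifford.isIrrCharacter_indFun_of_centralizer_le hC l.2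
      fun h => (Finset.mem_erase.mp hl).1 (Subtype.ext h)
  have hone : ∀ χ ∈ X, χ 1 = (e : ℂ) := fun χ hχ => by
    obtain ⟨l, -, rfl⟩ := Finset.mem_image.mp hχ
    rw [indFun_apply_one, hlin, mul_one]
  have hvan : ∀ χ ∈ X, ∀ x : N, (x : G) ∉ A → χ x = 0 := fun χ hχ x hx => by
    obtain ⟨l, -, rfl⟩ := Finset.mem_image.mp hχ
    rw [indFun_def, Finset.sum_eq_zero, mul_zero]
    intro y _
    refine extendByZero_of_not_mem _ fun h => hx ?_
    have h2 := hA'n.conj_mem _ h y
    rw [show y * (y⁻¹ * x * y) * y⁻¹ = x by group] at h2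
    exact h2
  -- restriction to `A'`
  have hres : ∀ χ ∈ X, ∀ a : A',
      χ a = ∑ l ∈ L.filter (fun l : Cfsg.IrrCharacter A' => Cfsg.indFun A' (l : A' → ℂ) = χ), (l : A' → ℂ) a := by
    intro χ hχ a
    have hcl : Cfsg.IsClassFunction A' fun b : A' => χ b :=
      isCharacter_isClassFunction (isCharacter_restrict (irr_isCharacter (hirr χ hχ)) A')
    rw [classFunction_apply_eq_sum hcl a, Finset.sum_filter, hL,
      ← Finset.add_sum_erase _ _ (Finset.mem_univ one')]
    have hcoef : ∀ l : Cfsg.IrrCharacter A', Cfsg.classInner (fun b : A' => χ b) l =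
        conj (Cfsg.classInner (Cfsg.indFun A' (l : A' → ℂ)) χ) := fun l => by
      rw [frobenius_reciprocity A' _ χ (irr_isClassFunction (hirr χ hχ)), classInner_conj_symm]
    have h1 : Cfsg.classInner (fun b : A' => χ b) one' = 0 := by
      obtain ⟨l₀, hl₀, rfl⟩ := Finset.mem_image.mp hχ
      rw [hcoef, ← classInner_conj_symm, frobenius_reciprocity A' _ _ (indFun_isClassFunction _ _)]
      have : (fun b : A' => Cfsg.indFun A' (one' : A' → ℂ) b) = (e : ℂ) • (one' : A' → ℂ) := by
        funext b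
        rw [indFun_def, Finset.sum_congr rfl fun y _ => extendByZero_of_mem (one' : A' → ℂ)
          (g := y⁻¹ * (b : N) * y) (by simpa using hA'n.conj_mem _ b.2 y⁻¹)]
        simp only [hone', Finset.sum_const, Finset.card_univ, nsmul_eq_mul, mul_one, Pi.smul_apply,
          smul_eq_mul, ← Nat.card_eq_fintype_card, hcN, ← hcA']
        have := natCard_ne_zero (G := A')
        push_cast
        field_simp
        exact mul_one (e : ℂ)
      rw [this, classInner_smul_right, irr_classInner_ne l₀.2 one'.2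
        (fun h => (Finset.mem_erase.mp hl₀).1 (Subtype.ext h)), mul_zero]
      simp
    rw [h1, zero_mul, zero_add]
    refine Finset.sum_congr rfl fun l hl => ?_
    rw [hcoef, irr_classInner (hirr _ (Finset.mem_image_of_mem _ hl)) (hirr χ hχ)]
    split_ifs <;> simp
  have htot : ∀ a : A', ∑ χ ∈ X, χ a = ∑ l ∈ L, (l : A' → ℂ) a := fun a => by
    rw [Finset.sum_congr rfl fun χ hχ => hres χ hχ a, hX]
    exact Finset.sum_fiberwise_of_maps_to (fun l hl => Finset.mem_image_of_mem _ hl) _
  have hregA : ∀ a : A', ∑ l ∈ L, (l : A' → ℂ) a = (if a = 1 then (m : ℂ) else 0) - 1 := by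
    intro a
    have h := sum_irr_mul_degree a
    simp only [hlin, one_mul, hcA', ← Finset.add_sum_erase _ _ (Finset.mem_univ one')] at h
    exact eq_sub_of_add_eq' h
  have hXcard : X.card = w := by
    have h := htot 1
    rw [hregA, if_pos rfl, Finset.sum_congr rfl fun χ hχ =>
      (show χ ((1 : A') : N) = (e : ℂ) from hone χ hχ), Finset.sum_const, nsmul_eq_mul] at h
    have h2 : ((X.card * e : ℕ) : ℂ) = ((w * e : ℕ) : ℂ) := by
      rw [← hwe] at h; push_cast at h ⊢; linear_combination h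
    exact Nat.eq_of_mul_eq_mul_right (by omega) (Nat.cast_injective h2)
  let en : Fin w ≃ X := (finCongr hXcard).symm.trans X.equivFin.symm
  let χ : Fin w → N → ℂ := fun j => (en j : N → ℂ)
  have hmem : ∀ j, χ j ∈ X := fun j => (en j).2
  have hinj : Function.Injective χ := Subtype.val_injective.comp en.injective
  have hsurj : ∀ φ ∈ X, ∃ j, χ j = φ := fun φ hφ =>
    ⟨en.symm ⟨φ, hφ⟩, by simp [χ]⟩
  have hTI : ∀ g : G, g ∉ Subgroup.normalizer (A : Set G) →
      ∀ s ∈ (A : Set G), g * s * g⁻¹ ∈ (A : Set G) → s = 1 :=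
    fun g hg s hs h => ti_of_centralizer_eq A hA g hg s hs h
  obtain ⟨ε, hε, θ, hθ, hθinj, hθe⟩ := exceptional_characters (A : Set G) hTI w hw2 χ
    (fun j => hirr _ (hmem j)) hinj (fun j x hx => hvan _ (hmem j) x hx)
    (fun i j => by rw [hone _ (hmem i), hone _ (hmem j)])
  obtain ⟨εz, hεz, hεz1⟩ : ∃ z : ℤ, (z : ℂ) = ε ∧ (z = 1 ∨ z = -1) := by
    rcases hε with h | h
    · exact ⟨1, by simp [h], Or.inl rfl⟩
    · exact ⟨-1, by simp [h], Or.inr rfl⟩
  -- coefficients of an irreducible character on `A`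
  have hcoefG : ∀ φ : G → ℂ, Cfsg.IsIrrCharacter G φ → ∃ b : Fin w → ℂ,
      (∀ j, ∃ z : ℤ, b j = z) ∧
      (∀ i j, b i - b j = ε * ((if θ i = φ then 1 else 0) - (if θ j = φ then 1 else 0))) ∧
      ∃ a0 : ℤ, ∀ x : A', φ ((x : N) : G) = (a0 : ℂ) + ∑ j, b j * χ j x := by
    intro φ hφ
    have hφN := isCharacter_restrict (irr_isCharacter hφ) N
    refine ⟨fun j => Cfsg.classInner (χ j) (fun n : N => φ n), fun j => ?_, fun i j => ?_, ?_⟩
    · exact classInner_isGeneralized_int (isGeneralized_of_isCharacter (irr_isCharacter (hirr _ (hmem j))))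
        (isGeneralized_of_isCharacter hφN)
    · have h := congr_arg (fun f => Cfsg.classInner f φ) (hθe i j)
      simp only [classInner_sub_left, classInner_smul_left] at h
      rw [frobenius_reciprocity N _ φ (irr_isClassFunction hφ),
        frobenius_reciprocity N _ φ (irr_isClassFunction hφ), irr_classInner (hθ i) hφ,
        irr_classInner (hθ j) hφ] at h
      exact h
    · have hres' := isCharacter_restrict hφN A'
      obtain ⟨a0, ha0⟩ := classInner_isCharacter_nat hres' (isCharacter_one (G := A'))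
      refine ⟨a0, fun x => ?_⟩
      have hexp := classFunction_apply_eq_sum (isCharacter_isClassFunction hres') x
      rw [hexp, ← Finset.add_sum_erase _ _ (Finset.mem_univ one'), ← hL]
      simp only [hone', mul_one]
      rw [ha0, Int.cast_natCast]
      congr 1
      have hterm : ∀ j, Cfsg.classInner (χ j) (fun n : N => φ n) * χ j x =
          ∑ l ∈ L.filter (fun l : Cfsg.IrrCharacter A' => Cfsg.indFun A' (l : A' → ℂ) = χ j),
            Cfsg.classInner (fun y : A' => φ ((y : N) : G)) l * (l : A' → ℂ) x := fun j => by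
        rw [hres _ (hmem j), Finset.mul_sum]
        refine Finset.sum_congr rfl fun l hl => ?_
        congr 1
        obtain ⟨k, hk⟩ := classInner_isCharacter_nat hres' (irr_isCharacter l.2)
        rw [hk, ← (Finset.mem_filter.mp hl).2, frobenius_reciprocity A' _ _
          (isCharacter_isClassFunction hφN), ← classInner_conj_symm, hk, map_natCast]
      simp only [hterm]
      symm
      exact (Finset.sum_bij' (fun j _ => χ j) (fun φ' h => en.symm ⟨φ', h⟩)
        (fun j _ => hmem j) (fun φ' _ => Finset.mem_univ _) (fun j _ => by simp [χ])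
        (fun φ' h => by simp [χ]) (fun j _ => rfl)).trans
        (Finset.sum_fiberwise_of_maps_to (fun l hl => Finset.mem_image_of_mem _ hl) _)
  have htot1 : ∀ x : A', x ≠ 1 → ∑ j, χ j x = -1 := fun x hx => by
    have h : ∑ j, χ j x = ∑ φ ∈ X, φ x := by
      rw [← Finset.sum_coe_sort X]
      exact Equiv.sum_comp en (fun φ : X => (φ : N → ℂ) x)
    rw [h, htot, hregA, if_neg hx, zero_sub]
  have hlift : ∀ a ∈ nonId A, ∃ x : A', ((x : N) : G) = a ∧ x ≠ 1 := fun a ha => by
    obtain ⟨haA, ha1⟩ := mem_nonId.mp ha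
    exact ⟨⟨⟨a, hAN haA⟩, Subgroup.mem_subgroupOf.mpr haA⟩, rfl,
      fun h => ha1 (congr_arg (fun y : A' => ((y : N) : G)) h)⟩
  -- values of the exceptional characters on `A`
  have hval : ∀ j, ∃ c : ℤ, ∀ x : A', x ≠ 1 → θ j ((x : N) : G) = ε * χ j x + c := by
    intro j
    obtain ⟨b, hb, hbd, a0, hb0⟩ := hcoefG (θ j) (hθ j)
    obtain ⟨z, hz⟩ := hb j
    refine ⟨a0 - z + εz, fun x hx => ?_⟩
    have hbi : ∀ i, b i = (z : ℂ) - ε + ε * (if i = j then 1 else 0) := fun i => by
      have h := hbd i j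
      rw [if_pos rfl, hz] at h
      simp only [hθinj.eq_iff] at h
      linear_combination h
    simp only [hb0, hbi, add_mul, mul_assoc, Finset.sum_add_distrib, ← Finset.mul_sum, ite_mul,
      one_mul, zero_mul, Finset.sum_ite_eq', Finset.mem_univ, if_true, htot1 x hx]
    push_cast
    rw [hεz]
    ring
  choose c hc using hval
  have hccomm : ∀ i j, c i = c j := fun i j => by
    obtain ⟨a, haA, ha1⟩ : ∃ a ∈ A, a ≠ 1 := by
      have : Nontrivial A := Finite.one_lt_card_iff_nontrivial.mp hA1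
      obtain ⟨y, hy⟩ := exists_ne (1 : A)
      exact ⟨y, y.2, fun h => hy (Subtype.ext h)⟩
    obtain ⟨x, hxa, hx1⟩ := hlift a (mem_nonId.mpr ⟨haA, ha1⟩)
    have h := congr_fun (hθe i j) a
    have hgen : Cfsg.IsClassFunction N (χ i - χ j) := isGeneralized_isClassFunction
      (isGeneralized_sub (isGeneralized_of_isCharacter (irr_isCharacter (hirr _ (hmem i))))
        (isGeneralized_of_isCharacter (irr_isCharacter (hirr _ (hmem j)))))
    have hx1' : (x : N) ≠ 1 := fun h => hx1 (Subtype.ext h)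
    rw [← indFun_sub] at h
    have hti := indFun_ti_apply (A : Set G) hTI (χ i - χ j) hgen
      (fun y hy => by simp [hvan _ (hmem i) y hy, hvan _ (hmem j) y hy]) (x : N)
      (by rw [hxa]; exact haA) hx1'
    rw [hxa] at hti
    rw [hti, ← hxa, Pi.smul_apply, Pi.sub_apply, Pi.sub_apply, hc i x hx1, hc j x hx1,
      smul_eq_mul] at h
    have hεsq : ε * ε = 1 := by rcases hε with h' | h' <;> simp [h']
    have h2 : ε * ((c i : ℂ) - c j) = 0 := by
      linear_combination -h - (χ i x - χ j x) * hεsq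
    rcases mul_eq_zero.mp h2 with h3 | h3
    · rw [h3, mul_zero] at hεsq; exact absurd hεsq zero_ne_one
    · exact_mod_cast sub_eq_zero.mp h3
  -- sums over the non-identity elements of `A`
  have hsum0 : ∀ f : N → ℂ, ∑ x : A', f x =
      f 1 + ∑ x ∈ (Finset.univ : Finset A').erase 1, f x := fun f =>
    (Finset.add_sum_erase _ _ (Finset.mem_univ (1 : A'))).symm
  have hsumχ : ∀ j, ∑ x ∈ (Finset.univ : Finset A').erase 1, χ j x = -(e : ℂ) := fun j => by
    have h1 : ∑ x : A', χ j x = 0 := by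
      rw [Finset.sum_congr rfl fun x _ => hres _ (hmem j) x, Finset.sum_comm]
      refine Finset.sum_eq_zero fun l hl => ?_
      have h := irr_classInner_ne l.2 one'.2 (fun h => (Finset.mem_erase.mp
        (Finset.mem_filter.mp hl).1).1 (Subtype.ext h))
      rw [classInner_def] at h
      simpa [hone'] using h
    rw [hsum0, hone _ (hmem j)] at h1
    linear_combination h1
  have hsqχ : ∀ j, ∑ x ∈ (Finset.univ : Finset A').erase 1, χ j x * conj (χ j x) =
      (e : ℂ) * m - (e : ℂ) * e := fun j => by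
    have h1 := irr_classInner_self (hirr _ (hmem j))
    rw [classInner_def, inv_mul_eq_iff_eq_mul₀ natCard_ne_zero, mul_one, hcN] at h1
    have h2 : ∑ y : N, χ j y * conj (χ j y) = ∑ x : A', χ j x * conj (χ j x) := by
      rw [← Finset.sum_filter_of_ne (p := fun y : N => y ∈ A') (fun y _ hne' => by
        by_contra hy
        exact hne' (by rw [hvan _ (hmem j) y (fun h => hy (Subgroup.mem_subgroupOf.mpr h)),
          zero_mul]))]
      exact Finset.sum_subtype _ (fun y => by simp) _
    rw [h2, hsum0 (fun y => χ j y * conj (χ j y)), hone _ (hmem j)] at h1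
    simp only [map_natCast] at h1
    push_cast at h1
    linear_combination h1
  have htrans : ∀ f : G → ℂ, ∑ a ∈ nonId A, f a =
      ∑ x ∈ (Finset.univ : Finset A').erase 1, f ((x : N) : G) := fun f => by
    refine (Finset.sum_bij (fun (x : A') _ => ((x : N) : G)) (fun x hx => ?_)
      (fun x _ y _ h => Subtype.ext (Subtype.ext h)) (fun a ha => ?_) fun x _ => rfl).symm
    · exact mem_nonId.mpr ⟨Subgroup.mem_subgroupOf.mp x.2,
        fun h => (Finset.mem_erase.mp hx).1 (Subtype.ext (Subtype.ext h))⟩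
    · obtain ⟨x, hxa, hx1⟩ := hlift a ha
      exact ⟨x, Finset.mem_erase.mpr ⟨hx1, Finset.mem_univ _⟩, hxa⟩
  have hcardE : ((Finset.univ : Finset A').erase 1).card = w * e := by
    rw [Finset.card_erase_of_mem (Finset.mem_univ _), Finset.card_univ, ← Nat.card_eq_fintype_card,
      hcA']
    omega
  refine ⟨e, w, θ, he3, hcN, hw2, hweven, hwe, hθ, hθinj, ?_, ?_, ?_, ?_, ?_⟩
  · intro j k g hg
    have h := congr_fun (hθe j k) g
    rw [← indFun_sub, indFun_def, Finset.sum_eq_zero, mul_zero] at h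
    · have hε0 : ε ≠ 0 := by rcases hε with h' | h' <;> simp [h']
      simp only [Pi.smul_apply, Pi.sub_apply, smul_eq_mul] at h
      exact sub_eq_zero.mp ((mul_eq_zero.mp h.symm).resolve_left hε0)
    · intro y _
      by_cases hy : y⁻¹ * g * y ∈ N
      · rw [extendByZero_of_mem _ hy, Pi.sub_apply]
        by_cases hyA : y⁻¹ * g * y ∈ A
        · have h1 : (⟨y⁻¹ * g * y, hy⟩ : N) = 1 := Subtype.ext (hg y hyA)
          rw [h1, hone _ (hmem j), hone _ (hmem k), sub_self]
        · rw [hvan _ (hmem j) _ hyA, hvan _ (hmem k) _ hyA, sub_self]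
      · exact extendByZero_of_not_mem _ hy
  · intro φ hφ hne'
    obtain ⟨b, hb, hbd, a0, hb0⟩ := hcoefG φ hφ
    let j0 : Fin w := ⟨0, by omega⟩
    obtain ⟨z, hz⟩ := hb j0
    refine ⟨a0 - z, fun a ha => ?_⟩
    obtain ⟨x, hxa, hx1⟩ := hlift a ha
    have hbi : ∀ i, b i = (z : ℂ) := fun i => by
      have h := hbd i j0
      rw [if_neg (fun h => hne' i h.symm), if_neg (fun h => hne' j0 h.symm), hz, sub_self,
        mul_zero] at h
      exact sub_eq_zero.mp h
    rw [← hxa, hb0]
    simp only [hbi, ← Finset.mul_sum, htot1 x hx1]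
    push_cast
    ring
  · rintro j ⟨k, hk⟩
    have hχk : ∀ x ∈ (Finset.univ : Finset A').erase 1, χ j x = (((k - c j) * εz : ℤ) : ℂ) := by
      intro x hx
      have hx1 := (Finset.mem_erase.mp hx).1
      have h1 := hk _ (mem_nonId.mpr ⟨Subgroup.mem_subgroupOf.mp x.2,
        fun h => hx1 (Subtype.ext (Subtype.ext h))⟩)
      rw [hc j x hx1] at h1
      have hεsq : ε * ε = 1 := by rcases hε with h' | h' <;> simp [h']
      push_cast
      rw [hεz]
      linear_combination ε * h1 - χ j x * hεsq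
    have h := hsumχ j
    rw [Finset.sum_congr rfl hχk, Finset.sum_const, hcardE, nsmul_eq_mul] at h
    have h2 : ((w * e : ℕ) : ℤ) * ((k - c j) * εz) = -(e : ℤ) := by exact_mod_cast h
    push_cast at h2
    have h3 : (w : ℤ) * ((k - c j) * εz) = -1 :=
      mul_left_cancel₀ (a := (e : ℤ)) (by exact_mod_cast (by omega : e ≠ 0))
        (by linear_combination h2)
    have h4 : (w : ℤ) ∣ 1 := ⟨-((k - c j) * εz), by linear_combination h3⟩
    have := Int.le_of_dvd one_pos h4
    omega
  · intro j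
    have h : ((∑ a ∈ nonId A, Complex.normSq (θ j a) : ℝ) : ℂ) =
        (((e : ℝ) * ((m : ℝ) - e) + e * ((w : ℝ) * (c j : ℝ) ^ 2 - 2 * (εz : ℝ) * c j) : ℝ) : ℂ) := by
      push_cast
      simp only [← Complex.mul_conj, hεz]
      rw [htrans fun a => θ j a * conj (θ j a)]
      have he2 : conj ε = ε := by rw [← hεz, map_intCast (starRingEnd ℂ)]
      have hεsq : ε * ε = 1 := by rcases hε with h' | h' <;> simp [h']
      have hstep : ∀ x ∈ (Finset.univ : Finset A').erase 1,
          θ j ((x : N) : G) * conj (θ j ((x : N) : G)) = χ j x * conj (χ j x) +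
            (c j : ℂ) * ε * χ j x + (c j : ℂ) * ε * conj (χ j x) + (c j : ℂ) * c j := by
        intro x hx
        rw [hc j x (Finset.mem_erase.mp hx).1, map_add, map_mul, he2,
          map_intCast (starRingEnd ℂ)]
        linear_combination χ j x * conj (χ j x) * hεsq
      rw [Finset.sum_congr rfl hstep]
      simp only [Finset.sum_add_distrib, ← Finset.mul_sum, ← map_sum, hsqχ j, hsumχ j, map_neg,
        map_natCast, Finset.sum_const, hcardE, nsmul_eq_mul]
      push_cast
      ring
    rw [Complex.ofReal_inj.mp h]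
    refine le_add_of_nonneg_right (mul_nonneg (Nat.cast_nonneg e) ?_)
    have hz : (0 : ℤ) ≤ (w : ℤ) * c j ^ 2 - 2 * εz * c j := by
      have hw' : (2 : ℤ) ≤ w := by exact_mod_cast hw2
      rcases eq_or_ne (c j) 0 with h0 | h0
      · simp [h0]
      rcases lt_or_gt_of_ne h0 with h1 | h1 <;> rcases hεz1 with h' | h' <;> rw [h'] <;>
        nlinarith
    exact_mod_cast hz
  · let j0 : Fin w := ⟨0, by omega⟩
    refine ⟨-εz + w * c j0, ?_, fun a ha => ?_⟩
    · obtain ⟨k, hk⟩ := hweven
      have hk' : (w : ℤ) = k + k := by exact_mod_cast hk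
      rcases hεz1 with h | h <;> rw [h, hk'] <;> [exact ⟨k * c j0 - 1, by ring⟩;
        exact ⟨k * c j0, by ring⟩]
    · obtain ⟨x, hxa, hx1⟩ := hlift a ha
      rw [← hxa, Finset.sum_congr rfl fun j _ => (hc j x hx1).trans (by rw [hccomm j j0]),
        Finset.sum_add_distrib, ← Finset.mul_sum, htot1 x hx1, Finset.sum_const, Finset.card_univ,
        Fintype.card_fin, nsmul_eq_mul]
      push_cast
      rw [hεz]
      ring

end CfsgLib.Char
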