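import Cfsg.Agent.Lib.Char.CABasic

/-!
# No nonabelian simple CA-group of odd order
-/

namespace CfsgLib.Char

open scoped ComplexConjugate Pointwise

universe u

variable {G : Type u} [Group G]

variable [Fintype G]

theorem not_ca_odd_simple [IsSimpleGroup G] (hodd : Odd (Nat.card G))
    (hG : ¬ IsMulCommutative G)
    (hCA : ∀ x : G, x ≠ 1 → ∀ a ∈ Subgroup.centralizer ({x} : Set G),
      ∀ b ∈ Subgroup.centralizer ({x} : Set G), a * b = b * a) : False := by
  classical
  have := Fintype.ofFinite (Cfsg.IrrCharacter G)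
  set Max : Finset (Subgroup G) := (Finset.univ.filter fun x : G => x ≠ 1).image
    fun x => Subgroup.centralizer ({x} : Set G) with hMaxdef
  have hMax : ∀ {B}, B ∈ Max ↔ ∃ x : G, x ≠ 1 ∧ Subgroup.centralizer ({x} : Set G) = B := by
    intro B; simp [Max]
  have hself : ∀ B ∈ Max, ∀ x ∈ B, x ≠ 1 → Subgroup.centralizer ({x} : Set G) = B := by
    intro B hB x hx hx1
    obtain ⟨y, hy, rfl⟩ := hMax.mp hB
    exact ca_centralizer_eq hCA hy hx hx1
  have hone : ∀ B ∈ Max, 1 < Nat.card B := by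
    intro B hB
    obtain ⟨y, hy, rfl⟩ := hMax.mp hB
    rw [Finite.one_lt_card_iff_nontrivial, Subgroup.nontrivial_iff_exists_ne_one]
    exact ⟨y, Subgroup.mem_centralizer_singleton_iff.mpr rfl, hy⟩
  have hfam : ∀ B ∈ Max, ∃ (e w : ℕ) (θ : Fin w → G → ℂ), 3 ≤ e ∧
      Nat.card (Subgroup.normalizer (B : Set G)) = e * Nat.card B ∧ ExFamily B e w θ :=
    fun B hB => exists_exFamily B (hself B hB) hodd (hone B hB)
      (not_normalizer_le_selfCentral hG (hself B hB) (hone B hB))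
  let ee : Subgroup G → ℕ :=
    fun B => Nat.card (Subgroup.normalizer (B : Set G)) / Nat.card B
  have heeq : ∀ B ∈ Max, ∀ e : ℕ,
      Nat.card (Subgroup.normalizer (B : Set G)) = e * Nat.card B → ee B = e := fun B hB e he => by
    simp only [ee, he]
    exact Nat.mul_div_cancel _ (by have := hone B hB; omega)
  have hG1 : ∃ x : G, x ≠ 1 := exists_ne 1
  obtain ⟨A, hA, hAmin⟩ := Finset.exists_min_image Max ee
    (hG1.elim fun x hx => ⟨_, hMax.mpr ⟨x, hx, rfl⟩⟩)
  obtain ⟨e, w, θ, he3, hNA, hθ⟩ := hfam A hA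
  have heA : ee A = e := heeq A hA e hNA
  set m := Nat.card A with hm
  have hwe : w * e + 1 = m := hθ.card_eq
  have hw2 := hθ.two_le
  let j0 : Fin w := ⟨0, by omega⟩
  have hnonId : ∀ B ∈ Max, ∃ a, a ∈ nonId B := fun B hB => by
    obtain ⟨y, hy, rfl⟩ := hMax.mp hB
    exact ⟨y, mem_nonId.mpr ⟨Subgroup.mem_centralizer_singleton_iff.mpr rfl, hy⟩⟩
  have hownC : ∀ B ∈ Max, ∀ b ∈ nonId B, Subgroup.centralizer ({b} : Set G) = B :=
    fun B hB b hb => hself B hB b (mem_nonId.mp hb).1 (mem_nonId.mp hb).2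
  -- nonconjugate members share no class
  have hnoconj : ∀ B ∈ Max, ∀ C ∈ Max, C ∉ conjOrbit B → ∀ g x : G, x⁻¹ * g * x ∈ nonId B →
      ∀ y : G, y⁻¹ * g * y ∉ nonId C := by
    intro B hB C hC hne g x hx y hy
    refine hne (mem_conjOrbit.mpr ⟨y⁻¹ * x, ?_⟩)
    rw [← hownC B hB _ hx, conj_smul_eq_centralizer, ← hownC C hC _ hy]
    congr 2
    group
  have hsymm : ∀ B C : Subgroup G, C ∈ conjOrbit B → B ∈ conjOrbit C := fun B C h => by
    obtain ⟨g, hg⟩ := mem_conjOrbit.mp h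
    exact mem_conjOrbit.mpr ⟨g⁻¹, Solvable.conj_inv_smul_of_eq hg⟩
  have hoff : ∀ B ∈ Max, ∀ C ∈ Max, C ∉ conjOrbit B → ∀ c ∈ nonId C, ∀ x : G,
      x⁻¹ * c * x ∈ B → x⁻¹ * c * x = 1 := by
    intro B hB C hC hne c hc x hx
    by_contra h1
    exact hnoconj B hB C hC hne c x (mem_nonId.mpr ⟨hx, h1⟩) 1 (by simpa using hc)
  -- exceptional sets of nonconjugate members are disjoint
  have hdisj : ∀ B ∈ Max, ∀ C ∈ Max, C ∉ conjOrbit B →
      ∀ φ, φ ∈ excSet B → φ ∉ excSet C := by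
    intro B hB C hC hne φ hφB hφC
    obtain ⟨eB, wB, θB, -, -, hB'⟩ := hfam B hB
    obtain ⟨eC, wC, θC, -, -, hC'⟩ := hfam C hC
    obtain ⟨i, hi⟩ := hB'.mem_iff.mp hφB
    obtain ⟨k, hk⟩ := hC'.mem_iff.mp hφC
    have := hB'.two_le
    have := hC'.two_le
    have : Nontrivial (Fin wB) := Fin.nontrivial_iff_two_le.mpr hB'.two_le
    have : Nontrivial (Fin wC) := Fin.nontrivial_iff_two_le.mpr hC'.two_le
    obtain ⟨j, hj⟩ := exists_ne i
    obtain ⟨l, hl⟩ := exists_ne k
    have h0 : Cfsg.classInner (θB i - θB j) (θC k - θC l) = 0 := by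
      rw [classInner_def, Finset.sum_eq_zero, mul_zero]
      intro g _
      by_cases hg : ∀ x : G, x⁻¹ * g * x ∈ B → x⁻¹ * g * x = 1
      · rw [Pi.sub_apply, hB'.diff_off i j g hg, sub_self, zero_mul]
      · push Not at hg
        obtain ⟨x, hx, hx1⟩ := hg
        rw [Pi.sub_apply (θC k), hC'.diff_off k l g fun y hy => by
          by_contra hy1
          exact hnoconj B hB C hC hne g x (mem_nonId.mpr ⟨hx, hx1⟩) y (mem_nonId.mpr ⟨hy, hy1⟩),
          sub_self, map_zero, mul_zero]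
    have h1 : θB i ≠ θC l := fun h => hl (hC'.inj (by rw [← h, hi, hk]))
    have h2 : θB j ≠ θC k := fun h => hj (hB'.inj (by rw [h, hk, hi]))
    rw [classInner_sub_left, classInner_sub_right, classInner_sub_right,
      irr_classInner (hB'.irr i) (hC'.irr k), irr_classInner (hB'.irr i) (hC'.irr l),
      irr_classInner (hB'.irr j) (hC'.irr k), irr_classInner (hB'.irr j) (hC'.irr l),
      if_pos (hi.trans hk.symm), if_neg h1, if_neg h2] at h0
    split_ifs at h0 <;> norm_num at h0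
  have hone' : ∀ B ∈ Max, (⟨fun _ => 1, isIrrCharacter_one⟩ : Cfsg.IrrCharacter G) ∉ excSet B :=
    fun B _ h => mem_excSet.mp h ⟨1, fun a _ => by simp⟩
  -- the three kinds of members
  set O := conjOrbit A with hOdef
  have hOMax : O ⊆ Max := fun B hB => by
    obtain ⟨g, rfl⟩ := mem_conjOrbit.mp hB
    obtain ⟨y, hy, rfl⟩ := hMax.mp hA
    exact hMax.mpr ⟨g * y * g⁻¹, fun h => hy (by simpa using h), (conj_smul_eq_centralizer g y).symm⟩
  set Out := Max.filter (fun B => B ∉ O ∧ ¬ ∀ b ∈ nonId B, θ j0 b = 0) with hOut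
  set In := Max.filter (fun B => B ∉ O ∧ ∀ b ∈ nonId B, θ j0 b = 0) with hIn
  -- parity
  have hkey : ∀ B ∈ In, ∀ φ ∈ excSet B, φ ∉ excSet A ∧ ∃ d : ℤ, d ≠ 0 ∧
      ∀ a ∈ nonId A, (φ : G → ℂ) a = d := by
    intro B hB φ hφ
    obtain ⟨hBM, hBO, hB0⟩ := Finset.mem_filter.mp hB
    have hφA : φ ∉ excSet A := fun h => hdisj A hA B hBM hBO φ h hφ
    refine ⟨hφA, ?_⟩
    obtain ⟨d, hd⟩ := not_not.mp (mt mem_excSet.mpr hφA)
    refine ⟨d, fun hd0 => ?_, hd⟩
    obtain ⟨eB, wB, θB, -, -, hB'⟩ := hfam B hBM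
    obtain ⟨a, ha⟩ := hnonId A hA
    obtain ⟨b, hb⟩ := hnonId B hBM
    have horth := column_orthogonality a b
    rw [if_neg fun h => by
      obtain ⟨c, hc⟩ := isConj_iff.mp h
      refine hnoconj A hA B hBM hBO a 1 (by simpa using ha) c⁻¹ ?_
      rw [inv_inv, hc]; exact hb] at horth
    set f : Cfsg.IrrCharacter G → ℂ := fun ψ => (ψ : G → ℂ) a * conj ((ψ : G → ℂ) b) with hf
    have hFA : ∀ ψ ∈ excSet A, f ψ = 0 := fun ψ hψ => by
      obtain ⟨j, hj⟩ := hθ.mem_iff.mp hψ
      simp only [hf]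
      rw [← hj, hθ.diff_off j j0 b (hoff A hA B hBM hBO b hb), hB0 b hb, map_zero, mul_zero]
    obtain ⟨i, hi⟩ := hB'.mem_iff.mp hφ
    have hFB : ∀ ψ ∈ excSet B, f ψ = 0 := fun ψ hψ => by
      obtain ⟨j, hj⟩ := hB'.mem_iff.mp hψ
      simp only [hf]
      rw [← hj, hB'.diff_off j i a (hoff B hBM A hA (fun h => hBO (hsymm B A h)) a ha), hi, hd a ha,
        hd0, Int.cast_zero, zero_mul]
    set R := (Finset.univ : Finset (Cfsg.IrrCharacter G)).filter
      fun ψ => ψ ∉ excSet A ∧ ψ ∉ excSet B with hR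
    have hsum : ∑ ψ ∈ R, f ψ = 0 := by
      refine (Finset.sum_filter_of_ne fun ψ _ hne => ?_).trans horth
      exact ⟨fun h => hne (hFA ψ h), fun h => hne (hFB ψ h)⟩
    choose! cA hcA using fun ψ (h : ψ ∉ excSet A) => not_not.mp (mt mem_excSet.mpr h)
    choose! cB hcB using fun ψ (h : ψ ∉ excSet B) => not_not.mp (mt mem_excSet.mpr h)
    have hfz : ∀ ψ ∈ R, f ψ = ((cA ψ * cB ψ : ℤ) : ℂ) := fun ψ hψ => by
      obtain ⟨-, h1, h2⟩ := Finset.mem_filter.mp hψ
      simp only [hf]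
      rw [hcA ψ h1 a ha, hcB ψ h2 b hb, map_intCast (starRingEnd ℂ)]
      push_cast; rfl
    rw [Finset.sum_congr rfl hfz, ← Int.cast_sum] at hsum
    have hz : ∑ ψ ∈ R, cA ψ * cB ψ = 0 := by exact_mod_cast hsum
    set one' : Cfsg.IrrCharacter G := ⟨fun _ => 1, isIrrCharacter_one⟩ with hone1
    have h1R : one' ∈ R :=
      Finset.mem_filter.mpr ⟨Finset.mem_univ _, hone' A hA, hone' B hBM⟩
    rw [← Finset.add_sum_erase _ _ h1R] at hz
    have hc1 : cA one' * cB one' = 1 := by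
      have h1 := hcA one' (hone' A hA) a ha
      have h2 := hcB one' (hone' B hBM) b hb
      rw [show ((one' : Cfsg.IrrCharacter G) : G → ℂ) a = 1 from rfl] at h1
      rw [show ((one' : Cfsg.IrrCharacter G) : G → ℂ) b = 1 from rfl] at h2
      have : ((cA one' * cB one' : ℤ) : ℂ) = ((1 : ℤ) : ℂ) := by push_cast; rw [← h1, ← h2, one_mul]
      exact_mod_cast this
    let σ : Cfsg.IrrCharacter G → Cfsg.IrrCharacter G :=
      fun ψ => ⟨fun g => conj ((ψ : G → ℂ) g), isIrrCharacter_conj ψ.2⟩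
    have hσexc : ∀ (C : Subgroup G) ψ, ψ ∉ excSet C → σ ψ ∉ excSet C := by
      intro C ψ h h'
      obtain ⟨c, hc⟩ := not_not.mp (mt mem_excSet.mpr h)
      exact mem_excSet.mp h' ⟨c, fun x hx => by
        show conj ((ψ : G → ℂ) x) = _
        rw [hc x hx, map_intCast (starRingEnd ℂ)]⟩
    have hσσ : ∀ ψ, σ (σ ψ) = ψ := fun ψ => Subtype.ext (funext fun g => Complex.conj_conj _)
    have hσR : ∀ ψ ∈ R.erase one', σ ψ ∈ R.erase one' := by
      intro ψ hψ
      obtain ⟨h1, h2⟩ := Finset.mem_erase.mp hψ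
      obtain ⟨-, h3, h4⟩ := Finset.mem_filter.mp h2
      refine Finset.mem_erase.mpr ⟨fun h => h1 ?_,
        Finset.mem_filter.mpr ⟨Finset.mem_univ _, hσexc A ψ h3, hσexc B ψ h4⟩⟩
      rw [← hσσ ψ, h]
      exact Subtype.ext (funext fun g => map_one _)
    have hev : ((∑ ψ ∈ R.erase one', cA ψ * cB ψ : ℤ) : ZMod 2) = 0 := by
      rw [Int.cast_sum]
      refine Finset.sum_involution (fun ψ _ => σ ψ) (fun ψ hψ => ?_) (fun ψ hψ _ h => ?_)
        (fun ψ hψ => hσR ψ hψ) fun ψ _ => hσσ ψ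
      · obtain ⟨-, h3, h4⟩ := Finset.mem_filter.mp (Finset.mem_erase.mp hψ).2
        have e1 : cA (σ ψ) = cA ψ := by
          have h5 := hcA (σ ψ) (hσexc A ψ h3) a ha
          rw [show ((σ ψ : Cfsg.IrrCharacter G) : G → ℂ) a = conj ((ψ : G → ℂ) a) from rfl,
            hcA ψ h3 a ha, map_intCast (starRingEnd ℂ)] at h5
          exact_mod_cast h5.symm
        have e2 : cB (σ ψ) = cB ψ := by
          have h5 := hcB (σ ψ) (hσexc B ψ h4) b hb
          rw [show ((σ ψ : Cfsg.IrrCharacter G) : G → ℂ) b = conj ((ψ : G → ℂ) b) from rfl,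
            hcB ψ h4 b hb, map_intCast (starRingEnd ℂ)] at h5
          exact_mod_cast h5.symm
        rw [e1, e2]
        exact CharTwo.add_self_eq_zero _
      · refine (Finset.mem_erase.mp hψ).1 (Subtype.ext (eq_one_of_real_odd hodd ψ.2 fun g => ?_))
        exact Complex.conj_eq_iff_im.mp (congr_fun (congr_arg Subtype.val h) g)
    rw [hc1] at hz
    have h2 : ((1 : ℤ) : ZMod 2) + 0 = 0 := by
      rw [← hev, ← Int.cast_add, hz, Int.cast_zero]
      exact hev.symm
    simp at h2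
  -- the column bound
  set S := In.biUnion excSet with hS
  have hScard : S.card + 1 ≤ e := by
    have hcol : ∀ a ∈ nonId A, ∑ ψ : Cfsg.IrrCharacter G, Complex.normSq ((ψ : G → ℂ) a) =
        (m : ℝ) := fun a ha => by
      have h := column_orthogonality a a
      rw [if_pos (IsConj.refl _), hownC A hA a ha] at h
      simp only [Complex.mul_conj] at h
      exact_mod_cast h
    set one' : Cfsg.IrrCharacter G := ⟨fun _ => 1, isIrrCharacter_one⟩
    let Wt : Cfsg.IrrCharacter G → ℝ :=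
      fun ψ => ∑ a ∈ nonId A, Complex.normSq ((ψ : G → ℂ) a)
    have hd1 : one' ∉ excSet A ∪ S := by
      simp only [Finset.mem_union, not_or, hS, Finset.mem_biUnion, not_exists, not_and]
      exact ⟨hone' A hA, fun B hB => hone' B (Finset.mem_filter.mp hB).1⟩
    have hd2 : Disjoint (excSet A) S := by
      rw [Finset.disjoint_right]
      intro ψ hψ
      obtain ⟨B, hB, hψB⟩ := Finset.mem_biUnion.mp hψ
      exact (hkey B hB ψ hψB).1
    have htot : ∑ ψ ∈ insert one' (excSet A ∪ S), Wt ψ ≤ (w * e : ℕ) * (m : ℝ) := by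
      refine (Finset.sum_le_sum_of_subset_of_nonneg (Finset.subset_univ _) fun ψ _ _ =>
        Finset.sum_nonneg fun a _ => Complex.normSq_nonneg _).trans (le_of_eq ?_)
      show ∑ ψ : Cfsg.IrrCharacter G, ∑ a ∈ nonId A, Complex.normSq ((ψ : G → ℂ) a) = _
      rw [Finset.sum_comm, Finset.sum_congr rfl hcol, Finset.sum_const, nsmul_eq_mul]
      congr 1
      have := card_nonId A
      exact_mod_cast (by omega : (nonId A).card = w * e)
    rw [Finset.sum_insert hd1, Finset.sum_union hd2] at htot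
    have hcA' : ((nonId A).card : ℝ) = (w * e : ℕ) := by
      have := card_nonId A
      exact_mod_cast (by omega : (nonId A).card = w * e)
    have e1 : Wt one' = (w * e : ℕ) := by
      simp only [Wt, one', map_one, Finset.sum_const, nsmul_eq_mul, mul_one, hcA']
    have e2 : (w : ℝ) * ((e : ℝ) * ((m : ℝ) - e)) ≤ ∑ ψ ∈ excSet A, Wt ψ := by
      rw [hθ.excSet_eq, Finset.sum_image (fun i _ j _ h => hθ.inj (congr_arg Subtype.val h))]
      calc (w : ℝ) * ((e : ℝ) * ((m : ℝ) - e)) = ∑ _j : Fin w, (e : ℝ) * ((m : ℝ) - e) := by simp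
        _ ≤ _ := Finset.sum_le_sum fun j _ => hθ.sumsq j
    have e3 : (S.card : ℝ) * (w * e : ℕ) ≤ ∑ ψ ∈ S, Wt ψ := by
      rw [← nsmul_eq_mul]
      refine Finset.card_nsmul_le_sum _ _ _ fun ψ hψ => ?_
      obtain ⟨B, hB, hψB⟩ := Finset.mem_biUnion.mp hψ
      obtain ⟨-, d, hd0, hd⟩ := hkey B hB ψ hψB
      calc ((w * e : ℕ) : ℝ) = ∑ _a ∈ nonId A, (1 : ℝ) := by simp [hcA']
        _ ≤ Wt ψ := Finset.sum_le_sum fun a ha => by
          rw [hd a ha, Complex.normSq_intCast]
          exact_mod_cast mul_self_pos.mpr hd0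
    rw [e1] at htot
    have hwe0 : (0 : ℝ) < (w : ℝ) * e := by
      exact_mod_cast Nat.mul_pos (by omega : 0 < w) (by omega : 0 < e)
    push_cast at htot e3
    have : ((S.card + 1 : ℕ) : ℝ) ≤ (e : ℕ) := by
      push_cast
      refine le_of_mul_le_mul_left ?_ hwe0
      linarith
    exact_mod_cast this
  -- the row bound
  set o := O.card with ho
  have hoN : o * (e * m) = Nat.card G := by rw [← hNA]; exact card_conjOrbit_mul A
  have hpart : ∑ B ∈ Max, (nonId B).card + 1 = Nat.card G := by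
    have h : (Finset.univ.filter fun x : G => x ≠ 1).card = ∑ B ∈ Max, (nonId B).card := by
      rw [Finset.card_eq_sum_card_fiberwise (t := Max)
        (f := fun x => Subgroup.centralizer ({x} : Set G))
        (fun x hx => hMax.mpr ⟨x, (Finset.mem_filter.mp hx).2, rfl⟩)]
      refine Finset.sum_congr rfl fun B hB => congr_arg Finset.card ?_
      ext x
      simp only [Finset.mem_filter, Finset.mem_univ, true_and, mem_nonId]
      constructor
      · rintro ⟨hx1, rfl⟩
        exact ⟨Subgroup.mem_centralizer_singleton_iff.mpr rfl, hx1⟩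
      · exact fun ⟨hx, hx1⟩ => ⟨hx1, hself B hB x hx hx1⟩
    rw [← h, Nat.card_eq_fintype_card, Finset.filter_ne' Finset.univ (1 : G),
      Finset.card_erase_add_one (Finset.mem_univ _), Finset.card_univ]
  have hrow : (∑ B ∈ Out, (nonId B).card : ℕ) ≤ o * (e * e) := by
    have hnorm : ∑ g : G, Complex.normSq (θ j0 g) = (Nat.card G : ℝ) := by
      have h := irr_classInner_self (hθ.irr j0)
      rw [classInner_def, inv_mul_eq_iff_eq_mul₀ natCard_ne_zero, mul_one] at h
      simp only [Complex.mul_conj] at h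
      exact_mod_cast h
    have hd : (↑(O ∪ Out) : Set (Subgroup G)).PairwiseDisjoint nonId := by
      intro B hB C hC hne
      show Disjoint (nonId B) (nonId C)
      rw [Finset.disjoint_left]
      intro x hxB hxC
      have hmem : ∀ D ∈ O ∪ Out, D ∈ Max := fun D hD =>
        (Finset.mem_union.mp hD).elim (fun h => hOMax h) (fun h => (Finset.mem_filter.mp h).1)
      exact hne ((hownC B (hmem B hB) x hxB).symm.trans (hownC C (hmem C hC) x hxC))
    have hle : ∑ B ∈ O ∪ Out, ∑ b ∈ nonId B, Complex.normSq (θ j0 b) ≤ (Nat.card G : ℝ) := by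
      rw [← hnorm, ← Finset.sum_biUnion hd]
      exact Finset.sum_le_sum_of_subset_of_nonneg (Finset.subset_univ _)
        fun g _ _ => Complex.normSq_nonneg _
    rw [Finset.sum_union (Finset.disjoint_left.mpr fun B hB hB' =>
      (Finset.mem_filter.mp hB').2.1 hB)] at hle
    have h1 : (o : ℝ) * ((e : ℝ) * ((m : ℝ) - e)) ≤
        ∑ B ∈ O, ∑ b ∈ nonId B, Complex.normSq (θ j0 b) := by
      rw [ho, ← nsmul_eq_mul]
      refine Finset.card_nsmul_le_sum _ _ _ fun B hB => ?_
      obtain ⟨g, rfl⟩ := mem_conjOrbit.mp hB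
      rw [sum_nonId_conj]
      refine (hθ.sumsq j0).trans (le_of_eq (Finset.sum_congr rfl fun a _ => ?_))
      rw [irr_isClassFunction (hθ.irr j0) a g]
    have h2 : ((∑ B ∈ Out, (nonId B).card : ℕ) : ℝ) ≤
        ∑ B ∈ Out, ∑ b ∈ nonId B, Complex.normSq (θ j0 b) := by
      push_cast
      refine Finset.sum_le_sum fun B hB => ?_
      obtain ⟨hBM, hBO, hne⟩ := Finset.mem_filter.mp hB
      obtain ⟨c, hc⟩ := not_not.mp (mt (mem_excSet (φ := ⟨θ j0, hθ.irr j0⟩)).mpr
        (fun h => hdisj A hA B hBM hBO _ (hθ.mem_iff.mpr ⟨j0, rfl⟩) h))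
      have hc0 : c ≠ 0 := fun h0 => hne fun b hb => by
        rw [show θ j0 b = (c : ℂ) from hc b hb, h0, Int.cast_zero]
      calc ((nonId B).card : ℝ) = ∑ _b ∈ nonId B, (1 : ℝ) := by simp
        _ ≤ _ := Finset.sum_le_sum fun b hb => by
          rw [show θ j0 b = (c : ℂ) from hc b hb, Complex.normSq_intCast]
          exact_mod_cast mul_self_pos.mpr hc0
    have h3 : (Nat.card G : ℝ) = (o : ℝ) * ((e : ℝ) * m) := by exact_mod_cast hoN.symm
    have : ((∑ B ∈ Out, (nonId B).card : ℕ) : ℝ) ≤ ((o * (e * e) : ℕ) : ℝ) := by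
      push_cast at h2 ⊢
      linarith
    exact_mod_cast this
  -- the bound for the remaining members
  have hin : ∀ R : ℕ, (∀ B ∈ In, R ≤ Nat.card B) →
      R * ∑ B ∈ In, (nonId B).card ≤ S.card * Nat.card G := by
    intro R hR
    have hBsum : ∀ B ∈ In, (nonId B).card = ∑ _φ ∈ excSet B, ee B := fun B hB => by
      have hBM := (Finset.mem_filter.mp hB).1
      obtain ⟨eB, wB, θB, -, hN, hB'⟩ := hfam B hBM
      rw [Finset.sum_const, hB'.card_excSet, smul_eq_mul, heeq B hBM eB hN]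
      have := card_nonId B
      have := hB'.card_eq
      omega
    rw [Finset.sum_congr rfl hBsum, Finset.sum_comm' (t' := S)
      (s' := fun φ => In.filter fun B => φ ∈ excSet B) (fun B φ => by
        simp only [hS, Finset.mem_biUnion, Finset.mem_filter]
        exact ⟨fun h => ⟨h, ⟨B, h.1, h.2⟩⟩, fun h => h.1⟩), Finset.mul_sum, ← smul_eq_mul,
      ← Finset.sum_const]
    refine Finset.sum_le_sum fun φ _ => ?_
    rcases (In.filter fun B => φ ∈ excSet B).eq_empty_or_nonempty with h0 | ⟨B0, hB0⟩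
    · rw [h0]; simp
    obtain ⟨hB0In, hB0φ⟩ := Finset.mem_filter.mp hB0
    have hB0M := (Finset.mem_filter.mp hB0In).1
    obtain ⟨e0, w0, θ0, -, hN0, -⟩ := hfam B0 hB0M
    have hsub : (In.filter fun B => φ ∈ excSet B) ⊆ conjOrbit B0 := fun B hB => by
      by_contra hne
      exact hdisj B0 hB0M B (Finset.mem_filter.mp (Finset.mem_filter.mp hB).1).1 hne φ hB0φ
        (Finset.mem_filter.mp hB).2
    rw [Finset.mul_sum]
    calc ∑ B ∈ In.filter (fun B => φ ∈ excSet B), R * ee B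
        ≤ ∑ _B ∈ In.filter (fun B => φ ∈ excSet B), e0 * Nat.card B0 := by
          refine Finset.sum_le_sum fun B hB => ?_
          obtain ⟨g, hg⟩ := mem_conjOrbit.mp (hsub hB)
          have hBI := (Finset.mem_filter.mp hB).1
          obtain ⟨eB, wB, θB, -, hN, -⟩ := hfam B (Finset.mem_filter.mp hBI).1
          rw [heeq B (Finset.mem_filter.mp hBI).1 eB hN, mul_comm R, ← hN0]
          calc eB * R ≤ eB * Nat.card B := Nat.mul_le_mul_left _ (hR B hBI)
            _ = _ := by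
              rw [← hN, ← hg]
              have h1 := card_conjOrbit_mul B0
              have h2 := card_conjOrbit_mul (MulAut.conj g • B0)
              have : conjOrbit (MulAut.conj g • B0) = conjOrbit B0 := by
                ext C
                simp only [mem_conjOrbit, Solvable.conj_smul_conj_smul]
                exact ⟨fun ⟨x, hx⟩ => ⟨x * g, hx⟩, fun ⟨x, hx⟩ => ⟨x * g⁻¹, by simpa [mul_assoc] using hx⟩⟩
              rw [this, ← h1] at h2
              exact Nat.eq_of_mul_eq_mul_left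
                (Finset.card_pos.mpr ⟨B0, mem_conjOrbit.mpr ⟨1, Solvable.conj_one_smul B0⟩⟩) h2
      _ ≤ (conjOrbit B0).card * (e0 * Nat.card B0) := by
          rw [Finset.sum_const, smul_eq_mul]
          exact Nat.mul_le_mul_right _ (Finset.card_le_card hsub)
      _ = Nat.card G := by rw [← hN0]; exact card_conjOrbit_mul B0
  -- assemble
  have hsplit : ∑ B ∈ Max, (nonId B).card = o * (w * e) + ∑ B ∈ Out, (nonId B).card +
      ∑ B ∈ In, (nonId B).card := by
    rw [← Finset.sum_filter_add_sum_filter_not Max (fun B => B ∈ O),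
      ← Finset.sum_filter_add_sum_filter_not (Max.filter fun B => B ∉ O)
        (fun B => ¬ ∀ b ∈ nonId B, θ j0 b = 0), Finset.filter_filter, Finset.filter_filter]
    simp only [not_not, ← hOut, ← hIn, ← add_assoc]
    congr 2
    rw [Finset.filter_mem_eq_inter, Finset.inter_eq_right.mpr hOMax, ho, ← smul_eq_mul,
      ← Finset.sum_const]
    refine Finset.sum_congr rfl fun B hB => ?_
    obtain ⟨g, rfl⟩ := mem_conjOrbit.mp hB
    have h1 := card_nonId (MulAut.conj g • A)
    rw [Solvable.card_conj_smul, ← hm] at h1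
    omega
  have ho1 : 1 ≤ o := Finset.card_pos.mpr ⟨A, mem_conjOrbit.mpr ⟨1, Solvable.conj_one_smul A⟩⟩
  have hIncard : ∀ B ∈ In, Nat.card B ≠ m ∧ ∃ eB wB : ℕ, e ≤ eB ∧ 2 ≤ wB ∧ Even wB ∧ Odd eB ∧
      wB * eB + 1 = Nat.card B := by
    intro B hB
    obtain ⟨hBM, hBO, -⟩ := Finset.mem_filter.mp hB
    refine ⟨fun h => hBO (mem_conjOrbit.mpr
      (exists_conj_of_card_eq (hself A hA) (hself B hBM) (hone A hA) h.symm)), ?_⟩
    obtain ⟨eB, wB, θB, -, hN, hB'⟩ := hfam B hBM
    refine ⟨eB, wB, ?_, hB'.two_le, hB'.even, ?_, hB'.card_eq⟩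
    · rw [← heA, ← heeq B hBM eB hN]; exact hAmin B hBM
    · exact hodd.of_dvd_nat ((Dvd.intro _ hN.symm).trans (Subgroup.card_subgroup_dvd_card _))
  have hodde : Odd e := hodd.of_dvd_nat ((Dvd.intro _ hNA.symm).trans (Subgroup.card_subgroup_dvd_card _))
  have hfin : ∀ R : ℕ, (∀ B ∈ In, R ≤ Nat.card B) →
      R * (o * (e * m)) ≤ R + R * (o * (w * e)) + R * (o * (e * e)) + (e - 1) * (o * (e * m)) := by
    intro R hR
    have h1 := (hin R hR).trans (Nat.mul_le_mul_right _ (by omega : S.card ≤ e - 1))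
    have h2 := Nat.mul_le_mul_left R hrow
    rw [hoN]
    have h3 : R * Nat.card G = R * (o * (w * e) + ∑ B ∈ Out, (nonId B).card +
      ∑ B ∈ In, (nonId B).card) + R := by rw [← hsplit, ← hpart]; ring
    rw [mul_add, mul_add] at h3
    omega
  rcases Nat.lt_or_ge w 4 with hw | hw
  · have hw' : w = 2 := by obtain ⟨k, hk⟩ := hθ.even; omega
    have h := hfin (2 * e + 5) fun B hB => by
      obtain ⟨hne, eB, wB, heB, hwB, hwBe, heBo, hcard⟩ := hIncard B hB
      rcases Nat.lt_or_ge wB 4 with h4 | h4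
      · have : wB = 2 := by obtain ⟨k, hk⟩ := hwBe; omega
        subst this
        obtain ⟨k, hk⟩ := heBo
        obtain ⟨k', hk'⟩ := hodde
        have : eB ≠ e := fun h' => hne (by rw [← hcard, ← hwe, hw', h'])
        omega
      · have : 4 * eB ≤ wB * eB := Nat.mul_le_mul_right _ h4
        omega
    subst hw'
    rw [← hwe] at h
    obtain ⟨k, rfl⟩ : ∃ k, e = k + 3 := ⟨e - 3, by omega⟩
    rw [show k + 3 - 1 = k + 2 by omega] at h
    nlinarith [Nat.mul_le_mul_right (k + 3) ho1, mul_nonneg (Nat.zero_le k) (Nat.zero_le o)]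
  · have h := hfin (2 * e + 1) fun B hB => by
      obtain ⟨-, eB, wB, heB, hwB, -, -, hcard⟩ := hIncard B hB
      have : 2 * eB ≤ wB * eB := Nat.mul_le_mul_right _ hwB
      omega
    rw [← hwe] at h
    obtain ⟨k, rfl⟩ : ∃ k, e = k + 3 := ⟨e - 3, by omega⟩
    obtain ⟨v, rfl⟩ : ∃ v, w = v + 4 := ⟨w - 4, by omega⟩
    rw [show k + 3 - 1 = k + 2 by omega] at h
    nlinarith [mul_nonneg (mul_nonneg (Nat.zero_le k) (Nat.zero_le o)) (Nat.zero_le v),
      mul_nonneg (Nat.zero_le k) (Nat.zero_le o), mul_nonneg (Nat.zero_le v) (Nat.zero_le o),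
      Nat.mul_le_mul_right (k + 3) ho1]

end CfsgLib.Char
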