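import Cfsg.Agent.Lib.Char.CNSimple
import Cfsg.Agent.Lib.Solvable.MinNormal
import Mathlib.GroupTheory.SchurZassenhaus

/-!
# The CN theorem: CN-groups of odd order are solvable
-/

namespace CfsgLib.Char

open scoped Pointwise

universe u

variable {G : Type u} [Group G]

theorem isNilpotent_of_injective_hom {H : Type*} [Group H] [hG : Group.IsNilpotent G] (f : H →* G)
    (hf : Function.Injective f) : Group.IsNilpotent H :=
  Group.nilpotent_of_mulEquiv (MonoidHom.ofInjective hf).symm

theorem cn_subgroup (hCN : Cfsg.IsCNGroup G) (H : Subgroup G) : Cfsg.IsCNGroup H := fun h hh => by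
  have hc := hCN (h : G) fun e => hh (Subtype.ext e)
  let f : Subgroup.centralizer ({h} : Set H) →* Subgroup.centralizer ({(h : G)} : Set G) :=
    { toFun := fun x => ⟨((x : H) : G), Subgroup.mem_centralizer_singleton_iff.mpr
        (congr_arg Subtype.val (Subgroup.mem_centralizer_singleton_iff.mp x.2))⟩
      map_one' := rfl
      map_mul' := fun _ _ => rfl }
  refine isNilpotent_of_injective_hom (hG := hc) f ?_
  intro a b e
  exact Subtype.ext (Subtype.ext (congr_arg (fun z : Subgroup.centralizer ({(h : G)} : Set G) => (z : G)) e))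

theorem closed_normal_of_le [Finite G] {C M : Subgroup G} (hC : IsCentralizerClosed C)
    (hCn : Group.IsNilpotent C) (hMne : M ≠ ⊥) (hM : M.Normal) (hMC : M ≤ C) : C.Normal := by
  refine Solvable.normal_of_forall_conj_smul_eq fun g => ?_
  obtain ⟨x, hx, hx1⟩ := (Subgroup.bot_or_exists_ne_one M).resolve_left hMne
  refine (hC.conj g).eq_of_mem hC (isNilpotent_conj hCn g) hCn (x := x) ?_ (hMC hx) hx1
  rw [Solvable.mem_conj_smul]
  have := hM.conj_mem x hx g⁻¹
  rw [inv_inv] at this
  exact hMC this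

theorem cn_quotient [Finite G] {p : ℕ} [hp : Fact p.Prime]
    (hCN : Cfsg.IsCNGroup G) {M : Subgroup G} [M.Normal] (hMp : IsPGroup p M)
    (hB : ∀ x : G, x ≠ 1 → (∃ k, orderOf x = p ^ k) → IsPGroup p (Subgroup.centralizer ({x} : Set G))) :
    Cfsg.IsCNGroup (G ⧸ M) := by
  -- lifts of elements of order prime to `p`
  have hlift : ∀ (yb : G ⧸ M) (r : ℕ), r.Prime → r ≠ p → orderOf yb = r →
      ∃ y : G, y ≠ 1 ∧ (orderOf y).Coprime p ∧
        Subgroup.centralizer ({yb} : Set (G ⧸ M)) ≤
          (Subgroup.centralizer ({y} : Set G)).map (QuotientGroup.mk' M) := by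
    intro yb r hr hrp hord
    have : Fact r.Prime := ⟨hr⟩
    obtain ⟨y₀, rfl⟩ := QuotientGroup.mk'_surjective M yb
    set f := QuotientGroup.mk' M
    set T := (Subgroup.zpowers (f y₀)).comap f with hT
    have hcard : Nat.card T = Nat.card M * r := by
      rw [Solvable.card_comap_mk', Nat.card_zpowers, hord, mul_comm]
    obtain ⟨j, hj⟩ := IsPGroup.iff_card.mp hMp
    have hMr : ¬ r ∣ Nat.card M := by
      rw [hj]
      exact fun h => hrp ((Nat.prime_dvd_prime_iff_eq hr hp.out).mp (hr.dvd_of_dvd_pow h))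
    obtain ⟨t, ht⟩ := exists_prime_orderOf_dvd_card' (G := T) r (hcard ▸ Dvd.intro_left _ rfl)
    obtain ⟨i, hi⟩ := Subgroup.mem_zpowers_iff.mp (Subgroup.mem_comap.mp t.2)
    have htM : (t : G) ∉ M := fun h => hMr (by
      rw [← ht, ← Subgroup.orderOf_coe, ← Subgroup.orderOf_mk (t : G) h]
      exact orderOf_dvd_natCard _)
    have hir : ¬ (r : ℤ) ∣ i := by
      rintro ⟨c, rfl⟩
      refine htM ((QuotientGroup.eq_one_iff (t : G)).mp ?_)
      show f (t : G) = 1
      rw [← hi, zpow_mul, zpow_natCast, ← hord, pow_orderOf_eq_one, one_zpow]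
    obtain ⟨c, d, hcd⟩ : ∃ c d : ℤ, i * c + (r : ℤ) * d = 1 := by
      have hco : IsCoprime i (r : ℤ) :=
        ((Nat.prime_iff_prime_int.mp hr).coprime_iff_not_dvd.mpr hir).symm
      obtain ⟨a, b, hab⟩ := hco
      exact ⟨a, b, by rw [← hab]; ring⟩
    set y : G := (t : G) ^ c with hy
    have hfy : f y = f y₀ := by
      rw [hy, map_zpow, ← hi, ← zpow_mul]
      conv_rhs => rw [← zpow_one (f y₀), ← hcd, zpow_add, zpow_mul (f y₀) (r : ℤ), zpow_natCast,
        ← hord, pow_orderOf_eq_one, one_zpow, mul_one]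
    have hy1 : y ≠ 1 := fun h => by
      rw [h, map_one] at hfy
      rw [← hfy, orderOf_one] at hord
      exact hr.one_lt.ne hord
    have hyr : orderOf y = r := by
      refine (Nat.dvd_prime hr).mp (orderOf_dvd_of_pow_eq_one ?_) |>.resolve_left
        fun h => hy1 (orderOf_eq_one_iff.mp h)
      rw [hy, ← zpow_natCast, ← zpow_mul, mul_comm, zpow_mul, zpow_natCast,
        show (t : G) ^ r = 1 by rw [← ht, ← Subgroup.orderOf_coe, pow_orderOf_eq_one], one_zpow]
    refine ⟨y, hy1, by rw [hyr]; exact (Nat.coprime_primes hr hp.out).mpr hrp, fun ub hub => ?_⟩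
    obtain ⟨u, rfl⟩ := QuotientGroup.mk'_surjective M ub
    rw [Subgroup.mem_centralizer_singleton_iff] at hub
    have hyT : y ∈ T := Subgroup.mem_comap.mpr (hfy ▸ Subgroup.mem_zpowers _)
    have huy : f (u * y * u⁻¹) = f y₀ := by
      rw [map_mul, map_mul, map_inv, hfy, hub, mul_inv_cancel_right]
    have huyT : u * y * u⁻¹ ∈ T := Subgroup.mem_comap.mpr (huy ▸ Subgroup.mem_zpowers _)
    have hsyl : ∀ x ∈ T, orderOf x = r → ∀ hx : x ∈ T,
        Nat.card (Subgroup.zpowers (⟨x, hx⟩ : T)) = r ^ (Nat.card T).factorization r := by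
      intro x _ hxr hx
      rw [Nat.card_zpowers, Subgroup.orderOf_mk, hxr, hcard,
        Nat.factorization_mul Nat.card_pos.ne' hr.ne_zero, Finsupp.add_apply,
        Nat.factorization_eq_zero_of_not_dvd hMr, zero_add, hr.factorization_self, pow_one]
    have huyr : orderOf (u * y * u⁻¹) = r := by
      rw [show u * y * u⁻¹ = MulAut.conj u y from rfl, MulEquiv.orderOf_eq (MulAut.conj u), hyr]
    obtain ⟨s, hs⟩ := MulAction.exists_smul_eq T
      (Sylow.ofCard (Subgroup.zpowers (⟨u * y * u⁻¹, huyT⟩ : T)) (hsyl _ huyT huyr huyT))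
      (Sylow.ofCard (Subgroup.zpowers (⟨y, hyT⟩ : T)) (hsyl _ hyT hyr hyT))
    have hmem : s * ⟨u * y * u⁻¹, huyT⟩ * s⁻¹ ∈ Subgroup.zpowers (⟨y, hyT⟩ : T) := by
      have h := congr_arg (fun P : Sylow r T => (P : Subgroup T)) hs
      simp only [Sylow.coe_subgroup_smul, Sylow.coe_ofCard] at h
      rw [← h, Solvable.mem_conj_smul,
        show s⁻¹ * (s * ⟨u * y * u⁻¹, huyT⟩ * s⁻¹) * s = (⟨u * y * u⁻¹, huyT⟩ : T) by group]
      exact Subgroup.mem_zpowers _
    obtain ⟨k, hk⟩ := Subgroup.mem_zpowers_iff.mp hmem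
    have hk' : y ^ k = (s : G) * (u * y * u⁻¹) * (s : G)⁻¹ := by
      have := congr_arg (fun z : T => (z : G)) hk
      simpa using this
    -- the image of `s` centralises `f y₀`, so `y ^ k = y`
    obtain ⟨l, hl⟩ := Subgroup.mem_zpowers_iff.mp (Subgroup.mem_comap.mp s.2)
    have hk1 : y ^ k = y := by
      have h1 : f y₀ ^ k = f y₀ := by
        have h := congr_arg f hk'
        rw [map_zpow, hfy, map_mul, map_mul, map_inv, huy, ← hl, ← zpow_neg,
          (Commute.refl (f y₀)).zpow_left l |>.eq, mul_assoc, ← zpow_add, add_neg_cancel, zpow_zero,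
          mul_one] at h
        exact h
      have h2 : (r : ℤ) ∣ k - 1 := by
        rw [← hord, orderOf_dvd_iff_zpow_eq_one, zpow_sub, h1, zpow_one, mul_inv_cancel]
      obtain ⟨e, he⟩ := h2
      rw [show k = (r : ℤ) * e + 1 by omega, zpow_add, zpow_mul, zpow_natCast, ← hyr,
        pow_orderOf_eq_one, one_zpow, one_mul, zpow_one]
    have hsu : (s : G) * u ∈ Subgroup.centralizer ({y} : Set G) := by
      rw [Subgroup.mem_centralizer_singleton_iff]
      calc (s : G) * u * y = (s : G) * (u * y * u⁻¹) * (s : G)⁻¹ * ((s : G) * u) := by group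
        _ = y * ((s : G) * u) := by rw [← hk', hk1]
    refine ⟨y ^ (-l) * ((s : G) * u), mul_mem (zpow_mem
      (Subgroup.mem_centralizer_singleton_iff.mpr rfl) _) hsu, ?_⟩
    rw [map_mul, map_zpow, hfy, map_mul, ← hl, ← mul_assoc, ← zpow_add, neg_add_cancel, zpow_zero,
      one_mul]
  intro gb hgb
  obtain ⟨n, r, hr, hord⟩ := exists_pow_orderOf_prime hgb
  have h1 := centralizer_le_centralizer_pow gb n
  suffices Group.IsNilpotent (Subgroup.centralizer ({gb ^ n} : Set (G ⧸ M))) from
    isNilpotent_of_injective_hom (hG := this) (Subgroup.inclusion h1) (Subgroup.inclusion_injective h1)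
  by_cases hrp : r = p
  · refine IsPGroup.isNilpotent (p := p) ?_
    rintro ⟨ub, hub⟩
    obtain ⟨a, b, hab, ha, j, hj⟩ := exists_split_pow p ub
    have hua : ub ^ a = 1 := by
      by_contra hne
      obtain ⟨m, s, hs, hsord⟩ := exists_pow_orderOf_prime hne
      have hsp : s ≠ p := fun h => by
        have hdvd : s ∣ orderOf (ub ^ a) := hsord ▸ orderOf_pow_dvd m
        exact (hp.out.coprime_iff_not_dvd).mp ha.symm (h ▸ hdvd)
      obtain ⟨y, hy1, hyp, hyC⟩ := hlift _ s hs hsp hsord
      obtain ⟨x, hx, hxeq⟩ := hyC (show gb ^ n ∈ Subgroup.centralizer ({(ub ^ a) ^ m} : Set (G ⧸ M)) from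
        Subgroup.mem_centralizer_singleton_iff.mpr (by
          rw [← pow_mul]
          exact ((Commute.pow_left (Subgroup.mem_centralizer_singleton_iff.mp hub) _).eq).symm))
      obtain ⟨c, d, hcd, hc, i, hi⟩ := exists_split_pow p x
      have hxd : x ^ d = 1 := by
        by_contra hxd
        obtain ⟨i', hi'⟩ := isPGroup_of_commute_pElement hB hxd ⟨i, hi⟩
          (Subgroup.mem_centralizer_singleton_iff.mp (pow_mem hx d)).symm
        rcases Nat.eq_zero_or_pos i' with rfl | hpos
        · exact hy1 (orderOf_eq_one_iff.mp (by rw [hi', pow_zero]))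
        · exact (hp.out.coprime_iff_not_dvd).mp hyp.symm (hi' ▸ dvd_pow_self p hpos.ne')
      have h3 : orderOf (gb ^ n) ∣ d := by
        rw [orderOf_dvd_iff_pow_eq_one, ← hxeq, ← map_pow, hxd, map_one]
      have h4 : orderOf (gb ^ n) ∣ c * orderOf (x ^ c) := by
        rw [orderOf_dvd_iff_pow_eq_one, ← hxeq, pow_mul, ← map_pow, ← map_pow, pow_orderOf_eq_one,
          map_one]
      rw [hord, hrp] at h3 h4
      rcases (Nat.Prime.dvd_mul hp.out).mp h4 with h | h
      · exact hp.out.one_lt.ne' (Nat.dvd_one.mp (hcd ▸ Nat.dvd_gcd h h3))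
      · exact (hp.out.coprime_iff_not_dvd).mp hc.symm h
    obtain ⟨t, ht⟩ : orderOf ub ∣ a := orderOf_dvd_of_pow_eq_one hua
    have hbne : (orderOf ub).gcd b = 1 := Nat.Coprime.coprime_dvd_left ⟨t, ht⟩ hab
    refine ⟨j, Subtype.ext ?_⟩
    show ub ^ p ^ j = 1
    rw [← hj, orderOf_pow, hbne, Nat.div_one, pow_orderOf_eq_one]
  · obtain ⟨y, hy1, -, hyC⟩ := hlift _ r hr hrp hord
    have := hCN y hy1
    have hmap : Group.IsNilpotent ((Subgroup.centralizer ({y} : Set G)).map (QuotientGroup.mk' M)) :=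
      Group.nilpotent_of_surjective _
        ((QuotientGroup.mk' M).subgroupMap_surjective (Subgroup.centralizer ({y} : Set G)))
    exact isNilpotent_of_injective_hom (hG := hmap) (Subgroup.inclusion hyC)
      (Subgroup.inclusion_injective hyC)

/-- The CN theorem for odd order. -/
theorem isSolvable_of_cn_odd [Finite G] (hodd : Odd (Nat.card G)) (hCN : Cfsg.IsCNGroup G) :
    Group.IsSolvable G := by
  suffices ∀ (n : ℕ) (G : Type u) [Group G] [Finite G], Nat.card G = n → Odd (Nat.card G) →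
      Cfsg.IsCNGroup G → Group.IsSolvable G from this _ G rfl hodd hCN
  intro n
  induction n using Nat.strong_induction_on with
  | _ n ih =>
  intro G _ _ hn hodd hCN
  subst hn
  by_cases hcomm : ∀ a b : G, a * b = b * a
  · exact Group.isSolvable_of_comm hcomm
  have : Nontrivial G := by
    by_contra h
    rw [not_nontrivial_iff_subsingleton] at h
    exact hcomm fun a b => Subsingleton.elim _ _
  have hsub : ∀ H : Subgroup G, H ≠ ⊤ → Group.IsSolvable H := fun H hH =>
    ih _ (Solvable.card_subgroup_lt hH) H rfl (hodd.of_dvd_nat H.card_subgroup_dvd_card)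
      (cn_subgroup hCN H)
  by_cases hsimple : IsSimpleGroup G
  · have := Fintype.ofFinite G
    exact (not_cn_odd_simple hodd (fun h => hcomm h.is_comm.comm) hsub hCN).elim
  obtain ⟨M, hM, hMne, hMmin⟩ := Solvable.exists_minimal_normal (G := G)
  have hMtop : M ≠ ⊤ := fun h => hsimple ⟨fun K hK => h ▸ hMmin K hK (h ▸ le_top)⟩
  have := hsub M hMtop
  obtain ⟨p, hp, hMp, -, -⟩ := Solvable.exists_isPGroup_of_minimal_normal hMne hMmin
  have : Fact p.Prime := ⟨hp⟩
  obtain ⟨P⟩ := (inferInstance : Nonempty (Sylow p G))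
  have hMP : M ≤ (P : Subgroup G) := Solvable.normal_pgroup_le_sylow hMp P
  obtain ⟨z, hzP, hz1, hzc⟩ := exists_central_ne_one P.2.isNilpotent
    (fun h => hMne (le_bot_iff.mp (h ▸ hMP)))
  by_cases hA : ∃ k ∈ Subgroup.centralizer ({z} : Set G), k ≠ 1 ∧ (orderOf k).Coprime p
  · obtain ⟨k, hk, hk1, hkp⟩ := hA
    set C := Subgroup.centralizer ({z} : Set G) with hC
    have hCc : IsCentralizerClosed C := fun h hh hh1 =>
      cn_centralizer_le hCN P hzP hz1 hzc hk hk1 hkp hh hh1
    have hCn : Group.IsNilpotent C := hCN z hz1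
    have hMC : M ≤ C := fun x hx => Subgroup.mem_centralizer_singleton_iff.mpr (hzc x (hMP hx))
    have hCnorm := closed_normal_of_le hCc hCn hMne hM hMC
    have : Group.IsSolvable C := inferInstance
    have hcop : (Nat.card C).Coprime C.index := by
      refine Nat.coprime_of_dvd fun q hq hqC hqi => ?_
      have : Fact q.Prime := ⟨hq⟩
      obtain ⟨Q, hQ⟩ := exists_sylow_le_of_closed hCc hqC
      exact Q.not_dvd_index (hqi.trans (Subgroup.index_dvd_of_le hQ))
    obtain ⟨H, hH⟩ := Subgroup.exists_right_complement'_of_coprime hcop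
    have hHtop : H ≠ ⊤ := fun h => hMne (le_bot_iff.mp (hMC.trans
      (le_of_eq (Subgroup.isComplement'_top_right.mp (h ▸ hH)))))
    have := hsub H hHtop
    have e : H ≃* G ⧸ C := (Subgroup.IsComplement'.QuotientMulEquiv hH.symm).symm
    have : Group.IsSolvable (G ⧸ C) :=
      Group.isSolvable_of_surjective (f := e.toMonoidHom) e.surjective
    exact Group.isSolvable_of_ker_le_range C.subtype (QuotientGroup.mk' C)
      (by rw [QuotientGroup.ker_mk', Subgroup.range_subtype])
  · have hB : ∀ x : G, x ≠ 1 → (∃ k, orderOf x = p ^ k) →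
        IsPGroup p (Subgroup.centralizer ({x} : Set G)) :=
      fun x hx hxp => cn_isPGroup_centralizer hCN P hzP hzc hA hx hxp
    have hodd' : Odd (Nat.card (G ⧸ M)) :=
      hodd.of_dvd_nat (Subgroup.card_quotient_dvd_card M)
    have : Group.IsSolvable (G ⧸ M) :=
      ih _ (Solvable.card_quotient_lt hMne) (G ⧸ M) rfl hodd' (cn_quotient hCN hMp hB)
    exact Group.isSolvable_of_ker_le_range M.subtype (QuotientGroup.mk' M)
      (by rw [QuotientGroup.ker_mk', Subgroup.range_subtype])

end CfsgLib.Char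

namespace CfsgLib.Char

/-- There is no minimal simple CN-group of odd order. -/
theorem not_isMinSimpleOdd_cn {G : Type*} [Group G] [Finite G]
    (hG : Cfsg.IsMinSimpleOddOrder G) (hCN : Cfsg.IsCNGroup G) : False := by
  obtain ⟨hodd, hsim, hna, -⟩ := hG
  have : Nontrivial G := hsim.toNontrivial
  have := isSolvable_of_cn_odd hodd hCN
  exact (Group.IsSolvable.commutator_lt_top_of_nontrivial G).ne
    (Transfer.commutator_eq_top_of_simple hna)

end CfsgLib.Char
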