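import Cfsg.Agent.Lib.Char.CNStructure

/-!
# Nilpotent TI subgroups covering a simple CN-group of odd order
-/

namespace CfsgLib.Char

open scoped Pointwise

universe u

variable {G : Type u} [Group G]

/-- `H` contains the centraliser of each of its non-identity elements. -/
def IsCentralizerClosed (H : Subgroup G) : Prop :=
  ∀ h ∈ H, h ≠ 1 → Subgroup.centralizer ({h} : Set G) ≤ H

theorem exists_central_ne_one [Finite G] {P : Subgroup G} (hP : Group.IsNilpotent P) (hne : P ≠ ⊥) :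
    ∃ z ∈ P, z ≠ 1 ∧ ∀ y ∈ P, y * z = z * y := by
  have : Nontrivial P := (Subgroup.nontrivial_iff_ne_bot P).mpr hne
  have : Nontrivial (Subgroup.center P) :=
    (Subgroup.nontrivial_iff_ne_bot _).mpr (Group.IsNilpotent.center_ne_bot P)
  obtain ⟨z, hz⟩ := exists_ne (1 : Subgroup.center P)
  exact ⟨((z : P) : G), (z : P).2, fun h => hz (Subtype.ext (Subtype.ext h)), fun y hy =>
    congr_arg Subtype.val (Subgroup.mem_center_iff.mp z.2 ⟨y, hy⟩)⟩

theorem IsCentralizerClosed.eq_of_mem [Finite G] {H K : Subgroup G} (hH : IsCentralizerClosed H)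
    (hK : IsCentralizerClosed K) (hHn : Group.IsNilpotent H) (hKn : Group.IsNilpotent K)
    {x : G} (hxH : x ∈ H) (hxK : x ∈ K) (hx : x ≠ 1) : H = K := by
  suffices ∀ {H K : Subgroup G}, IsCentralizerClosed K → Group.IsNilpotent H → x ∈ H → x ∈ K →
      H ≤ K from le_antisymm (this hK hHn hxH hxK) (this hH hKn hxK hxH)
  intro H K hK hHn hxH hxK
  obtain ⟨z, hzH, hz1, hzc⟩ := exists_central_ne_one hHn
    (fun h => hx ((Subgroup.mem_bot).mp (h ▸ hxH)))
  have hzK : z ∈ K := hK x hxK hx (Subgroup.mem_centralizer_singleton_iff.mpr (hzc x hxH).symm)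
  exact fun y hy => hK z hzK hz1 (Subgroup.mem_centralizer_singleton_iff.mpr (hzc y hy))

theorem exists_centralizerClosed_nilpotent [Finite G] [IsSimpleGroup G] (hodd : Odd (Nat.card G))
    (hG : ¬ IsMulCommutative G) (hsolv : ∀ H : Subgroup G, H ≠ ⊤ → Group.IsSolvable H)
    (hCN : Cfsg.IsCNGroup G) {g : G} (hg : g ≠ 1) :
    ∃ H : Subgroup G, Group.IsNilpotent H ∧ g ∈ H ∧ IsCentralizerClosed H := by
  obtain ⟨n, p, hp, hy⟩ := exists_pow_orderOf_prime hg
  have : Fact p.Prime := ⟨hp⟩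
  have hy1 : g ^ n ≠ 1 := fun e => hp.one_lt.ne' (by rw [← hy, e, orderOf_one])
  obtain ⟨P, hP⟩ := (IsPGroup.of_card (n := 1) (G := Subgroup.zpowers (g ^ n))
    (by rw [Nat.card_zpowers, hy, pow_one])).exists_le_sylow
  have hyP : g ^ n ∈ (P : Subgroup G) := hP (Subgroup.mem_zpowers _)
  have hPne : (P : Subgroup G) ≠ ⊥ := fun h => hy1 ((Subgroup.mem_bot).mp (h ▸ hyP))
  obtain ⟨z, hzP, hz1, hzc⟩ := exists_central_ne_one P.2.isNilpotent hPne
  have hgc : g ∈ Subgroup.centralizer ({g ^ n} : Set G) :=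
    Subgroup.mem_centralizer_singleton_iff.mpr (Commute.self_pow g n).eq
  by_cases hA : ∃ k ∈ Subgroup.centralizer ({z} : Set G), k ≠ 1 ∧ (orderOf k).Coprime p
  · obtain ⟨k, hk, hk1, hkp⟩ := hA
    refine ⟨Subgroup.centralizer ({z} : Set G), hCN z hz1, ?_,
      fun h hh hh1 => cn_centralizer_le hCN P hzP hz1 hzc hk hk1 hkp hh hh1⟩
    exact cn_centralizer_le hCN P hzP hz1 hzc hk hk1 hkp
      (Subgroup.mem_centralizer_singleton_iff.mpr (hzc _ hyP)) hy1 hgc
  · have hB : ∀ x : G, x ≠ 1 → (∃ k, orderOf x = p ^ k) →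
        IsPGroup p (Subgroup.centralizer ({x} : Set G)) :=
      fun x hx hxp => cn_isPGroup_centralizer hCN P hzP hzc hA hx hxp
    have hclosed : IsCentralizerClosed (P : Subgroup G) := fun h hh hh1 => by
      obtain ⟨S, hS⟩ := (hB h hh1 (exists_orderOf_eq_pow P.2 hh)).exists_le_sylow
      have hhS : h ∈ (S : Subgroup G) := hS (Subgroup.mem_centralizer_singleton_iff.mpr rfl)
      rw [sylow_eq_of_inf_ne_bot hodd hG hsolv hB P S fun e => hh1
        ((Subgroup.mem_bot).mp (e ▸ (⟨hh, hhS⟩ : h ∈ (P : Subgroup G) ⊓ S)))]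
      exact hS
    exact ⟨P, P.2.isNilpotent, hclosed _ hyP hy1 hgc, hclosed⟩

end CfsgLib.Char
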