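import Cfsg.Agent.Lib.Char.CAFamily
import Cfsg.Agent.Lib.Char.CNCover
import Cfsg.Agent.Lib.Char.LinearSum

/-!
# Exceptional characters and test function of a nilpotent TI subgroup
-/

namespace CfsgLib.Char

open scoped ComplexConjugate Pointwise

universe u

variable {G : Type u} [Group G] [Fintype G]

/-- A family of exceptional characters with its test generalised character `Ψ`. -/
structure CNFamily (A : Subgroup G) (e w : ℕ) (θ : Fin w → G → ℂ) (Ψ : G → ℂ) : Prop where
  two_le : 2 ≤ w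
  even : Even w
  index_eq : w * e + 1 = (commutator A).index
  irr : ∀ j, Cfsg.IsIrrCharacter G (θ j)
  inj : Function.Injective θ
  one_notin : ∀ j, θ j ≠ fun _ => 1
  diff_off : ∀ j k (g : G), (∀ x : G, x⁻¹ * g * x ∈ A → x⁻¹ * g * x = 1) → θ j g = θ k g
  psi_off : ∀ g : G, (∀ x : G, x⁻¹ * g * x ∈ A → x⁻¹ * g * x = 1) → Ψ g = 0
  psi_class : Cfsg.IsClassFunction G Ψ
  psi_norm : Cfsg.classInner Ψ Ψ = (e : ℂ) + 1
  psi_one : Cfsg.classInner (fun _ => (1 : ℂ)) Ψ = 1
  coef_int : ∀ φ : G → ℂ, Cfsg.IsIrrCharacter G φ → ∃ k : ℤ, Cfsg.classInner φ Ψ = k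
  coef_conj : ∀ φ : G → ℂ, Cfsg.IsIrrCharacter G φ → (∀ j, φ ≠ θ j) →
    (∀ j, (fun g => conj (φ g)) ≠ θ j) ∧
      Cfsg.classInner (fun g => conj (φ g)) Ψ = Cfsg.classInner φ Ψ
  coef_sq : (1 : ℝ) ≤ ∑ j, Complex.normSq (Cfsg.classInner (θ j) Ψ)
  coef_odd : ∃ k : ℤ, Odd k ∧ ∑ j, Cfsg.classInner (θ j) Ψ = (k : ℂ)
  self_sq : ∀ j, (e : ℝ) * Nat.card A - (e : ℝ) ^ 2 * Nat.card (commutator A) ≤
    ∑ a ∈ nonId A, Complex.normSq (θ j a)
  other_sq : ∀ φ : G → ℂ, Cfsg.IsIrrCharacter G φ → (∀ j, φ ≠ θ j) → ∀ k : ℤ,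
    Cfsg.classInner φ Ψ = k →
      (Nat.card (commutator A) : ℝ) * (w * e : ℕ) * (k : ℝ) ^ 2 ≤
        ∑ a ∈ nonId A, Complex.normSq (φ a)

theorem exists_cnFamily (A : Subgroup G) (hA : IsCentralizerClosed A)
    (hAn : Group.IsNilpotent A) (hodd : Odd (Nat.card G)) (hA1 : 1 < Nat.card A)
    (hne : ¬ Subgroup.normalizer (A : Set G) ≤ A) :
    ∃ (e w : ℕ) (θ : Fin w → G → ℂ) (Ψ : G → ℂ), 3 ≤ e ∧
      Nat.card (Subgroup.normalizer (A : Set G)) = e * Nat.card A ∧ CNFamily A e w θ Ψ := by
  classical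
  set N := Subgroup.normalizer (A : Set G) with hN
  set A' := A.subgroupOf N with hA'
  have hAN : A ≤ N := Subgroup.le_normalizer
  have hA'n : A'.Normal := ⟨fun a ha n => by
    rw [hA', Subgroup.mem_subgroupOf] at ha ⊢
    simpa using (Subgroup.mem_normalizer_iff.mp n.2 (a : G)).mp ha⟩
  have := Fintype.ofFinite N
  have := Fintype.ofFinite A'
  have : Finite (Abelianization A') := inferInstanceAs (Finite (A' ⧸ commutator A'))
  have : Finite (A' →* ℂˣ) := Nat.finite_of_card_ne_zero (by
    rw [natCard_linear]; exact Subgroup.index_ne_zero_of_finite)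
  have := Fintype.ofFinite (A' →* ℂˣ)
  let eqv : A' ≃* A := Subgroup.subgroupOfEquivOfLe hAN
  have hcA' : Nat.card A' = Nat.card A := Nat.card_congr eqv.toEquiv
  have hD : (commutator A').map eqv.toMonoidHom = commutator A := by
    rw [commutator_def, Subgroup.map_commutator, Subgroup.map_top_of_surjective _ eqv.surjective,
      commutator_def]
  have hDcard : Nat.card (commutator A') = Nat.card (commutator A) := by
    rw [← hD]; exact (Subgroup.card_map_of_injective eqv.injective).symm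
  have hDidx : (commutator A').index = (commutator A).index := by
    rw [← hD]; exact (Subgroup.index_map_equiv (commutator A') eqv).symm
  set δ := Nat.card (commutator A) with hδ
  set mb := (commutator A).index with hmb
  have hδm : δ * mb = Nat.card A := Subgroup.card_mul_index _
  set e := A'.index with he
  have hcN : Nat.card N = e * Nat.card A := by rw [he, ← hcA', Subgroup.index_mul_card]
  have hodde : Odd e :=
    hodd.of_dvd_nat ((Dvd.intro _ hcN.symm).trans N.card_subgroup_dvd_card)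
  have he3 : 3 ≤ e := by
    have h1 : e ≠ 1 := fun h => hne (Subgroup.subgroupOf_eq_top.mp (Subgroup.index_eq_one.mp h))
    obtain ⟨k, hk⟩ := hodde
    omega
  have hoddmb : Odd mb :=
    hodd.of_dvd_nat ((Subgroup.index_dvd_card _).trans A.card_subgroup_dvd_card)
  have hmb1 : mb ≠ 1 := by
    intro h
    have : Nontrivial A := Finite.one_lt_card_iff_nontrivial.mp hA1
    exact (Group.IsSolvable.commutator_lt_top_of_nontrivial A).ne (Subgroup.index_eq_one.mp h)
  have hC : ∀ n ∈ A', n ≠ 1 → Subgroup.centralizer ({n} : Set N) ≤ A' := fun n hn hn1 x hx => by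
    rw [hA', Subgroup.mem_subgroupOf] at hn ⊢
    exact hA _ hn (fun h => hn1 (Subtype.ext h)) (Subgroup.mem_centralizer_singleton_iff.mpr
      (congr_arg Subtype.val (Subgroup.mem_centralizer_singleton_iff.mp hx)))
  have hTI : ∀ g : G, g ∉ Subgroup.normalizer (A : Set G) →
      ∀ s ∈ (A : Set G), g * s * g⁻¹ ∈ (A : Set G) → s = 1 := by
    intro g hg s hs hgs
    by_contra hs1
    have hcl : IsCentralizerClosed (MulAut.conj g • A) := by
      intro x hx hx1 y hy
      rw [Solvable.mem_conj_smul] at hx ⊢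
      refine hA _ hx (fun e => hx1 ?_) (Subgroup.mem_centralizer_singleton_iff.mpr ?_)
      · have := congr_arg (fun t => g * t * g⁻¹) e
        simpa [mul_assoc] using this
      · have h := Subgroup.mem_centralizer_singleton_iff.mp hy
        calc g⁻¹ * y * g * (g⁻¹ * x * g) = g⁻¹ * (y * x) * g := by group
          _ = g⁻¹ * (x * y) * g := by rw [h]
          _ = _ := by group
    have hAn' : Group.IsNilpotent (MulAut.conj g • A : Subgroup G) :=
      Group.nilpotent_of_mulEquiv (Subgroup.equivSMul (MulAut.conj g) A)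
    refine hg (Solvable.conj_smul_eq_self_iff.mp (hA.eq_of_mem hcl hAn hAn' hgs ?_ ?_).symm)
    · rw [Solvable.mem_conj_smul]; simpa [mul_assoc] using hs
    · exact fun h => hs1 (by simpa using h)
  -- the induced characters
  let ev : (A' →* ℂˣ) → A' → ℂ := fun l a => (l a : ℂ)
  have hev : ∀ l, Cfsg.IsIrrCharacter A' (ev l) := fun l => isIrrCharacter_linear l
  have hevinj : Function.Injective ev := fun l l' h =>
    MonoidHom.ext fun a => Units.ext (congr_fun h a)
  have hev1 : ev 1 = fun _ => 1 := funext fun a => by simp [ev]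
  set Λ := (Finset.univ : Finset (A' →* ℂˣ)).erase 1 with hΛ
  set X := Λ.image fun l => Cfsg.indFun A' (ev l) with hX
  have hirr : ∀ χ ∈ X, Cfsg.IsIrrCharacter N χ := fun χ hχ => by
    obtain ⟨l, hl, rfl⟩ := Finset.mem_image.mp hχ
    exact Clifford.isIrrCharacter_indFun_of_centralizer_le hC (hev l)
      fun h => (Finset.mem_erase.mp hl).1 (hevinj (h.trans hev1.symm))
  have hone : ∀ χ ∈ X, χ 1 = (e : ℂ) := fun χ hχ => by
    obtain ⟨l, -, rfl⟩ := Finset.mem_image.mp hχ
    rw [indFun_apply_one]; simp [ev, ← he]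
  have hvanl : ∀ (f : A' → ℂ) (x : N), (x : G) ∉ A → Cfsg.indFun A' f x = 0 := fun f x hx => by
    rw [indFun_def, Finset.sum_eq_zero, mul_zero]
    intro y _
    refine extendByZero_of_not_mem _ fun h => hx ?_
    have h2 := hA'n.conj_mem _ h y
    rw [show y * (y⁻¹ * x * y) * y⁻¹ = x by group] at h2
    exact h2
  have hvan : ∀ χ ∈ X, ∀ x : N, (x : G) ∉ A → χ x = 0 := fun χ hχ x hx => by
    obtain ⟨l, -, rfl⟩ := Finset.mem_image.mp hχ
    exact hvanl _ x hx
  have honD : ∀ χ ∈ X, ∀ a : A', a ∈ commutator A' → χ a = (e : ℂ) := fun χ hχ a ha => by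
    obtain ⟨l, -, rfl⟩ := Finset.mem_image.mp hχ
    have hc : ∀ y : N, Cfsg.extendByZero A' (ev l) (y⁻¹ * (a : N) * y) = 1 := fun y => by
      have hm : y⁻¹ * (a : N) * y ∈ A' := by simpa using hA'n.conj_mem _ a.2 y⁻¹
      rw [extendByZero_of_mem _ hm]
      have hmem : (⟨y⁻¹ * (a : N) * y, hm⟩ : A') ∈ commutator A' := by
        have hn : ((commutator A').map A'.subtype).Normal := inferInstance
        obtain ⟨b, hb, hb'⟩ := hn.conj_mem _ ⟨a, ha, rfl⟩ y⁻¹
        have heq : (⟨y⁻¹ * (a : N) * y, hm⟩ : A') = b :=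
          Subtype.ext (by rw [inv_inv] at hb'; exact hb'.symm)
        rw [heq]; exact hb
      simp [ev, linear_eq_one_of_mem_commutator l hmem]
    rw [indFun_def]
    simp only [hc, Finset.sum_const, Finset.card_univ, nsmul_eq_mul, mul_one,
      ← Nat.card_eq_fintype_card, hcN, ← hcA']
    have := natCard_ne_zero (G := A')
    push_cast
    field_simp
  have hcoef : ∀ χ ∈ X, ∀ l : A' →* ℂˣ, Cfsg.classInner (fun a : A' => χ a) (ev l) =
      if l ∈ Λ ∧ Cfsg.indFun A' (ev l) = χ then 1 else 0 := by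
    intro χ hχ l
    have hfr : Cfsg.classInner (fun a : A' => χ a) (ev l) =
        conj (Cfsg.classInner (Cfsg.indFun A' (ev l)) χ) := by
      rw [frobenius_reciprocity A' _ χ (irr_isClassFunction (hirr χ hχ)), classInner_conj_symm]
    rw [hfr]
    by_cases hl : l ∈ Λ
    · rw [irr_classInner (hirr _ (Finset.mem_image_of_mem _ hl)) (hirr χ hχ)]
      by_cases hh : Cfsg.indFun A' (ev l) = χ <;> simp [hl, hh]
    · rw [if_neg fun h => hl h.1]
      obtain rfl : l = 1 := by simpa [Λ] using hl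
      have hsum : ∑ y : N, Cfsg.indFun A' (ev 1) y * conj (χ y) = (e : ℂ) * ∑ y : N, conj (χ y) := by
        rw [Finset.mul_sum]
        refine Finset.sum_congr rfl fun y _ => ?_
        by_cases hy : (y : G) ∈ A
        · rw [indFun_def, Finset.sum_congr rfl fun z _ => extendByZero_of_mem (ev 1)
            (g := z⁻¹ * y * z) (by simpa using hA'n.conj_mem _ (Subgroup.mem_subgroupOf.mpr hy) z⁻¹)]
          simp only [hev1, Finset.sum_const, Finset.card_univ, nsmul_eq_mul, mul_one,
            ← Nat.card_eq_fintype_card, hcN, ← hcA']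
          have := natCard_ne_zero (G := A')
          push_cast
          field_simp
          exact congr_arg (· * conj (χ y)) (mul_one (e : ℂ))
        · rw [hvan χ hχ y hy]; simp
      have h1 := irr_classInner_ne (isIrrCharacter_one (G := N)) (hirr χ hχ) (fun h => by
        have h1 := hone χ hχ
        rw [← h] at h1
        have : (1 : ℕ) = e := Nat.cast_injective (R := ℂ) (by simpa using h1)
        omega)
      rw [classInner_def] at h1 ⊢
      simp only [one_mul] at h1
      rw [hsum, mul_left_comm, h1, mul_zero, map_zero]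
  have hfib : ∀ χ ∈ X, (Λ.filter fun l => Cfsg.indFun A' (ev l) = χ).card = e := by
    intro χ hχ
    have h := sum_commutator_eq (G := A') (fun a : A' => χ a)
    rw [Finset.sum_congr rfl fun a ha => honD χ hχ a (Finset.mem_filter.mp ha).2,
      Finset.sum_congr rfl fun l _ => hcoef χ hχ l, Finset.sum_boole, Finset.sum_const,
      nsmul_eq_mul, ← Fintype.card_subtype, ← Nat.card_eq_fintype_card] at h
    have h3 := mul_left_cancel₀ (natCard_ne_zero (G := commutator A')) h
    have h4 : Λ.filter (fun l => Cfsg.indFun A' (ev l) = χ) =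
        Finset.univ.filter (fun l => l ∈ Λ ∧ Cfsg.indFun A' (ev l) = χ) := by ext; simp
    rw [h4]; exact_mod_cast h3.symm
  set w := X.card with hw
  have hwe : w * e + 1 = mb := by
    have h := Finset.card_eq_sum_card_image (fun l => Cfsg.indFun A' (ev l)) Λ
    rw [← hX, Finset.sum_congr rfl hfib, Finset.sum_const, smul_eq_mul, ← hw, hΛ] at h
    rw [← h, Finset.card_erase_add_one (Finset.mem_univ _), Finset.card_univ,
      ← Nat.card_eq_fintype_card, natCard_linear, hDidx]
  have hweven : Even w := by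
    have h2 : Odd (w * e + 1) := hwe ▸ hoddmb
    rw [Nat.odd_add_one, Nat.not_odd_iff_even, Nat.even_mul] at h2
    exact h2.resolve_right (Nat.not_even_iff_odd.mpr hodde)
  have hw2 : 2 ≤ w := by
    have : w ≠ 0 := fun h => hmb1 (by rw [← hwe, h]; simp)
    obtain ⟨k, hk⟩ := hweven
    omega
  let en : Fin w ≃ X := X.equivFin.symm
  let χ : Fin w → N → ℂ := fun j => (en j : N → ℂ)
  have hmem : ∀ j, χ j ∈ X := fun j => (en j).2
  have hinj : Function.Injective χ := Subtype.val_injective.comp en.injective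
  obtain ⟨ε, hε, θ, hθ, hθinj, hθe⟩ := exceptional_characters (A : Set G) hTI w hw2 χ
    (fun j => hirr _ (hmem j)) hinj (fun j x hx => hvan _ (hmem j) x hx)
    (fun i j => by rw [hone _ (hmem i), hone _ (hmem j)])
  obtain ⟨εz, hεz, hεz1⟩ : ∃ z : ℤ, (z : ℂ) = ε ∧ (z = 1 ∨ z = -1) := by
    rcases hε with h | h
    · exact ⟨1, by simp [h], Or.inl rfl⟩
    · exact ⟨-1, by simp [h], Or.inr rfl⟩
  have hεsq : ε * ε = 1 := by rcases hε with h' | h' <;> simp [h']
  have hε0 : ε ≠ 0 := by rcases hε with h' | h' <;> simp [h']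
  have hεc : conj ε = ε := by rw [← hεz, map_intCast (starRingEnd ℂ)]
  let j₀ : Fin w := ⟨0, by omega⟩
  obtain ⟨l₀, hl₀, hl₀χ⟩ := Finset.mem_image.mp (hmem j₀)
  set ψ := Cfsg.indFun A' ((fun _ => (1 : ℂ)) - ev l₀) with hψ
  set Ψ := Cfsg.indFun N ψ with hΨ
  have hψgen : Cfsg.IsGeneralizedCharacter N ψ := isGeneralized_indFun _
    (isGeneralized_sub (isGeneralized_of_isCharacter isCharacter_one)
      (isGeneralized_of_isCharacter (irr_isCharacter (hev l₀))))
  have hψv : ∀ x : N, (x : G) ∉ A → ψ x = 0 := hvanl _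
  have hψ1 : ψ 1 = 0 := by simp [hψ, indFun_apply_one, ev]
  -- inner products with `ψ`
  have hfrψ : ∀ f : N → ℂ, Cfsg.IsClassFunction N f → Cfsg.classInner f ψ =
      Cfsg.classInner (fun a : A' => f a) (fun _ => 1) -
        Cfsg.classInner (fun a : A' => f a) (ev l₀) := fun f hf => by
    rw [← classInner_conj_symm, hψ, frobenius_reciprocity A' _ f hf, classInner_conj_symm,
      classInner_sub_right]
  have hχψ : ∀ i, Cfsg.classInner (χ i) ψ = if i = j₀ then -1 else 0 := fun i => by
    rw [hfrψ _ (irr_isClassFunction (hirr _ (hmem i))), ← hev1, hcoef _ (hmem i), hcoef _ (hmem i),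
      if_neg (by simp [Λ] : ¬ ((1 : A' →* ℂˣ) ∈ Λ ∧ _))]
    simp only [hl₀, true_and, hl₀χ, hinj.eq_iff]
    by_cases h : i = j₀ <;> simp [h, Ne.symm]
  have hfrΨ : ∀ φ : G → ℂ, Cfsg.IsClassFunction G φ →
      Cfsg.classInner φ Ψ = Cfsg.classInner (fun n : N => φ n) ψ := fun φ hφ => by
    rw [← classInner_conj_symm, hΨ, frobenius_reciprocity N _ φ hφ, classInner_conj_symm]
  have hΨoff : ∀ g : G, (∀ x : G, x⁻¹ * g * x ∈ A → x⁻¹ * g * x = 1) → Ψ g = 0 := by
    intro g hg
    rw [hΨ, indFun_def, Finset.sum_eq_zero, mul_zero]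
    intro y _
    by_cases hy : y⁻¹ * g * y ∈ N
    · rw [extendByZero_of_mem _ hy]
      by_cases hyA : y⁻¹ * g * y ∈ A
      · rw [show (⟨y⁻¹ * g * y, hy⟩ : N) = 1 from Subtype.ext (hg y hyA), hψ1]
      · exact hψv _ hyA
    · exact extendByZero_of_not_mem _ hy
  -- coefficients of an irreducible character
  have hcoefG : ∀ φ : G → ℂ, Cfsg.IsIrrCharacter G φ → ∃ (a0 : ℤ) (b : Fin w → ℤ),
      Cfsg.classInner (fun a : A' => φ ((a : N) : G)) (fun _ => 1) = a0 ∧
      (∀ l ∈ Λ, ∀ j, Cfsg.indFun A' (ev l) = χ j →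
        Cfsg.classInner (fun a : A' => φ ((a : N) : G)) (ev l) = b j) ∧
      (∀ j, Cfsg.classInner (fun n : N => φ n) (χ j) = b j) ∧
      (∀ i j, (b i : ℂ) - b j = ε * ((if θ i = φ then 1 else 0) - (if θ j = φ then 1 else 0))) ∧
      Cfsg.classInner φ Ψ = ((a0 - b j₀ : ℤ) : ℂ) := by
    intro φ hφ
    have hφN := isCharacter_restrict (irr_isCharacter hφ) N
    have hφA := isCharacter_restrict hφN A'
    obtain ⟨a0, ha0⟩ := classInner_isCharacter_nat hφA (isCharacter_one (G := A'))
    choose b hb using fun j => classInner_isCharacter_nat hφN (irr_isCharacter (hirr _ (hmem j)))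
    have hbl : ∀ l ∈ Λ, ∀ j, Cfsg.indFun A' (ev l) = χ j →
        Cfsg.classInner (fun a : A' => φ ((a : N) : G)) (ev l) = (b j : ℂ) := fun l _ j hlj => by
      rw [← classInner_conj_symm, ← frobenius_reciprocity A' _ (fun n : N => φ n)
        (isCharacter_isClassFunction hφN), hlj, classInner_conj_symm, hb]
    refine ⟨a0, fun j => b j, by rw [ha0]; push_cast; rfl, fun l hl j h => by
      rw [hbl l hl j h]; push_cast; rfl, fun j => by rw [hb]; push_cast; rfl, fun i j => ?_, ?_⟩
    · have hbc : ∀ i, Cfsg.classInner (χ i) (fun n : N => φ n) = (b i : ℂ) := fun i => by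
        rw [← classInner_conj_symm, hb, map_natCast]
      have h := congr_arg (fun f => Cfsg.classInner f φ) (hθe i j)
      simp only [classInner_sub_left, classInner_smul_left] at h
      rw [frobenius_reciprocity N _ φ (irr_isClassFunction hφ),
        frobenius_reciprocity N _ φ (irr_isClassFunction hφ), hbc, hbc, irr_classInner (hθ i) hφ,
        irr_classInner (hθ j) hφ] at h
      push_cast
      exact h
    · rw [hfrΨ φ (irr_isClassFunction hφ), hfrψ _ (isCharacter_isClassFunction hφN), ha0,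
        hbl l₀ hl₀ j₀ hl₀χ]
      push_cast
      rfl
  -- the coefficient of an exceptional character
  have hkθ : ∀ j, Cfsg.classInner (θ j) Ψ =
      (Cfsg.classInner (θ j₀) Ψ + ε) - ε * (if j = j₀ then 1 else 0) := fun j => by
    have h : Cfsg.classInner (ε • (θ j - θ j₀)) Ψ = Cfsg.classInner (χ j - χ j₀) ψ := by
      rw [← hθe j j₀, hΨ, ← indFun_sub]
      exact classInner_indFun_ti (A : Set G) hTI _ _ (isGeneralized_isClassFunction hψgen)
        (fun x hx => by simp [hvan _ (hmem j) x hx, hvan _ (hmem j₀) x hx]) hψv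
        (by simp [hone _ (hmem j), hone _ (hmem j₀)])
    rw [classInner_smul_left, classInner_sub_left, classInner_sub_left, hχψ, hχψ, if_pos rfl] at h
    split_ifs at h ⊢ with hj <;>
      linear_combination ε * h - (Cfsg.classInner (θ j) Ψ - Cfsg.classInner (θ j₀) Ψ) * hεsq
  obtain ⟨k₀, hk₀⟩ : ∃ k : ℤ, Cfsg.classInner (θ j₀) Ψ = k := by
    obtain ⟨a0, b, -, -, -, -, h⟩ := hcoefG _ (hθ j₀)
    exact ⟨_, h⟩
  have hkθ' : ∀ j, Cfsg.classInner (θ j) Ψ =
      ((k₀ : ℂ) + ε) - ε * (if j = j₀ then 1 else 0) := fun j => by rw [hkθ j, hk₀]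
  -- sums over `A'` outside the commutator subgroup
  set S := (Finset.univ : Finset A').filter fun a => a ∉ commutator A' with hS
  have hsumS : ∀ f : A' → ℂ, ∑ a ∈ S, f a =
      (Nat.card A : ℂ) * Cfsg.classInner f (fun _ => 1) -
        (δ : ℂ) * ∑ l : A' →* ℂˣ, Cfsg.classInner f (ev l) := fun f => by
    have h := Finset.sum_filter_add_sum_filter_not (Finset.univ : Finset A')
      (fun a => a ∈ commutator A') f
    rw [sum_commutator_eq f, hDcard] at h
    have h2 : (Nat.card A : ℂ) * Cfsg.classInner f (fun _ => 1) = ∑ a : A', f a := by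
      rw [classInner_def, ← hcA', mul_inv_cancel_left₀ natCard_ne_zero]; simp
    rw [h2, ← h, hS]
    ring
  have hScard : (S.card : ℂ) = (δ : ℂ) * (w * e : ℕ) := by
    have h := Finset.card_filter_add_card_filter_not (s := (Finset.univ : Finset A'))
      (fun a => a ∈ commutator A')
    rw [← Fintype.card_subtype, ← Nat.card_eq_fintype_card, hDcard, Finset.card_univ,
      ← Nat.card_eq_fintype_card, hcA', ← hS, ← hδm, ← hwe] at h
    have h2 : S.card = δ * (w * e) := by rw [mul_add, mul_one] at h; omega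
    exact_mod_cast h2
  have hT : ∀ (f : A' → ℂ) (a0 : ℂ) (b : Fin w → ℂ), Cfsg.classInner f (fun _ => 1) = a0 →
      (∀ l ∈ Λ, ∀ j, Cfsg.indFun A' (ev l) = χ j → Cfsg.classInner f (ev l) = b j) →
      ∑ l : A' →* ℂˣ, Cfsg.classInner f (ev l) = a0 + (e : ℂ) * ∑ j, b j := by
    intro f a0 b h0 hb
    rw [← Finset.add_sum_erase _ _ (Finset.mem_univ (1 : A' →* ℂˣ)), hev1, h0, ← hΛ,
      ← Finset.sum_fiberwise_of_maps_to (t := X) (fun l hl => Finset.mem_image_of_mem _ hl)
        (fun l => Cfsg.classInner f (ev l)), Finset.mul_sum, ← Finset.sum_coe_sort X,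
      ← Equiv.sum_comp en]
    congr 1
    refine Finset.sum_congr rfl fun j _ => ?_
    rw [Finset.sum_congr rfl fun l hl => hb l (Finset.mem_filter.mp hl).1 j
      (Finset.mem_filter.mp hl).2, Finset.sum_const, hfib _ (hmem j), nsmul_eq_mul]
  have htoNonId : ∀ φ : G → ℂ,
      ∑ a ∈ S, Complex.normSq (φ ((a : N) : G)) ≤ ∑ a ∈ nonId A, Complex.normSq (φ a) := fun φ => by
    rw [← Finset.sum_image (f := fun a => Complex.normSq (φ a))
      (g := fun a : A' => ((a : N) : G)) (fun a _ b _ h => Subtype.ext (Subtype.ext h))]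
    refine Finset.sum_le_sum_of_subset_of_nonneg (fun x hx => ?_)
      fun x _ _ => Complex.normSq_nonneg _
    obtain ⟨a, ha, rfl⟩ := Finset.mem_image.mp hx
    exact mem_nonId.mpr ⟨Subgroup.mem_subgroupOf.mp a.2, fun h => (Finset.mem_filter.mp ha).2
      ((show a = 1 from Subtype.ext (Subtype.ext h)).symm ▸ one_mem _)⟩
  -- sums of exceptional and induced characters over `S`
  have hχA : ∀ (f : N → ℂ) j, ∑ a ∈ S, f a * conj (χ j a) =
      (e : ℂ) * Nat.card A * Cfsg.classInner f (χ j) -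
        (e : ℂ) * ((δ : ℂ) * ∑ l : A' →* ℂˣ, Cfsg.classInner (fun a : A' => f a) (ev l)) := by
    intro f j
    have h1 : ∑ y : N, f y * conj (χ j y) = ∑ a : A', f a * conj (χ j a) := by
      rw [← Finset.sum_filter_of_ne (p := fun y : N => y ∈ A') (fun y _ hne' => by
        by_contra hy
        exact hne' (by rw [hvan _ (hmem j) y (fun h => hy (Subgroup.mem_subgroupOf.mpr h)),
          map_zero, mul_zero]))]
      exact Finset.sum_subtype _ (fun y => by simp) _
    have h2 := Finset.sum_filter_add_sum_filter_not (Finset.univ : Finset A')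
      (fun a => a ∈ commutator A') (fun a => f a * conj (χ j a))
    rw [← h1] at h2
    have h3 : ∑ y : N, f y * conj (χ j y) =
        (e : ℂ) * Nat.card A * Cfsg.classInner f (χ j) := by
      rw [classInner_def, hcN]
      have := natCard_ne_zero (G := A)
      have : (e : ℂ) ≠ 0 := by exact_mod_cast (by omega : e ≠ 0)
      push_cast
      field_simp
    rw [h3, Finset.sum_congr (s₁ := Finset.univ.filter fun a : A' => a ∈ commutator A') rfl
      fun (a : A') ha => show f a * conj (χ j a) = f a * (e : ℂ) by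
      rw [honD _ (hmem j) a (Finset.mem_filter.mp ha).2, map_natCast], ← Finset.sum_mul,
      sum_commutator_eq (fun a : A' => f a), hDcard] at h2
    rw [hS]
    linear_combination h2
  have hsumb : ∀ (j : Fin w) (z : ℂ), ∑ i, (z + ε * (if i = j then 1 else 0)) = w * z + ε := by
    intro j z
    simp [Finset.sum_add_distrib, mul_ite]
  refine ⟨e, w, θ, Ψ, he3, hcN, hw2, hweven, hwe, hθ, hθinj, ?_, ?_, hΨoff,
    indFun_isClassFunction _ _, ?_, ?_,
    fun φ hφ => ?_, ?_, ?_, ?_, ?_, ?_⟩
  · -- the trivial character is not exceptional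
    intro j hj
    have hone1 : ∀ i, Cfsg.classInner (χ i) (fun _ : N => (1 : ℂ)) = 0 := fun i =>
      irr_classInner_ne (hirr _ (hmem i)) isIrrCharacter_one fun h => by
        have h1 := hone _ (hmem i)
        rw [h] at h1
        have : (1 : ℕ) = e := Nat.cast_injective (R := ℂ) (by simpa using h1)
        omega
    have : Nontrivial (Fin w) := Fin.nontrivial_iff_two_le.mpr hw2
    obtain ⟨i, hi⟩ := exists_ne j
    obtain ⟨a0, b, -, -, hb, hbd, -⟩ := hcoefG _ (isIrrCharacter_one (G := G))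
    have h := hbd i j
    have hb0 : ∀ i, (b i : ℂ) = 0 := fun i => by
      rw [← hb i, ← classInner_conj_symm, hone1, map_zero]
    rw [hb0, hb0, if_pos hj, if_neg (fun h' => hi (hθinj (h'.trans hj.symm))), sub_self, zero_sub,
      mul_neg, mul_one, zero_eq_neg] at h
    exact hε0 h
  · intro j k g hg
    have h := congr_fun (hθe j k) g
    rw [← indFun_sub, indFun_def, Finset.sum_eq_zero, mul_zero] at h
    · simp only [Pi.smul_apply, Pi.sub_apply, smul_eq_mul] at h
      exact sub_eq_zero.mp ((mul_eq_zero.mp h.symm).resolve_left hε0)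
    · intro y _
      by_cases hy : y⁻¹ * g * y ∈ N
      · rw [extendByZero_of_mem _ hy, Pi.sub_apply]
        by_cases hyA : y⁻¹ * g * y ∈ A
        · have h1 : (⟨y⁻¹ * g * y, hy⟩ : N) = 1 := Subtype.ext (hg y hyA)
          rw [h1, hone _ (hmem j), hone _ (hmem k), sub_self]
        · rw [hvan _ (hmem j) _ hyA, hvan _ (hmem k) _ hyA, sub_self]
      · exact extendByZero_of_not_mem _ hy
  · -- norm of `Ψ`
    rw [hΨ, classInner_indFun_ti (A : Set G) hTI _ _ (isGeneralized_isClassFunction hψgen) hψv hψv hψ1]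
    have h1 : ψ = Cfsg.indFun A' (fun _ => (1 : ℂ)) - χ j₀ := by rw [hψ, indFun_sub, ← hl₀χ]
    have h2 : Cfsg.classInner (Cfsg.indFun A' (fun _ => (1 : ℂ))) ψ = (e : ℂ) := by
      rw [frobenius_reciprocity A' _ _ (isGeneralized_isClassFunction hψgen)]
      have h3 : (fun a : A' => ψ a) = (e : ℂ) • (fun _ : A' => (1 : ℂ)) - fun a : A' => χ j₀ a := by
        funext a
        rw [h1, Pi.sub_apply, Pi.sub_apply, indFun_def,
          Finset.sum_congr rfl fun z _ => extendByZero_of_mem (fun _ : A' => (1 : ℂ))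
            (g := z⁻¹ * (a : N) * z) (by simpa using hA'n.conj_mem _ a.2 z⁻¹)]
        simp only [Finset.sum_const, Finset.card_univ, nsmul_eq_mul, mul_one,
            ← Nat.card_eq_fintype_card, hcN, ← hcA', Pi.smul_apply, smul_eq_mul]
        have := natCard_ne_zero (G := A')
        push_cast
        field_simp
      rw [h3, classInner_sub_right, classInner_smul_right,
        irr_classInner_self (isIrrCharacter_one (G := A')), ← classInner_conj_symm, ← hev1,
        hcoef _ (hmem j₀), if_neg (by simp [Λ] : ¬ ((1 : A' →* ℂˣ) ∈ Λ ∧ _))]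
      simp
    rw [show Cfsg.classInner ψ ψ = Cfsg.classInner (Cfsg.indFun A' (fun _ => (1 : ℂ))) ψ -
        Cfsg.classInner (χ j₀) ψ by rw [← classInner_sub_left, ← h1], h2, hχψ, if_pos rfl]
    ring
  · rw [hfrΨ _ (irr_isClassFunction isIrrCharacter_one),
      hfrψ _ (irr_isClassFunction isIrrCharacter_one), irr_classInner_self isIrrCharacter_one,
      irr_classInner_ne isIrrCharacter_one (hev l₀)
        (fun h => (Finset.mem_erase.mp hl₀).1 (hevinj (h.symm.trans hev1.symm))), sub_zero]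
  · obtain ⟨a0, b, -, -, -, -, h⟩ := hcoefG φ hφ
    exact ⟨_, h⟩
  · -- complex conjugation
    intro φ hφ hne'
    obtain ⟨a0, b, ha0, -, hb, hbd, hk⟩ := hcoefG φ hφ
    obtain ⟨a0', b', ha0', -, hb', hbd', hk'⟩ := hcoefG _ (isIrrCharacter_conj hφ)
    have hbeq : ∀ i, (b i : ℂ) = b j₀ := fun i => by
      have h := hbd i j₀
      rw [if_neg (fun h => hne' i h.symm), if_neg (fun h => hne' j₀ h.symm), sub_self, mul_zero] at h
      exact sub_eq_zero.mp h
    have hσ : ∀ i, ∃ i', (b' i : ℂ) = b i' := fun i => by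
      obtain ⟨l, hl, hlχ⟩ := Finset.mem_image.mp (hmem i)
      have hl' : l⁻¹ ∈ Λ := Finset.mem_erase.mpr
        ⟨fun h => (Finset.mem_erase.mp hl).1 (MonoidHom.ext fun a => inv_eq_one.mp (by rw [← MonoidHom.inv_apply, h]; rfl)), Finset.mem_univ _⟩
      refine ⟨en.symm ⟨_, Finset.mem_image_of_mem _ hl'⟩, ?_⟩
      have hχ' : χ (en.symm ⟨_, Finset.mem_image_of_mem _ hl'⟩) = fun y => conj (χ i y) := by
        simp only [χ, Equiv.apply_symm_apply]
        funext y
        rw [show (en i : N → ℂ) = χ i from rfl, ← hlχ, indFun_def, indFun_def, map_mul, map_inv₀,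
          map_natCast, map_sum]
        congr 1
        refine Finset.sum_congr rfl fun z _ => ?_
        by_cases hz : z⁻¹ * y * z ∈ A'
        · rw [extendByZero_of_mem _ hz, extendByZero_of_mem _ hz]
          exact (conj_linear_apply l _).symm
        · rw [extendByZero_of_not_mem _ hz, extendByZero_of_not_mem _ hz, map_zero]
      rw [← map_intCast (starRingEnd ℂ) (b' i), ← hb, hχ', ← hb', classInner_def, classInner_def,
        map_mul, map_inv₀, map_natCast, map_sum]
      congr 1
      refine Finset.sum_congr rfl fun y _ => ?_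
      simp [mul_comm]
    have hb'eq : ∀ i, (b' i : ℂ) = b j₀ := fun i => by
      obtain ⟨i', h⟩ := hσ i; rw [h, hbeq]
    refine ⟨fun j hj => ?_, ?_⟩
    · have : Nontrivial (Fin w) := Fin.nontrivial_iff_two_le.mpr hw2
      obtain ⟨i, hi⟩ := exists_ne j
      have h := hbd' i j
      rw [hb'eq, hb'eq, sub_self, if_pos hj.symm, if_neg (fun h' => hi (hθinj (h'.trans hj))),
        zero_sub, mul_neg, mul_one, zero_eq_neg] at h
      exact hε0 h
    · have h0 : (a0' : ℂ) = a0 := by
        rw [← ha0', ← map_intCast (starRingEnd ℂ) a0, ← ha0, classInner_def, classInner_def, map_mul,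
          map_inv₀, map_natCast, map_sum]
        simp
      rw [hk, hk']
      push_cast
      rw [h0, hb'eq]
  · -- sum of squares of the coefficients
    have h : ((∑ j, Complex.normSq (Cfsg.classInner (θ j) Ψ) : ℝ) : ℂ) =
        ((((w : ℤ) * (k₀ + εz) ^ 2 - 2 * εz * (k₀ + εz) + 1 : ℤ) : ℝ) : ℂ) := by
      push_cast
      simp only [← Complex.mul_conj, hkθ', hεz, map_sub, map_add, map_mul, hεc,
        map_intCast (starRingEnd ℂ)]
      have : ∀ j : Fin w, ((k₀ : ℂ) + ε - ε * (if j = j₀ then 1 else 0)) *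
          ((k₀ : ℂ) + ε - ε * conj ((if j = j₀ then 1 else 0) : ℂ)) =
          ((k₀ : ℂ) + ε) ^ 2 + (if j = j₀ then 1 - 2 * ε * ((k₀ : ℂ) + ε) else 0) := by
        intro j
        split_ifs
        · rw [map_one]; linear_combination hεsq
        · rw [map_zero]; ring
      simp only [this, Finset.sum_add_distrib, Finset.sum_const, Finset.card_univ, Fintype.card_fin,
        nsmul_eq_mul, Finset.sum_ite_eq', Finset.mem_univ, if_true]
      ring
    rw [Complex.ofReal_inj.mp h]
    have hz : (1 : ℤ) ≤ (w : ℤ) * (k₀ + εz) ^ 2 - 2 * εz * (k₀ + εz) + 1 := by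
      have hw' : (2 : ℤ) ≤ w := by exact_mod_cast hw2
      generalize k₀ + εz = c
      rcases eq_or_ne c 0 with h0 | h0
      · simp [h0]
      rcases lt_or_gt_of_ne h0 with h1 | h1 <;> rcases hεz1 with h' | h' <;> rw [h'] <;>
        nlinarith
    exact_mod_cast hz
  · refine ⟨w * (k₀ + εz) - εz, ?_, ?_⟩
    · obtain ⟨k, hk⟩ := hweven
      have hk' : (w : ℤ) = k + k := by exact_mod_cast hk
      rcases hεz1 with h | h <;> rw [h, hk'] <;> [exact ⟨k * (k₀ + 1) - 1, by ring⟩;
        exact ⟨k * (k₀ - 1), by ring⟩]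
    · simp only [hkθ', Finset.sum_sub_distrib, Finset.sum_const, Finset.card_univ,
        Fintype.card_fin, nsmul_eq_mul, mul_ite, mul_one, mul_zero, Finset.sum_ite_eq',
        Finset.mem_univ, if_true]
      push_cast
      rw [hεz]
  · -- the exceptional characters on `A`
    intro j
    refine le_trans ?_ (htoNonId (θ j))
    obtain ⟨a0, b, ha0, hbl, hb, hbd, hk⟩ := hcoefG _ (hθ j)
    have hbi : ∀ i, (b i : ℂ) = (b j : ℂ) - ε + ε * (if i = j then 1 else 0) := fun i => by
      have h := hbd i j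
      rw [if_pos rfl] at h
      simp only [hθinj.eq_iff] at h
      linear_combination h
    set c : ℤ := a0 - b j + εz with hc
    set p : A' → ℂ := fun a => ε * χ j a + c
    set V : ℝ := (δ : ℝ) * ((e : ℝ) * (mb - e) + e * (w * (c : ℝ) ^ 2 - 2 * εz * c)) with hV
    have hcA : (Nat.card A : ℂ) = (δ : ℂ) * mb := by exact_mod_cast hδm.symm
    have hmbc : (mb : ℂ) = (w : ℂ) * e + 1 := by exact_mod_cast hwe.symm
    have hTθ := hT _ _ _ ha0 hbl
    rw [Finset.sum_congr rfl fun i _ => hbi i, hsumb] at hTθ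
    have h1 : ∑ a ∈ S, θ j ((a : N) : G) * conj (p a) = (V : ℂ) := by
      simp only [p, map_add, map_mul, hεc, map_intCast (starRingEnd ℂ), mul_add,
        Finset.sum_add_distrib, mul_left_comm _ ε, ← Finset.mul_sum, ← Finset.sum_mul]
      rw [hχA (fun n : N => θ j n) j, hsumS, hb j, ha0, hTθ, hcA, hmbc, hV, hc]
      push_cast
      rw [hεz, hmbc]
      linear_combination (e : ℂ) * δ * ((w : ℂ) * e + 1 - e) * hεsq
    have hχχ : ∑ a ∈ S, χ j a * conj (χ j a) = (δ : ℂ) * ((e : ℂ) * mb - (e : ℂ) * e) := by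
      rw [hχA (χ j) j, irr_classInner_self (hirr _ (hmem j)), Finset.sum_congr rfl
        fun l _ => hcoef _ (hmem j) l, Finset.sum_boole, hcA]
      rw [show (Finset.univ.filter fun l => l ∈ Λ ∧ Cfsg.indFun A' (ev l) = χ j).card = e by
        rw [← hfib _ (hmem j)]; congr 1; ext; simp]
      ring
    have hχ1 : ∑ a ∈ S, χ j a = -((δ : ℂ) * e) := by
      rw [hsumS, Finset.sum_congr rfl fun l _ => hcoef _ (hmem j) l, Finset.sum_boole,
        ← hev1, hcoef _ (hmem j), if_neg (by simp [Λ] : ¬ ((1 : A' →* ℂˣ) ∈ Λ ∧ _))]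
      rw [show (Finset.univ.filter fun l => l ∈ Λ ∧ Cfsg.indFun A' (ev l) = χ j).card = e by
        rw [← hfib _ (hmem j)]; congr 1; ext; simp]
      ring
    have h2 : ∑ a ∈ S, p a * conj (p a) = (V : ℂ) := by
      have hstep : ∀ a ∈ S, p a * conj (p a) = χ j a * conj (χ j a) +
            (c : ℂ) * ε * χ j a + (c : ℂ) * ε * conj (χ j a) + (c : ℂ) * c := by
        intro a _
        simp only [p, map_add, map_mul, hεc, map_intCast (starRingEnd ℂ)]
        linear_combination χ j a * conj (χ j a) * hεsq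
      rw [Finset.sum_congr rfl hstep]
      simp only [Finset.sum_add_distrib, ← Finset.mul_sum, ← map_sum, hχ1, hχχ, map_neg, map_mul,
        map_natCast, Finset.sum_const, nsmul_eq_mul]
      rw [hScard, hV]
      push_cast
      rw [hεz, hmbc]
      ring
    refine le_trans ?_ (sum_normSq_ge S _ p V h1 h2)
    have hz : (0 : ℤ) ≤ (w : ℤ) * c ^ 2 - 2 * εz * c := by
      have hw' : (2 : ℤ) ≤ w := by exact_mod_cast hw2
      rcases eq_or_ne c 0 with h0 | h0
      · simp [h0]
      rcases lt_or_gt_of_ne h0 with h1 | h1 <;> rcases hεz1 with h' | h' <;> rw [h'] <;>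
        nlinarith
    have hz' : (0 : ℝ) ≤ (w : ℝ) * (c : ℝ) ^ 2 - 2 * (εz : ℝ) * c := by exact_mod_cast hz
    have hcAr : (Nat.card A : ℝ) = (δ : ℝ) * mb := by exact_mod_cast hδm.symm
    have h0 : (0 : ℝ) ≤ δ * (e * ((w : ℝ) * (c : ℝ) ^ 2 - 2 * (εz : ℝ) * c)) := by positivity
    rw [hV, hcAr]
    linarith
  · intro φ hφ hne' k hk
    refine le_trans ?_ (htoNonId φ)
    obtain ⟨a0, b, ha0, hbl, hb, hbd, hk'⟩ := hcoefG φ hφ
    have hbi : ∀ i, (b i : ℂ) = b j₀ := fun i => by
      have h := hbd i j₀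
      rw [if_neg (fun h => hne' i h.symm), if_neg (fun h => hne' j₀ h.symm), sub_self, mul_zero] at h
      exact sub_eq_zero.mp h
    have hTφ := hT _ _ _ ha0 hbl
    rw [Finset.sum_congr rfl fun i _ => hbi i, Finset.sum_const, Finset.card_univ, Fintype.card_fin,
      nsmul_eq_mul] at hTφ
    have hkz : (k : ℂ) = (a0 : ℂ) - b j₀ := by rw [← hk, hk']; push_cast; rfl
    have hcA : (Nat.card A : ℂ) = (δ : ℂ) * ((w : ℂ) * e + 1) := by
      rw [← hwe] at hδm; exact_mod_cast hδm.symm
    refine sum_normSq_ge S _ (fun _ => (k : ℂ)) _ ?_ ?_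
    · rw [← Finset.sum_mul, hsumS, ha0, hTφ, map_intCast (starRingEnd ℂ), hcA]
      push_cast
      rw [hkz]
      ring
    · rw [Finset.sum_const, nsmul_eq_mul, hScard, map_intCast (starRingEnd ℂ)]
      push_cast
      ring

end CfsgLib.Char
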