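import Cfsg.Prelude.Def_Transfer
import Cfsg.Agent.Lib.Solvable.PCore
import Cfsg.Agent.Lib.Solvable.MinNormal
import Cfsg.Agent.Lib.Coprime.Generation
import Cfsg.Agent.Lib.PLocal.Sylow

/-!
# Groups in which centralisers of nontrivial `p`-elements are `p`-groups
-/

namespace CfsgLib.Char

open scoped Pointwise

universe u

variable {G : Type u} [Group G] [Finite G] {p : ℕ} [hp : Fact p.Prime]

theorem exists_orderOf_eq_pow {S : Subgroup G} (hS : IsPGroup p S) {x : G} (hx : x ∈ S) :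
    ∃ k : ℕ, orderOf x = p ^ k := by
  obtain ⟨k, hk⟩ := hS ⟨x, hx⟩
  obtain ⟨i, -, hi⟩ := (Nat.dvd_prime_pow hp.out).mp
    (orderOf_dvd_of_pow_eq_one (show x ^ p ^ k = 1 from congr_arg Subtype.val hk))
  exact ⟨i, hi⟩

theorem isPGroup_of_commute_pElement
    (hB : ∀ x : G, x ≠ 1 → (∃ k, orderOf x = p ^ k) → IsPGroup p (Subgroup.centralizer ({x} : Set G)))
    {x y : G} (hx : x ≠ 1) (hxp : ∃ k, orderOf x = p ^ k) (hc : y * x = x * y) :
    ∃ k, orderOf y = p ^ k :=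
  exists_orderOf_eq_pow (hB x hx hxp) (Subgroup.mem_centralizer_singleton_iff.mpr hc)

/-- A solvable group with nontrivial `p`-core, non-normal Sylow `p`-subgroup and `p`-group
centralisers of `p`-elements has a nontrivial `p`-quotient. -/
theorem not_sylow_le_commutator [Group.IsSolvable G]
    (hB : ∀ x : G, x ≠ 1 → (∃ k, orderOf x = p ^ k) → IsPGroup p (Subgroup.centralizer ({x} : Set G)))
    (hD : Cfsg.pCore p G ≠ ⊥) (P : Sylow p G) (hP : ¬ (P : Subgroup G).Normal) :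
    ¬ (P : Subgroup G) ≤ commutator G := by
  intro hPG
  set D := Cfsg.pCore p G with hDdef
  have hDn : D.Normal := Solvable.pCore_normal p G
  have hDp : IsPGroup p D := Solvable.pCore_isPGroup p
  have hDP : D ≤ (P : Subgroup G) := Solvable.pCore_le_sylow P
  set f := QuotientGroup.mk' D
  have : Nontrivial (G ⧸ D) := QuotientGroup.nontrivial_iff.mpr fun h =>
    hP ((le_antisymm hDP (h ▸ le_top)) ▸ hDn)
  obtain ⟨V, hV, hVne, hVmin⟩ := Solvable.exists_minimal_normal (G := G ⧸ D)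
  obtain ⟨q, hq, hVq, -, hVc⟩ := Solvable.exists_isPGroup_of_minimal_normal hVne hVmin
  have : Fact q.Prime := ⟨hq⟩
  have hqp : q ≠ p := by
    rintro rfl
    refine hVne (le_bot_iff.mp ?_)
    rw [← Solvable.pCore_quotient_eq_bot (G := G) q]
    exact Solvable.le_pCore hV hVq
  set Q1 := V.comap f with hQ1
  have hQ1n : Q1.Normal := hV.comap f
  obtain ⟨T⟩ := (inferInstance : Nonempty (Sylow q G))
  set Q0 := (T : Subgroup G) ⊓ Q1 with hQ0
  have hQ0q : IsPGroup q Q0 := T.2.to_le inf_le_left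
  have hQ0p : ∀ x ∈ Q0, (∃ k, orderOf x = p ^ k) → x = 1 := by
    intro x hx ⟨k, hk⟩
    obtain ⟨j, hj⟩ := exists_orderOf_eq_pow hQ0q hx
    rcases Nat.eq_zero_or_pos k with rfl | hk0
    · rwa [pow_zero, orderOf_eq_one_iff] at hk
    · exfalso
      have : p ∣ q ^ j := by rw [← hj, hk]; exact dvd_pow_self p hk0.ne'
      exact hqp ((Nat.prime_dvd_prime_iff_eq hp.out hq).mp (hp.out.dvd_of_dvd_pow this)).symm
  have hinf : Q0 ⊓ D = ⊥ := (Subgroup.eq_bot_iff_forall _).mpr fun x hx =>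
    hQ0p x hx.1 (exists_orderOf_eq_pow hDp hx.2)
  -- `Q1 = D Q0`
  have hrel : ∃ k, D.relIndex Q1 = q ^ k := by
    obtain ⟨n, hn⟩ := hVq.exists_card_eq
    refine ⟨n, ?_⟩
    have h := Subgroup.relIndex_comap (⊥ : Subgroup (G ⧸ D)) f Q1
    rw [MonoidHom.comap_bot, QuotientGroup.ker_mk', hQ1,
      Subgroup.map_comap_eq_self_of_surjective (QuotientGroup.mk'_surjective D),
      Subgroup.relIndex_bot_left] at h
    rw [hQ1, h, hn]
  have hDQ1 : D ≤ Q1 := fun x hx => by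
    rw [hQ1, Subgroup.mem_comap, show f x = 1 from (QuotientGroup.eq_one_iff x).mpr hx]
    exact one_mem V
  have hgen : Q1 ≤ D ⊔ Q0 := PLocal.normal_pGroup_quotient_le T hDQ1 hrel
  set L := Subgroup.normalizer (Q0 : Set G) with hL
  have hDL : D ⊔ L = ⊤ := by
    refine eq_top_iff.mpr ((PLocal.frattini_sup T Q1).ge.trans (sup_le ?_ le_sup_right))
    exact hgen.trans (sup_le le_sup_left (Subgroup.le_normalizer.trans le_sup_right))
  -- `Q0` is cyclic
  have hQ0c : IsMulCommutative Q0 := by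
    refine ⟨⟨fun a b => Subtype.ext ?_⟩⟩
    have h1 : ((a : G) * b) * ((b : G) * a)⁻¹ ∈ Q0 ⊓ D := by
      refine ⟨Q0.mul_mem (Q0.mul_mem a.2 b.2) (Q0.inv_mem (Q0.mul_mem b.2 a.2)),
        (QuotientGroup.eq_one_iff _).mp ?_⟩
      show f _ = 1
      rw [map_mul, map_inv, map_mul, map_mul, mul_inv_eq_one]
      exact congr_arg Subtype.val (hVc.is_comm.comm ⟨f a, a.2.2⟩ ⟨f b, b.2.2⟩)
    rw [hinf, Subgroup.mem_bot, mul_inv_eq_one] at h1
    exact h1
  have hQ0ne : Q0 ≠ ⊥ := by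
    intro h
    rw [h, sup_bot_eq] at hgen
    refine hVne (le_bot_iff.mp fun v hv => ?_)
    obtain ⟨x, rfl⟩ := QuotientGroup.mk'_surjective D v
    exact (QuotientGroup.eq_one_iff x).mpr (hgen hv)
  have hcyc : IsCyclic Q0 := by
    by_contra hnc
    have hcop : (Nat.card Q0).Coprime (Nat.card D) :=
      IsPGroup.coprime_card_of_ne q p hqp Q0 D hQ0q hDp
    have h := Coprime.iSup_centralizer_eq hQ0c hnc
      ((Subgroup.normalizer_eq_top (H := D)).symm ▸ le_top) hcop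
    refine hD (h.symm.trans ?_)
    refine iSup_eq_bot.mpr fun a => (Subgroup.eq_bot_iff_forall _).mpr fun d hd => ?_
    by_contra hd1
    exact a.2.2 (hQ0p _ a.2.1 (isPGroup_of_commute_pElement hB hd1 (exists_orderOf_eq_pow hDp hd.1)
      (Subgroup.mem_centralizer_singleton_iff.mp hd.2).symm))
  obtain ⟨a, ha⟩ := hcyc.exists_generator
  have ha1 : a ≠ 1 := by
    rintro rfl
    refine hQ0ne ((Subgroup.eq_bot_iff_forall _).mpr fun x hx => ?_)
    obtain ⟨i, hi⟩ := ha ⟨x, hx⟩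
    simpa using (congr_arg Subtype.val hi).symm
  -- `[L, L]` centralises `a`
  have hLC : ⁅L, L⁆ ≤ Subgroup.centralizer ({(a : G)} : Set G) := by
    rw [Subgroup.commutator_le]
    intro l hl k hk
    have hconj : ∀ g ∈ L, ∃ i : ℤ, ∀ x ∈ Q0, g * x * g⁻¹ = x ^ i := fun g hg => by
      obtain ⟨i, hi⟩ := ha ⟨_, (Subgroup.mem_normalizer_iff.mp hg (a : G)).mp a.2⟩
      have hi' : g * (a : G) * g⁻¹ = (a : G) ^ i := (congr_arg Subtype.val hi).symm.trans (by simp)
      refine ⟨i, fun x hx => ?_⟩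
      obtain ⟨t, ht⟩ := ha ⟨x, hx⟩
      have hx' : x = (a : G) ^ t := (congr_arg Subtype.val ht).symm.trans (by simp)
      rw [hx', ← conj_zpow, hi', ← zpow_mul, ← zpow_mul, mul_comm]
    obtain ⟨i, hi⟩ := hconj l hl
    obtain ⟨j, hj⟩ := hconj k hk
    have hlk : ∀ x ∈ Q0, l * k * x * (l * k)⁻¹ = k * l * x * (k * l)⁻¹ := fun x hx => by
      calc l * k * x * (l * k)⁻¹ = l * (k * x * k⁻¹) * l⁻¹ := by group
        _ = (x ^ j) ^ i := by rw [hj x hx, hi _ (Subgroup.zpow_mem _ hx j)]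
        _ = (x ^ i) ^ j := by rw [← zpow_mul, ← zpow_mul, mul_comm]
        _ = k * (l * x * l⁻¹) * k⁻¹ := by rw [hi x hx, hj _ (Subgroup.zpow_mem _ hx i)]
        _ = k * l * x * (k * l)⁻¹ := by group
    have hb : (k * l)⁻¹ * (a : G) * (k * l) ∈ Q0 := by
      have := (Subgroup.mem_normalizer_iff.mp (L.inv_mem (mul_mem hk hl)) (a : G)).mp a.2
      rwa [inv_inv] at this
    have h1 := hlk _ hb
    rw [show k * l * ((k * l)⁻¹ * (a : G) * (k * l)) * (k * l)⁻¹ = (a : G) by group] at h1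
    rw [Subgroup.mem_centralizer_singleton_iff, commutatorElement_def]
    calc l * k * l⁻¹ * k⁻¹ * (a : G)
        = (l * k * ((k * l)⁻¹ * (a : G) * (k * l)) * (l * k)⁻¹) * (l * k * l⁻¹ * k⁻¹) := by group
      _ = (a : G) * (l * k * l⁻¹ * k⁻¹) := by rw [h1]
  have hCcop : ¬ p ∣ Nat.card ↥⁅L, L⁆ := by
    intro hdvd
    obtain ⟨y, hy⟩ := exists_prime_orderOf_dvd_card' (G := ↥⁅L, L⁆) p hdvd
    have hy1 : (y : G) ≠ 1 := fun h => by
      rw [show y = 1 from Subtype.ext h, orderOf_one] at hy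
      exact hp.out.one_lt.ne hy
    exact ha1 (Subtype.ext (hQ0p _ a.2 (isPGroup_of_commute_pElement hB hy1
      ⟨1, by rw [Subgroup.orderOf_coe, hy, pow_one]⟩
      (Subgroup.mem_centralizer_singleton_iff.mp (hLC y.2)).symm)))
  have hcomm : commutator G ≤ D ⊔ ⁅L, L⁆ := by
    have hmap : L.map f = ⊤ := by
      rw [← Subgroup.map_top_of_surjective f (QuotientGroup.mk'_surjective D), ← hDL,
        Subgroup.map_sup, (Subgroup.map_eq_bot_iff D).mpr (QuotientGroup.ker_mk' D).ge, bot_sup_eq]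
    have h2 : (commutator G).map f ≤ (⁅L, L⁆).map f := by
      rw [commutator_def, Subgroup.map_commutator, Subgroup.map_commutator,
        Subgroup.map_top_of_surjective f (QuotientGroup.mk'_surjective D), hmap]
    have h3 := Subgroup.map_le_iff_le_comap.mp h2
    rwa [Subgroup.comap_map_eq, QuotientGroup.ker_mk', sup_comm] at h3
  have hdvd : Nat.card (P : Subgroup G) ∣ Nat.card ↥⁅L, L⁆ * Nat.card D := by
    refine (Subgroup.card_dvd_of_le (hPG.trans hcomm)).trans ?_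
    rw [sup_comm]
    exact Solvable.card_sup_dvd _ _
  obtain ⟨n, hn⟩ := IsPGroup.iff_card.mp P.2
  rw [hn] at hdvd
  have hdvd' := (Nat.Coprime.pow_left n ((hp.out.coprime_iff_not_dvd).mpr hCcop)).dvd_of_dvd_mul_left hdvd
  rw [← hn] at hdvd'
  exact hP ((Subgroup.eq_of_le_of_card_ge hDP (Nat.le_of_dvd Nat.card_pos hdvd')) ▸ hDn)

end CfsgLib.Char
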