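import Cfsg.Agent.Lib.Char.CABasic
import Cfsg.Agent.Lib.Char.CNCover

/-!
# Centralizer-closed nilpotent subgroups: Hall property and representatives
-/

namespace CfsgLib.Char

open scoped Pointwise

universe u

variable {G : Type u} [Group G] [Finite G]

omit [Finite G] in
theorem IsCentralizerClosed.conj {A : Subgroup G} (hA : IsCentralizerClosed A) (g : G) :
    IsCentralizerClosed (MulAut.conj g • A) := by
  intro x hx hx1 y hy
  rw [Solvable.mem_conj_smul] at hx ⊢
  refine hA _ hx (fun e => hx1 ?_) (Subgroup.mem_centralizer_singleton_iff.mpr ?_)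
  · have := congr_arg (fun t => g * t * g⁻¹) e
    simpa [mul_assoc] using this
  · have h := Subgroup.mem_centralizer_singleton_iff.mp hy
    calc g⁻¹ * y * g * (g⁻¹ * x * g) = g⁻¹ * (y * x) * g := by group
      _ = g⁻¹ * (x * y) * g := by rw [h]
      _ = _ := by group

omit [Finite G] in
theorem isNilpotent_conj {A : Subgroup G} (hA : Group.IsNilpotent A) (g : G) :
    Group.IsNilpotent (MulAut.conj g • A : Subgroup G) :=
  Group.nilpotent_of_mulEquiv (Subgroup.equivSMul (MulAut.conj g) A)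

theorem exists_sylow_le_of_closed {A : Subgroup G} (hA : IsCentralizerClosed A)
    {p : ℕ} [hp : Fact p.Prime] (hpA : p ∣ Nat.card A) :
    ∃ P : Sylow p G, (P : Subgroup G) ≤ A := by
  obtain ⟨a, ha⟩ := exists_prime_orderOf_dvd_card' (G := A) p hpA
  have ha1 : (a : G) ≠ 1 := fun h => by
    rw [show a = 1 from Subtype.ext h, orderOf_one] at ha
    exact hp.out.one_lt.ne ha
  obtain ⟨P, hP⟩ := (IsPGroup.of_card (n := 1) (G := Subgroup.zpowers (a : G))
    (by rw [Nat.card_zpowers, Subgroup.orderOf_coe, ha, pow_one])).exists_le_sylow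
  have haP : (a : G) ∈ (P : Subgroup G) := hP (Subgroup.mem_zpowers _)
  obtain ⟨z, -, hz1, hzc⟩ := exists_central_ne_one P.2.isNilpotent
    (fun h => ha1 ((Subgroup.mem_bot).mp (h ▸ haP)))
  have hzA : z ∈ A := hA _ a.2 ha1 (Subgroup.mem_centralizer_singleton_iff.mpr (hzc _ haP).symm)
  exact ⟨P, fun y hy => hA z hzA hz1 (Subgroup.mem_centralizer_singleton_iff.mpr (hzc y hy))⟩

theorem exists_conj_of_common_prime {A B : Subgroup G} (hA : IsCentralizerClosed A)
    (hAn : Group.IsNilpotent A) (hB : IsCentralizerClosed B) (hBn : Group.IsNilpotent B)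
    {p : ℕ} [hp : Fact p.Prime] (hpA : p ∣ Nat.card A) (hpB : p ∣ Nat.card B) :
    ∃ g : G, MulAut.conj g • A = B := by
  obtain ⟨P, hP⟩ := exists_sylow_le_of_closed hA hpA
  obtain ⟨Q, hQ⟩ := exists_sylow_le_of_closed hB hpB
  obtain ⟨g, hg⟩ := MulAction.exists_smul_eq G P Q
  obtain ⟨y, hy, hy1⟩ := (Subgroup.bot_or_exists_ne_one (P : Subgroup G)).resolve_left
    (P.ne_bot_of_dvd_card (hpA.trans A.card_subgroup_dvd_card))
  refine ⟨g, (hA.conj g).eq_of_mem hB (isNilpotent_conj hAn g) hBn (x := g * y * g⁻¹) ?_ ?_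
    fun h => hy1 (by simpa using h)⟩
  · rw [Solvable.mem_conj_smul]; simpa [mul_assoc] using hP hy
  · refine hQ ?_
    rw [← hg, Sylow.coe_subgroup_smul, Solvable.mem_conj_smul]
    simpa [mul_assoc] using hy

/-- A set of representatives for the nontrivial centralizer-closed nilpotent subgroups. -/
theorem exists_closed_reps [Fintype G]
    (hcover : ∀ g : G, g ≠ 1 → ∃ H : Subgroup G, Group.IsNilpotent H ∧ g ∈ H ∧ IsCentralizerClosed H) :
    ∃ R : Finset (Subgroup G),
      (∀ C ∈ R, Group.IsNilpotent C ∧ IsCentralizerClosed C ∧ 1 < Nat.card C) ∧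
      (∀ B ∈ R, ∀ C ∈ R, B ≠ C → C ∉ conjOrbit B) ∧
      (∑ C ∈ R, (conjOrbit C).card * (Nat.card C - 1)) + 1 = Nat.card G := by
  classical
  have := Fintype.ofFinite (Subgroup G)
  set Max := (Finset.univ : Finset (Subgroup G)).filter
    fun C : Subgroup G => Group.IsNilpotent C ∧ IsCentralizerClosed C ∧ 1 < Nat.card C with hMax
  set Orb := Max.image conjOrbit with hOrb
  choose! r hr using fun O (hO : O ∈ Orb) => Finset.mem_image.mp hO
  refine ⟨Orb.image r, fun C hC => ?_, fun B hB C hC hne hmem => ?_, ?_⟩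
  · obtain ⟨O, hO, rfl⟩ := Finset.mem_image.mp hC
    exact (Finset.mem_filter.mp (hr O hO).1).2
  · obtain ⟨O, hO, rfl⟩ := Finset.mem_image.mp hB
    obtain ⟨O', hO', rfl⟩ := Finset.mem_image.mp hC
    apply hne
    have he : conjOrbit (r O') = conjOrbit (r O) := by
      obtain ⟨g, hg⟩ := mem_conjOrbit.mp hmem
      ext D
      rw [← hg]
      simp only [mem_conjOrbit, Solvable.conj_smul_conj_smul]
      exact ⟨fun ⟨x, hx⟩ => ⟨x * g, hx⟩, fun ⟨x, hx⟩ => ⟨x * g⁻¹, by simpa [mul_assoc] using hx⟩⟩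
    rw [(hr O hO).2, (hr O' hO').2] at he
    rw [he]
  · have hinj : Set.InjOn r Orb := fun O hO O' hO' h => by
      rw [← (hr O hO).2, ← (hr O' hO').2, h]
    rw [Finset.sum_image hinj]
    have hfib : ∀ O ∈ Orb, (conjOrbit (r O)).card * (Nat.card (r O) - 1) =
        ∑ B ∈ Max.filter (fun B => conjOrbit B = O), (nonId B).card := by
      intro O hO
      obtain ⟨hrM, hrO⟩ := hr O hO
      have hset : Max.filter (fun B => conjOrbit B = O) = conjOrbit (r O) := by
        ext B
        simp only [Finset.mem_filter]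
        constructor
        · rintro ⟨-, hB⟩
          rw [hrO, ← hB]
          exact mem_conjOrbit.mpr ⟨1, Solvable.conj_one_smul B⟩
        · intro hB
          obtain ⟨g, rfl⟩ := mem_conjOrbit.mp hB
          obtain ⟨-, h1, h2, h3⟩ := Finset.mem_filter.mp hrM
          refine ⟨Finset.mem_filter.mpr ⟨Finset.mem_univ _, isNilpotent_conj h1 g, h2.conj g, by
            rwa [Solvable.card_conj_smul]⟩, ?_⟩
          refine Eq.trans ?_ hrO
          ext D
          simp only [mem_conjOrbit, Solvable.conj_smul_conj_smul]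
          exact ⟨fun ⟨x, hx⟩ => ⟨x * g, hx⟩, fun ⟨x, hx⟩ => ⟨x * g⁻¹, by simpa [mul_assoc] using hx⟩⟩
      rw [hset, ← smul_eq_mul, ← Finset.sum_const]
      refine Finset.sum_congr rfl fun B hB => ?_
      obtain ⟨g, rfl⟩ := mem_conjOrbit.mp hB
      have := card_nonId (MulAut.conj g • r O)
      rw [Solvable.card_conj_smul] at this
      omega
    rw [Finset.sum_congr rfl hfib,
      Finset.sum_fiberwise_of_maps_to (fun B hB => Finset.mem_image_of_mem _ hB) _]
    have hd : (Max : Set (Subgroup G)).PairwiseDisjoint nonId := by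
      intro B hB C hC hne
      show Disjoint (nonId B) (nonId C)
      rw [Finset.disjoint_left]
      intro x hxB hxC
      obtain ⟨-, b1, b2, -⟩ := Finset.mem_filter.mp hB
      obtain ⟨-, c1, c2, -⟩ := Finset.mem_filter.mp hC
      exact hne (b2.eq_of_mem c2 b1 c1 (mem_nonId.mp hxB).1 (mem_nonId.mp hxC).1 (mem_nonId.mp hxB).2)
    have hu : Max.biUnion nonId = Finset.univ.erase (1 : G) := by
      ext x
      simp only [Finset.mem_biUnion, Finset.mem_erase, Finset.mem_univ, and_true, mem_nonId]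
      constructor
      · rintro ⟨B, -, -, h⟩; exact h
      · intro hx
        obtain ⟨H, h1, h2, h3⟩ := hcover x hx
        refine ⟨H, Finset.mem_filter.mpr ⟨Finset.mem_univ _, h1, h3, ?_⟩, h2, hx⟩
        rw [Finite.one_lt_card_iff_nontrivial, Subgroup.nontrivial_iff_exists_ne_one]
        exact ⟨x, h2, hx⟩
    rw [← Finset.card_biUnion hd, hu, Finset.card_erase_add_one (Finset.mem_univ _),
      Finset.card_univ, Nat.card_eq_fintype_card]

end CfsgLib.Char
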