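import Cfsg.Agent.Lib.Char.CNFamily
import Cfsg.Agent.Lib.Char.CNReps
import Cfsg.Agent.Lib.Solvable.FrobeniusKernel

/-!
# No nonabelian simple CN-group of odd order
-/

namespace CfsgLib.Char

open scoped ComplexConjugate Pointwise

universe u

variable {G : Type u} [Group G]

theorem not_normalizer_le_of_closed [Finite G] [IsSimpleGroup G] (hG : ¬ IsMulCommutative G)
    {A : Subgroup G} (hA : IsCentralizerClosed A) (hAn : Group.IsNilpotent A)
    (hA1 : 1 < Nat.card A) : ¬ Subgroup.normalizer (A : Set G) ≤ A := by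
  intro hle
  have hne : A ≠ ⊥ := fun h => by rw [h, Subgroup.card_bot] at hA1; omega
  have htop : A ≠ ⊤ := fun h => by
    have : Nontrivial G := IsSimpleGroup.toNontrivial
    have hGn : Group.IsNilpotent G := by
      subst h
      exact Group.nilpotent_of_mulEquiv Subgroup.topEquiv
    exact (Group.IsSolvable.commutator_lt_top_of_nontrivial G).ne
      (Transfer.commutator_eq_top_of_simple hG)
  have hF : Cfsg.IsFrobeniusComplement A := by
    refine ⟨hne, htop, fun g hg => (Subgroup.eq_bot_iff_forall _).mpr fun x hx => ?_⟩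
    by_contra hx1
    exact hg (hle (Solvable.conj_smul_eq_self_iff.mp
      (hA.eq_of_mem (hA.conj g) hAn (isNilpotent_conj hAn g) hx.1 hx.2 hx1).symm))
  obtain ⟨K, -, hK, hc⟩ := Solvable.exists_frobeniusKernel hF
  rcases IsSimpleGroup.eq_bot_or_eq_top_of_normal K hK with rfl | rfl
  · exact htop (Subgroup.isComplement'_bot_left.mp hc)
  · exact hne (Subgroup.isComplement'_top_left.mp hc)

theorem CNFamily.coef_common [Fintype G] {A B : Subgroup G} {eA wA eB wB : ℕ}
    {θA : Fin wA → G → ℂ} {ΨA : G → ℂ} {θB : Fin wB → G → ℂ} {ΨB : G → ℂ}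
    (hA : CNFamily A eA wA θA ΨA) (hB : CNFamily B eB wB θB ΨB)
    (hsep : ∀ g : G, (∀ x : G, x⁻¹ * g * x ∈ A → x⁻¹ * g * x = 1) ∨
      (∀ x : G, x⁻¹ * g * x ∈ B → x⁻¹ * g * x = 1)) :
    (∀ i j, θA i ≠ θB j) ∧ Cfsg.classInner ΨA ΨB = 0 ∧
      ∀ i j, Cfsg.classInner (θA i) ΨB = Cfsg.classInner (θA j) ΨB := by
  refine ⟨fun i j hij => ?_, ?_, fun i j => ?_⟩
  · have : Nontrivial (Fin wA) := Fin.nontrivial_iff_two_le.mpr hA.two_le
    have : Nontrivial (Fin wB) := Fin.nontrivial_iff_two_le.mpr hB.two_le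
    obtain ⟨k, hk⟩ := exists_ne i
    obtain ⟨l, hl⟩ := exists_ne j
    have h0 : Cfsg.classInner (θA i - θA k) (θB j - θB l) = 0 := by
      rw [classInner_def, Finset.sum_eq_zero, mul_zero]
      intro g _
      rcases hsep g with h | h
      · rw [Pi.sub_apply, hA.diff_off i k g h, sub_self, zero_mul]
      · rw [Pi.sub_apply (θB j), hB.diff_off j l g h, sub_self, map_zero, mul_zero]
    have h1 : θA i ≠ θB l := fun h => hl (hB.inj (by rw [← h, hij]))
    have h2 : θA k ≠ θB j := fun h => hk (hA.inj (by rw [h, hij]))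
    rw [classInner_sub_left, classInner_sub_right, classInner_sub_right,
      irr_classInner (hA.irr i) (hB.irr j), irr_classInner (hA.irr i) (hB.irr l),
      irr_classInner (hA.irr k) (hB.irr j), irr_classInner (hA.irr k) (hB.irr l),
      if_pos hij, if_neg h1, if_neg h2] at h0
    split_ifs at h0 <;> norm_num at h0
  · rw [classInner_def, Finset.sum_eq_zero, mul_zero]
    intro g _
    rcases hsep g with h | h
    · rw [hA.psi_off g h, zero_mul]
    · rw [hB.psi_off g h, map_zero, mul_zero]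
  · rw [← sub_eq_zero, ← classInner_sub_left, classInner_def, Finset.sum_eq_zero, mul_zero]
    intro g _
    rcases hsep g with h | h
    · rw [Pi.sub_apply, hA.diff_off i j g h, sub_self, zero_mul]
    · rw [hB.psi_off g h, map_zero, mul_zero]

open scoped Classical in
/-- The members of a family as irreducible characters. -/
noncomputable def CNFamily.members [Fintype G] {A : Subgroup G} {e w : ℕ} {θ : Fin w → G → ℂ}
    {Ψ : G → ℂ} (h : CNFamily A e w θ Ψ) : Finset (Cfsg.IrrCharacter G) :=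
  Finset.univ.image fun j => ⟨θ j, h.irr j⟩

theorem CNFamily.mem_members [Fintype G] {A : Subgroup G} {e w : ℕ} {θ : Fin w → G → ℂ}
    {Ψ : G → ℂ} (h : CNFamily A e w θ Ψ) {φ : Cfsg.IrrCharacter G} :
    φ ∈ h.members ↔ ∃ j, θ j = (φ : G → ℂ) := by
  classical
  simp [CNFamily.members, Subtype.ext_iff]

theorem CNFamily.sum_members [Fintype G] {A : Subgroup G} {e w : ℕ} {θ : Fin w → G → ℂ}
    {Ψ : G → ℂ} (h : CNFamily A e w θ Ψ) {M : Type*} [AddCommMonoid M] (f : (G → ℂ) → M) :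
    ∑ φ ∈ h.members, f (φ : G → ℂ) = ∑ j, f (θ j) := by
  classical
  rw [CNFamily.members, Finset.sum_image fun i _ j _ hij => h.inj (congr_arg Subtype.val hij)]

/-- The parity argument: outside the family of `A`, a member of another family meets `Ψ_A`. -/
theorem CNFamily.coef_ne_zero [Fintype G] (hodd : Odd (Nat.card G)) {A B : Subgroup G}
    {eA wA eB wB : ℕ} {θA : Fin wA → G → ℂ} {ΨA : G → ℂ} {θB : Fin wB → G → ℂ} {ΨB : G → ℂ}
    (hA : CNFamily A eA wA θA ΨA) (hB : CNFamily B eB wB θB ΨB)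
    (hsep : ∀ g : G, (∀ x : G, x⁻¹ * g * x ∈ A → x⁻¹ * g * x = 1) ∨
      (∀ x : G, x⁻¹ * g * x ∈ B → x⁻¹ * g * x = 1))
    (hzero : ∀ i, Cfsg.classInner (θA i) ΨB = 0) (j : Fin wB) :
    Cfsg.classInner (θB j) ΨA ≠ 0 := by
  classical
  intro hj
  have := Fintype.ofFinite (Cfsg.IrrCharacter G)
  have hsep' := fun g => (hsep g).symm
  obtain ⟨hdis, horth, -⟩ := hA.coef_common hB hsep
  obtain ⟨-, -, hcommon⟩ := hB.coef_common hA hsep'
  choose kA hkA using fun φ : Cfsg.IrrCharacter G => hA.coef_int φ φ.2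
  choose kB hkB using fun φ : Cfsg.IrrCharacter G => hB.coef_int φ φ.2
  have hsum : ∑ φ : Cfsg.IrrCharacter G, kA φ * kB φ = 0 := by
    have h := classInner_eq_sum_mul hA.psi_class ΨB
    rw [horth, Finset.sum_congr rfl fun (φ : Cfsg.IrrCharacter G) _ => show Cfsg.classInner ΨA (φ : G → ℂ) *
        conj (Cfsg.classInner ΨB (φ : G → ℂ)) = ((kA φ * kB φ : ℤ) : ℂ) by
      rw [classInner_conj_symm, hkB φ, ← classInner_conj_symm, hkA φ, map_intCast (starRingEnd ℂ)]
      push_cast; rfl, ← Int.cast_sum] at h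
    exact_mod_cast h.symm
  set R := (Finset.univ : Finset (Cfsg.IrrCharacter G)).filter
    fun φ => φ ∉ hA.members ∧ φ ∉ hB.members with hR
  have hsumR : ∑ φ ∈ R, kA φ * kB φ = 0 := by
    refine (Finset.sum_filter_of_ne fun φ _ hne => ⟨fun h => hne ?_, fun h => hne ?_⟩).trans hsum
    · obtain ⟨i, hi⟩ := hA.mem_members.mp h
      have : kB φ = 0 := by
        have h1 := hkB φ
        rw [← hi, hzero] at h1
        exact_mod_cast h1.symm
      rw [this, mul_zero]
    · obtain ⟨i, hi⟩ := hB.mem_members.mp h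
      have : kA φ = 0 := by
        have h1 := hkA φ
        rw [← hi, hcommon i j, hj] at h1
        exact_mod_cast h1.symm
      rw [this, zero_mul]
  set one' : Cfsg.IrrCharacter G := ⟨fun _ => 1, isIrrCharacter_one⟩ with hone1
  have h1R : one' ∈ R := Finset.mem_filter.mpr ⟨Finset.mem_univ _,
    fun h => by obtain ⟨i, hi⟩ := hA.mem_members.mp h; exact hA.one_notin i hi,
    fun h => by obtain ⟨i, hi⟩ := hB.mem_members.mp h; exact hB.one_notin i hi⟩
  have hk1 : kA one' * kB one' = 1 := by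
    have h1 : ((kA one' : ℤ) : ℂ) = 1 := (hkA one').symm.trans hA.psi_one
    have h2 : ((kB one' : ℤ) : ℂ) = 1 := (hkB one').symm.trans hB.psi_one
    have : ((kA one' * kB one' : ℤ) : ℂ) = ((1 : ℤ) : ℂ) := by push_cast; rw [h1, h2, one_mul]
    exact_mod_cast this
  let σ : Cfsg.IrrCharacter G → Cfsg.IrrCharacter G :=
    fun φ => ⟨fun g => conj ((φ : G → ℂ) g), isIrrCharacter_conj φ.2⟩
  have hσσ : ∀ φ, σ (σ φ) = φ := fun φ => Subtype.ext (funext fun g => Complex.conj_conj _)
  have hσ : ∀ φ ∈ R.erase one', σ φ ∈ R.erase one' ∧ kA (σ φ) = kA φ ∧ kB (σ φ) = kB φ := by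
    intro φ hφ
    obtain ⟨h1, h2⟩ := Finset.mem_erase.mp hφ
    obtain ⟨-, h3, h4⟩ := Finset.mem_filter.mp h2
    have hA' := hA.coef_conj φ φ.2 fun i hi => h3 (hA.mem_members.mpr ⟨i, hi.symm⟩)
    have hB' := hB.coef_conj φ φ.2 fun i hi => h4 (hB.mem_members.mpr ⟨i, hi.symm⟩)
    refine ⟨Finset.mem_erase.mpr ⟨fun h => h1 ?_, Finset.mem_filter.mpr ⟨Finset.mem_univ _,
      fun h => ?_, fun h => ?_⟩⟩, ?_, ?_⟩
    · rw [← hσσ φ, h]
      exact Subtype.ext (funext fun g => map_one _)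
    · obtain ⟨i, hi⟩ := hA.mem_members.mp h; exact hA'.1 i hi.symm
    · obtain ⟨i, hi⟩ := hB.mem_members.mp h; exact hB'.1 i hi.symm
    · have h := hA'.2
      rw [show (fun g => conj ((φ : G → ℂ) g)) = ((σ φ : Cfsg.IrrCharacter G) : G → ℂ) from rfl,
        hkA, hkA] at h
      exact_mod_cast h
    · have h := hB'.2
      rw [show (fun g => conj ((φ : G → ℂ) g)) = ((σ φ : Cfsg.IrrCharacter G) : G → ℂ) from rfl,
        hkB, hkB] at h
      exact_mod_cast h
  have hev : ((∑ φ ∈ R.erase one', kA φ * kB φ : ℤ) : ZMod 2) = 0 := by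
    rw [Int.cast_sum]
    refine Finset.sum_involution (fun φ _ => σ φ) (fun φ hφ => ?_) (fun φ hφ _ h => ?_)
      (fun φ hφ => (hσ φ hφ).1) fun φ _ => hσσ φ
    · rw [(hσ φ hφ).2.1, (hσ φ hφ).2.2]
      exact CharTwo.add_self_eq_zero _
    · refine (Finset.mem_erase.mp hφ).1 (Subtype.ext (eq_one_of_real_odd hodd φ.2 fun g => ?_))
      exact Complex.conj_eq_iff_im.mp (congr_fun (congr_arg Subtype.val h) g)
  rw [← Finset.add_sum_erase _ _ h1R, hk1] at hsumR
  have h2 : ((1 : ℤ) : ZMod 2) + 0 = 0 := by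
    rw [← hev, ← Int.cast_add, hsumR, Int.cast_zero]
    exact hev.symm
  simp at h2

theorem arith_cn {o e δ w N : ℕ} (hN : o * (e * (δ * (w * e + 1))) = N) (ho : 1 ≤ o) (hδ : 1 ≤ δ)
    (he : 3 ≤ e) (R : ℕ)
    (h : R * N ≤ R + R * (o * (δ * (w * e + 1) - 1)) + (R + 1) * (o * (e * e * δ)) + (e - 1) * N)
    (hcase : (w = 2 ∧ R = 2 * e + 4 ∧ (e = 3 → δ = 1 ∧ 2 ≤ o)) ∨ (4 ≤ w ∧ R = 2 * e)) : False := by
  subst hN
  have hm1 : 1 ≤ δ * (w * e + 1) := Nat.mul_pos hδ (Nat.succ_pos _)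
  have hRo : R ≤ R * o := Nat.le_mul_of_pos_right R ho
  rcases hcase with ⟨rfl, rfl, h3⟩ | ⟨hw, rfl⟩
  · rcases Nat.lt_or_ge e 5 with he5 | he5
    · interval_cases e
      · obtain ⟨rfl, ho2⟩ := h3 rfl
        omega
      · rw [Nat.mul_sub, Nat.mul_sub, mul_one] at h
        have : (2 * 4 + 4) * o ≤ (2 * 4 + 4) * (o * (δ * (2 * 4 + 1))) :=
          Nat.mul_le_mul_left _ (Nat.le_mul_of_pos_right o hm1)
        nlinarith [Nat.sub_add_cancel this, Nat.mul_pos ho hδ]
    · obtain ⟨k, rfl⟩ : ∃ k, e = k + 5 := ⟨e - 5, by omega⟩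
      rw [Nat.mul_sub, Nat.mul_sub, mul_one, show k + 5 - 1 = k + 4 by omega] at h
      have : (2 * (k + 5) + 4) * o ≤ (2 * (k + 5) + 4) * (o * (δ * (2 * (k + 5) + 1))) :=
        Nat.mul_le_mul_left _ (Nat.le_mul_of_pos_right o hm1)
      nlinarith [Nat.sub_add_cancel this, Nat.mul_pos ho hδ,
        mul_nonneg (Nat.zero_le (o * δ)) (Nat.zero_le k),
        mul_nonneg (Nat.zero_le (o * δ)) (mul_nonneg (Nat.zero_le k) (Nat.zero_le k))]
  · obtain ⟨k, rfl⟩ : ∃ k, e = k + 3 := ⟨e - 3, by omega⟩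
    obtain ⟨v, rfl⟩ : ∃ v, w = v + 4 := ⟨w - 4, by omega⟩
    rw [Nat.mul_sub, Nat.mul_sub, mul_one, show k + 3 - 1 = k + 2 by omega] at h
    have : (2 * (k + 3)) * o ≤ (2 * (k + 3)) * (o * (δ * ((v + 4) * (k + 3) + 1))) :=
      Nat.mul_le_mul_left _ (Nat.le_mul_of_pos_right o hm1)
    nlinarith [Nat.sub_add_cancel this, Nat.mul_pos ho hδ,
      mul_nonneg (Nat.zero_le (o * δ)) (Nat.zero_le k),
      mul_nonneg (Nat.zero_le (o * δ)) (mul_nonneg (Nat.zero_le k) (Nat.zero_le k)),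
      mul_nonneg (Nat.zero_le (o * δ)) (Nat.zero_le v),
      mul_nonneg (Nat.zero_le (o * δ)) (mul_nonneg (Nat.zero_le v) (Nat.zero_le k)),
      mul_nonneg (Nat.zero_le (o * δ)) (mul_nonneg (Nat.zero_le v)
        (mul_nonneg (Nat.zero_le k) (Nat.zero_le k)))]

theorem not_odd_closed_cover [Fintype G] [Nontrivial G] (hodd : Odd (Nat.card G))
    (hcover : ∀ g : G, g ≠ 1 → ∃ H : Subgroup G, Group.IsNilpotent H ∧ g ∈ H ∧ IsCentralizerClosed H)
    (hnorm : ∀ A : Subgroup G, IsCentralizerClosed A → Group.IsNilpotent A → 1 < Nat.card A →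
      ¬ Subgroup.normalizer (A : Set G) ≤ A) : False := by
  classical
  have := Fintype.ofFinite (Cfsg.IrrCharacter G)
  obtain ⟨Reps, hReps, hnc, htot⟩ := exists_closed_reps hcover
  have hfam : ∀ C ∈ Reps, ∃ (e w : ℕ) (θ : Fin w → G → ℂ) (Ψ : G → ℂ), 3 ≤ e ∧
      Nat.card (Subgroup.normalizer (C : Set G)) = e * Nat.card C ∧ CNFamily C e w θ Ψ := fun C hC =>
    exists_cnFamily C (hReps C hC).2.1 (hReps C hC).1 hodd (hReps C hC).2.2
      (hnorm C (hReps C hC).2.1 (hReps C hC).1 (hReps C hC).2.2)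
  choose! ee ww θθ ΨΨ he3 hN hF using hfam
  have hne : Reps.Nonempty := by
    by_contra h
    rw [Finset.not_nonempty_iff_eq_empty] at h
    rw [h, Finset.sum_empty] at htot
    exact Finite.one_lt_card.ne (htot.trans rfl)
  obtain ⟨A, hA, hAmin⟩ := Finset.exists_min_image Reps ee hne
  set e := ee A with hedef
  set w := ww A with hwdef
  have hFA := hF A hA
  let j₀ : Fin w := ⟨0, by have := hFA.two_le; omega⟩
  have hsep : ∀ B ∈ Reps, ∀ C ∈ Reps, B ≠ C → ∀ g : G,
      (∀ x : G, x⁻¹ * g * x ∈ B → x⁻¹ * g * x = 1) ∨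
        (∀ x : G, x⁻¹ * g * x ∈ C → x⁻¹ * g * x = 1) := by
    intro B hB C hC hne g
    by_contra hcon
    push Not at hcon
    obtain ⟨⟨x, hx, hx1⟩, y, hy, hy1⟩ := hcon
    obtain ⟨b1, b2, -⟩ := hReps B hB
    obtain ⟨c1, c2, -⟩ := hReps C hC
    refine hnc B hB C hC hne (mem_conjOrbit.mpr ⟨y⁻¹ * x,
      (b2.conj (y⁻¹ * x)).eq_of_mem c2 (isNilpotent_conj b1 _) c1 (x := y⁻¹ * g * y) ?_ hy hy1⟩)
    rw [Solvable.mem_conj_smul]
    convert hx using 1
    group
  set o : Subgroup G → ℕ := fun C => (conjOrbit C).card with ho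
  have hoN : ∀ C ∈ Reps, o C * (ee C * Nat.card C) = Nat.card G := fun C hC => by
    rw [← hN C hC]; exact card_conjOrbit_mul C
  set Oth := Reps.erase A with hOth
  set In := Oth.filter fun C => ∀ i, Cfsg.classInner (θθ A i) (ΨΨ C) = 0 with hIn
  set Out := Oth.filter fun C => ¬ ∀ i, Cfsg.classInner (θθ A i) (ΨΨ C) = 0 with hOut
  -- the column bound
  have hcol : ∑ C ∈ In, ww C + 1 ≤ e := by
    choose k hk using fun φ : Cfsg.IrrCharacter G => hFA.coef_int φ φ.2
    set one' : Cfsg.IrrCharacter G := ⟨fun _ => 1, isIrrCharacter_one⟩ with hone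
    have hnorm : ∑ φ : Cfsg.IrrCharacter G, Complex.normSq (k φ : ℂ) = (e : ℝ) + 1 := by
      have h := classInner_eq_sum_mul hFA.psi_class (ΨΨ A)
      rw [hFA.psi_norm, Finset.sum_congr rfl fun (φ : Cfsg.IrrCharacter G) _ => show Cfsg.classInner (ΨΨ A) (φ : G → ℂ) *
          conj (Cfsg.classInner (ΨΨ A) (φ : G → ℂ)) = ((Complex.normSq (k φ : ℂ) : ℝ) : ℂ) by
        rw [← classInner_conj_symm, hk φ, Complex.conj_conj, mul_comm, Complex.mul_conj]] at h
      exact_mod_cast h.symm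
    let F : Subgroup G → Finset (Cfsg.IrrCharacter G) :=
      fun C => if hC : C ∈ Reps then (hF C hC).members else ∅
    have hFm : ∀ C (hC : C ∈ Reps), F C = (hF C hC).members := fun C hC => dif_pos hC
    have hInR : ∀ C ∈ In, C ∈ Reps ∧ C ≠ A := fun C hC =>
      ⟨(Finset.mem_erase.mp (Finset.mem_filter.mp hC).1).2,
        (Finset.mem_erase.mp (Finset.mem_filter.mp hC).1).1⟩
    have hcardF : ∀ C ∈ In, (F C).card = ww C := fun C hC => by
      rw [hFm C (hInR C hC).1, CNFamily.members,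
        Finset.card_image_of_injective _ fun i j h => (hF C (hInR C hC).1).inj
          (congr_arg Subtype.val h), Finset.card_univ, Fintype.card_fin]
    have hdisj : (In : Set (Subgroup G)).PairwiseDisjoint F := by
      intro B hB C hC hne
      show Disjoint (F B) (F C)
      rw [hFm B (hInR B hB).1, hFm C (hInR C hC).1, Finset.disjoint_left]
      intro φ hφB hφC
      obtain ⟨i, hi⟩ := (hF B (hInR B hB).1).mem_members.mp hφB
      obtain ⟨l, hl⟩ := (hF C (hInR C hC).1).mem_members.mp hφC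
      exact ((hF B (hInR B hB).1).coef_common (hF C (hInR C hC).1)
        (hsep B (hInR B hB).1 C (hInR C hC).1 hne)).1 i l (hi.trans hl.symm)
    set S := In.biUnion F with hS
    have hScard : S.card = ∑ C ∈ In, ww C := by
      rw [hS, Finset.card_biUnion hdisj, Finset.sum_congr rfl hcardF]
    have hSmem : ∀ φ ∈ S, φ ∉ insert one' hFA.members ∧ k φ ≠ 0 := by
      intro φ hφ
      obtain ⟨C, hC, hφC⟩ := Finset.mem_biUnion.mp hφ
      obtain ⟨hCR, hCA⟩ := hInR C hC
      rw [hFm C hCR] at hφC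
      obtain ⟨l, hl⟩ := (hF C hCR).mem_members.mp hφC
      refine ⟨fun h => ?_, fun h0 => ?_⟩
      · rcases Finset.mem_insert.mp h with h | h
        · exact (hF C hCR).one_notin l (hl.trans (congr_arg Subtype.val h))
        · obtain ⟨i, hi⟩ := hFA.mem_members.mp h
          exact (hFA.coef_common (hF C hCR) (hsep A hA C hCR hCA.symm)).1 i l (hi.trans hl.symm)
      · refine hFA.coef_ne_zero hodd (hF C hCR) (hsep A hA C hCR hCA.symm)
          (Finset.mem_filter.mp hC).2 l ?_
        rw [hl, hk φ, h0, Int.cast_zero]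
    have hle : ∑ φ ∈ insert one' hFA.members ∪ S, Complex.normSq (k φ : ℂ) ≤ (e : ℝ) + 1 := by
      rw [← hnorm]
      exact Finset.sum_le_sum_of_subset_of_nonneg (Finset.subset_univ _)
        fun φ _ _ => Complex.normSq_nonneg _
    rw [Finset.sum_union (Finset.disjoint_right.mpr fun φ hφ => (hSmem φ hφ).1),
      Finset.sum_insert fun h => by
        obtain ⟨i, hi⟩ := hFA.mem_members.mp h; exact hFA.one_notin i hi] at hle
    have h1 : Complex.normSq (k one' : ℂ) = 1 := by
      rw [← hk one', show ((one' : Cfsg.IrrCharacter G) : G → ℂ) = fun _ => 1 from rfl, hFA.psi_one,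
        map_one]
    have h2 : (1 : ℝ) ≤ ∑ φ ∈ hFA.members, Complex.normSq (k φ : ℂ) := by
      refine hFA.coef_sq.trans (le_of_eq ?_)
      rw [← hFA.sum_members (fun f => Complex.normSq (Cfsg.classInner f (ΨΨ A)))]
      exact Finset.sum_congr rfl fun φ _ => by rw [hk φ]
    have h3 : (S.card : ℝ) ≤ ∑ φ ∈ S, Complex.normSq (k φ : ℂ) := by
      rw [← mul_one (S.card : ℝ), ← nsmul_eq_mul]
      refine Finset.card_nsmul_le_sum _ _ _ fun φ hφ => ?_
      rw [Complex.normSq_intCast]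
      exact_mod_cast mul_self_pos.mpr (hSmem φ hφ).2
    have : ((S.card + 1 : ℕ) : ℝ) ≤ (e : ℕ) := by push_cast; linarith
    rw [← hScard]
    exact_mod_cast this
  -- the row bound
  have hrow : ∑ C ∈ Out, o C * (Nat.card (commutator C) * (ww C * ee C)) ≤
      o A * (e * e * Nat.card (commutator A)) := by
    set θ := θθ A j₀ with hθ
    have hnorm : ∑ g : G, Complex.normSq (θ g) = (Nat.card G : ℝ) := by
      have h := irr_classInner_self (hFA.irr j₀)
      rw [classInner_def, inv_mul_eq_iff_eq_mul₀ natCard_ne_zero, mul_one] at h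
      simp only [Complex.mul_conj] at h
      exact_mod_cast h
    set U := insert A Out with hU
    have hUR : ∀ C ∈ U, C ∈ Reps := fun C hC => (Finset.mem_insert.mp hC).elim (fun h => h ▸ hA)
      fun h => (Finset.mem_erase.mp (Finset.mem_filter.mp h).1).2
    have hd1 : (U : Set (Subgroup G)).PairwiseDisjoint conjOrbit := by
      intro B hB C hC hne
      show Disjoint (conjOrbit B) (conjOrbit C)
      rw [Finset.disjoint_left]
      intro D hDB hDC
      obtain ⟨g, rfl⟩ := mem_conjOrbit.mp hDB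
      obtain ⟨h, hh⟩ := mem_conjOrbit.mp hDC
      refine hnc B (hUR B hB) C (hUR C hC) hne (mem_conjOrbit.mpr ⟨h⁻¹ * g, ?_⟩)
      rw [← Solvable.conj_smul_conj_smul, ← hh, Solvable.conj_smul_conj_smul, inv_mul_cancel,
        Solvable.conj_one_smul]
    have hd2 : ((U.biUnion conjOrbit : Finset (Subgroup G)) : Set (Subgroup G)).PairwiseDisjoint
        nonId := by
      intro B hB C hC hne
      show Disjoint (nonId B) (nonId C)
      rw [Finset.disjoint_left]
      intro x hxB hxC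
      obtain ⟨B₀, hB₀, hB'⟩ := Finset.mem_biUnion.mp hB
      obtain ⟨C₀, hC₀, hC'⟩ := Finset.mem_biUnion.mp hC
      obtain ⟨g, rfl⟩ := mem_conjOrbit.mp hB'
      obtain ⟨h, rfl⟩ := mem_conjOrbit.mp hC'
      obtain ⟨b1, b2, -⟩ := hReps B₀ (hUR B₀ hB₀)
      obtain ⟨c1, c2, -⟩ := hReps C₀ (hUR C₀ hC₀)
      exact hne ((b2.conj g).eq_of_mem (c2.conj h) (isNilpotent_conj b1 g) (isNilpotent_conj c1 h)
        (mem_nonId.mp hxB).1 (mem_nonId.mp hxC).1 (mem_nonId.mp hxB).2)
    have hle : ∑ C ∈ U, (o C : ℝ) * ∑ b ∈ nonId C, Complex.normSq (θ b) ≤ (Nat.card G : ℝ) := by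
      have hstep : ∀ C ∈ U, (o C : ℝ) * ∑ b ∈ nonId C, Complex.normSq (θ b) =
          ∑ D ∈ conjOrbit C, ∑ b ∈ nonId D, Complex.normSq (θ b) := by
        intro C _
        rw [ho, ← nsmul_eq_mul, ← Finset.sum_const]
        refine Finset.sum_congr rfl fun D hD => ?_
        obtain ⟨g, rfl⟩ := mem_conjOrbit.mp hD
        rw [sum_nonId_conj]
        have hcl : Cfsg.IsClassFunction G θ := irr_isClassFunction (hFA.irr j₀)
        exact Finset.sum_congr rfl fun a _ => by rw [hcl a g]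
      rw [Finset.sum_congr rfl hstep, ← Finset.sum_biUnion hd1, ← hnorm, ← Finset.sum_biUnion hd2]
      exact Finset.sum_le_sum_of_subset_of_nonneg (Finset.subset_univ _)
        fun g _ _ => Complex.normSq_nonneg _
    rw [hU, Finset.sum_insert fun h =>
      (Finset.mem_erase.mp (Finset.mem_filter.mp h).1).1 rfl] at hle
    have h1 : (o A : ℝ) * ((e : ℝ) * Nat.card A - (e : ℝ) ^ 2 * Nat.card (commutator A)) ≤
        (o A : ℝ) * ∑ b ∈ nonId A, Complex.normSq (θ b) :=
      mul_le_mul_of_nonneg_left (hFA.self_sq j₀) (Nat.cast_nonneg _)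
    have h2 : ((∑ C ∈ Out, o C * (Nat.card (commutator C) * (ww C * ee C)) : ℕ) : ℝ) ≤
        ∑ C ∈ Out, (o C : ℝ) * ∑ b ∈ nonId C, Complex.normSq (θ b) := by
      push_cast
      refine Finset.sum_le_sum fun C hC => mul_le_mul_of_nonneg_left ?_ (Nat.cast_nonneg _)
      obtain ⟨hC1, hC2⟩ := Finset.mem_filter.mp hC
      obtain ⟨hCA, hCR⟩ := Finset.mem_erase.mp hC1
      obtain ⟨hdis, -, hcom⟩ := hFA.coef_common (hF C hCR) (hsep A hA C hCR hCA.symm)
      obtain ⟨d, hd⟩ := (hF C hCR).coef_int _ (hFA.irr j₀)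
      have hd0 : d ≠ 0 := fun h0 => hC2 fun i => by
        rw [hcom i j₀, hd, h0, Int.cast_zero]
      have h := (hF C hCR).other_sq _ (hFA.irr j₀) (hdis j₀) d hd
      have hd1 : (1 : ℝ) ≤ (d : ℝ) ^ 2 := by
        have : (1 : ℤ) ≤ d ^ 2 := by
          have := mul_self_pos.mpr hd0
          rw [sq]; omega
        exact_mod_cast this
      refine le_trans ?_ h
      push_cast
      exact le_mul_of_one_le_right (by positivity) hd1
    have h3 : (Nat.card G : ℝ) = (o A : ℝ) * ((e : ℝ) * Nat.card A) := by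
      exact_mod_cast (hoN A hA).symm
    have : ((∑ C ∈ Out, o C * (Nat.card (commutator C) * (ww C * ee C)) : ℕ) : ℝ) ≤
        ((o A * (e * e * Nat.card (commutator A)) : ℕ) : ℝ) := by
      push_cast at h2 ⊢
      linarith
    exact_mod_cast this
  -- the members other than `A`
  have hcard : ∀ C ∈ Reps, Nat.card (commutator C) * (ww C * ee C + 1) = Nat.card C := fun C hC => by
    rw [(hF C hC).index_eq]; exact Subgroup.card_mul_index _
  have hbig : ∀ C ∈ Oth, (ww C * ee C + 1 ≠ w * e + 1) ∧ e ≤ ee C ∧ 2 ≤ ww C ∧ Even (ww C) ∧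
      Odd (ee C) := by
    intro C hC
    obtain ⟨hCA, hCR⟩ := Finset.mem_erase.mp hC
    refine ⟨fun h => ?_, hAmin C hCR, (hF C hCR).two_le, (hF C hCR).even, ?_⟩
    · have hp : (w * e + 1).minFac.Prime := Nat.minFac_prime (by
        have := Nat.mul_pos (by have := hFA.two_le; omega : 0 < w)
          (by have := he3 A hA; omega : 0 < e)
        omega)
      have : Fact (w * e + 1).minFac.Prime := ⟨hp⟩
      obtain ⟨a1, a2, -⟩ := hReps A hA
      obtain ⟨c1, c2, -⟩ := hReps C hCR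
      obtain ⟨g, hg⟩ := exists_conj_of_common_prime a2 a1 c2 c1 (p := (w * e + 1).minFac)
        ((Nat.minFac_dvd _).trans (Dvd.intro_left _ (hcard A hA)))
        ((Nat.minFac_dvd _).trans (Dvd.intro_left _ (h ▸ hcard C hCR)))
      exact hnc A hA C hCR hCA.symm (mem_conjOrbit.mpr ⟨g, hg⟩)
    · exact hodd.of_dvd_nat ((Dvd.intro _ (hN C hCR).symm).trans
        (Subgroup.card_subgroup_dvd_card _))
  have hfin : ∀ R : ℕ, (∀ C ∈ Oth, R ≤ ww C * ee C) →
      R * Nat.card G ≤ R + R * (o A * (Nat.card A - 1)) +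
        (R + 1) * (o A * (e * e * Nat.card (commutator A))) + (e - 1) * Nat.card G := by
    intro R hR
    have hOutb : R * ∑ C ∈ Out, o C * (Nat.card C - 1) ≤
        (R + 1) * ∑ C ∈ Out, o C * (Nat.card (commutator C) * (ww C * ee C)) := by
      rw [Finset.mul_sum, Finset.mul_sum]
      refine Finset.sum_le_sum fun C hC => ?_
      have hC1 := (Finset.mem_filter.mp hC).1
      rw [mul_left_comm, mul_left_comm (R + 1)]
      refine Nat.mul_le_mul_left _ ?_
      calc R * (Nat.card C - 1) ≤ R * Nat.card C := Nat.mul_le_mul_left _ (Nat.sub_le _ _)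
        _ = R * (Nat.card (commutator C) * (ww C * ee C)) + Nat.card (commutator C) * R := by
            rw [← hcard C (Finset.mem_erase.mp hC1).2]; ring
        _ ≤ R * (Nat.card (commutator C) * (ww C * ee C)) +
            Nat.card (commutator C) * (ww C * ee C) :=
            Nat.add_le_add_left (Nat.mul_le_mul_left _ (hR C hC1)) _
        _ = _ := by ring
    have hInb : R * ∑ C ∈ In, o C * (Nat.card C - 1) ≤ (∑ C ∈ In, ww C) * Nat.card G := by
      rw [Finset.mul_sum, Finset.sum_mul]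
      refine Finset.sum_le_sum fun C hC => ?_
      have hC1 := (Finset.mem_filter.mp hC).1
      calc R * (o C * (Nat.card C - 1)) ≤ ww C * ee C * (o C * Nat.card C) :=
            Nat.mul_le_mul (hR C hC1) (Nat.mul_le_mul_left _ (Nat.sub_le _ _))
        _ = ww C * (o C * (ee C * Nat.card C)) := by ring
        _ = _ := by rw [hoN C (Finset.mem_erase.mp hC1).2]
    rw [← Finset.add_sum_erase _ _ hA, ← hOth,
      ← Finset.sum_filter_add_sum_filter_not Oth
        (fun C => ∀ i, Cfsg.classInner (θθ A i) (ΨΨ C) = 0), ← hIn, ← hOut] at htot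
    have h2 := Nat.mul_le_mul_left (R + 1) hrow
    have h4 : (∑ C ∈ In, ww C) * Nat.card G ≤ (e - 1) * Nat.card G :=
      Nat.mul_le_mul_right _ (by omega)
    rw [← htot] at h4 hInb ⊢
    linarith
  have he : 3 ≤ e := he3 A hA
  have hδ1 : 1 ≤ Nat.card (commutator A) := Nat.card_pos
  have ho1 : 1 ≤ o A := Finset.card_pos.mpr ⟨A, mem_conjOrbit.mpr ⟨1, Solvable.conj_one_smul A⟩⟩
  have hNA : o A * (e * (Nat.card (commutator A) * (w * e + 1))) = Nat.card G := by
    rw [hcard A hA, hoN A hA]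
  rcases Nat.lt_or_ge w 4 with hw | hw
  · have hw' : w = 2 := by
      obtain ⟨k, hk⟩ := hFA.even; have := hFA.two_le; omega
    have h := hfin (2 * e + 4) fun C hC => by
      obtain ⟨hne, heC, hwC, hwe, ⟨k, hk⟩⟩ := hbig C hC
      rcases Nat.lt_or_ge (ww C) 4 with h4 | h4
      · have h2 : ww C = 2 := by obtain ⟨i, hi⟩ := hwe; omega
        rw [h2, hw'] at hne
        rw [h2]
        obtain ⟨k', hk'⟩ : Odd e := hodd.of_dvd_nat ((Dvd.intro _ (hN A hA).symm).trans
          (Subgroup.card_subgroup_dvd_card _))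
        omega
      · have : 4 * ee C ≤ ww C * ee C := Nat.mul_le_mul_right _ h4
        omega
    rw [← hcard A hA] at h
    refine arith_cn hNA ho1 hδ1 he _ h (Or.inl ⟨hw', rfl, fun h3 => ⟨?_, ?_⟩⟩)
    · have : Group.IsNilpotent A := (hReps A hA).1
      refine card_commutator_eq_one_of_prime_index ?_
      rw [← hFA.index_eq, show ww A = 2 from hw', show ee A = 3 from h3]
      norm_num
    · by_contra hlt
      have ho : o A = 1 := by omega
      have hG3 : 3 * Nat.card A = Nat.card G := by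
        rw [← hoN A hA, ho, one_mul, ← h3]
      have hA0 : 0 < Nat.card A := Nat.card_pos
      rcases Oth.eq_empty_or_nonempty with hem | ⟨C, hC⟩
      · rw [← Finset.add_sum_erase _ _ hA, ← hOth, hem, Finset.sum_empty] at htot
        rw [show (conjOrbit A).card = 1 from ho, one_mul] at htot
        omega
      obtain ⟨hCA, hCR⟩ := Finset.mem_erase.mp hC
      obtain ⟨-, heC, hwC, -, -⟩ := hbig C hC
      obtain ⟨a1, a2, -⟩ := hReps A hA
      obtain ⟨c1, c2, -⟩ := hReps C hCR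
      have hinj : Function.Injective fun x : A × C => (x.1 : G) * (x.2 : G) := by
        intro x y hxy
        have hmem : (y.1 : G)⁻¹ * (x.1 : G) = (y.2 : G) * (x.2 : G)⁻¹ := by
          have h' := congrArg (fun t => (y.1 : G)⁻¹ * t * (x.2 : G)⁻¹) hxy
          simpa [mul_assoc] using h'
        have h1 : (y.1 : G)⁻¹ * (x.1 : G) = 1 := by
          by_contra hne1
          exact hCA (a2.eq_of_mem c2 a1 c1 (mul_mem (inv_mem y.1.2) x.1.2)
            (hmem ▸ mul_mem y.2.2 (inv_mem x.2.2)) hne1).symm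
        exact Prod.ext (Subtype.ext (inv_mul_eq_one.mp h1).symm)
          (Subtype.ext (mul_inv_eq_one.mp (hmem ▸ h1)).symm)
      have hAC := Nat.card_le_card_of_injective _ hinj
      rw [Nat.card_prod, ← hG3] at hAC
      have h6 : 6 ≤ ww C * ee C :=
        le_trans (by omega) (Nat.mul_le_mul hwC heC)
      have h7 : ww C * ee C + 1 ≤ Nat.card C := by
        rw [← hcard C hCR]; exact Nat.le_mul_of_pos_left _ Nat.card_pos
      nlinarith
  · have h := hfin (2 * e) fun C hC => by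
      obtain ⟨-, heC, hwC, -, -⟩ := hbig C hC
      exact Nat.mul_le_mul hwC heC
    rw [← hcard A hA] at h
    exact arith_cn hNA ho1 hδ1 he _ h (Or.inr ⟨hw, rfl⟩)

theorem not_cn_odd_simple [Fintype G] [IsSimpleGroup G] (hodd : Odd (Nat.card G))
    (hG : ¬ IsMulCommutative G) (hsolv : ∀ H : Subgroup G, H ≠ ⊤ → Group.IsSolvable H)
    (hCN : Cfsg.IsCNGroup G) : False :=
  haveI : Nontrivial G := IsSimpleGroup.toNontrivial
  not_odd_closed_cover hodd (fun _ hg => exists_centralizerClosed_nilpotent hodd hG hsolv hCN hg)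
    fun _ hA hAn hA1 => not_normalizer_le_of_closed hG hA hAn hA1

end CfsgLib.Char
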