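import Cfsg.Agent.Lib.Char.Perm
import Cfsg.Agent.Lib.Char.Banaschewski
import Mathlib.GroupTheory.Sylow
import Mathlib.GroupTheory.SpecificGroups.Cyclic
import Mathlib.Data.Nat.Factorization.Basic

/-!
# Quasi-elementary subgroups and the constant one
-/

namespace CfsgLib.Char

open Module
open scoped ComplexConjugate

universe u

variable {G : Type u} [Group G]

/-- `H` is quasi-elementary for `p`: a cyclic normal `p'`-subgroup with `p`-group quotient. -/
def IsQuasiElem (p : ℕ) (H : Subgroup G) : Prop :=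
  ∃ C : Subgroup G, C ≤ H ∧ H ≤ Subgroup.normalizer (C : Set G) ∧ IsCyclic C ∧
    Nat.Coprime (Nat.card C) p ∧ ∃ k : ℕ, C.relIndex H = p ^ k

theorem relIndex_dvd_relIndex_of_normalizer [Finite G] {C H U : Subgroup G}
    (hnorm : H ≤ Subgroup.normalizer (C : Set G)) (hUH : U ≤ H) :
    C.relIndex U ∣ C.relIndex H := by
  have : (C.subgroupOf H).Normal := Subgroup.normal_subgroupOf_of_le_normalizer hnorm
  rw [← Subgroup.relIndex_subgroupOf hUH]
  exact Subgroup.relIndex_dvd_index_of_normal (C.subgroupOf H) (U.subgroupOf H)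

theorem isQuasiElem_of_le [Finite G] {p : ℕ} (hp : p.Prime) {H U : Subgroup G}
    (h : IsQuasiElem p H) (hUH : U ≤ H) : IsQuasiElem p U := by
  obtain ⟨C, hCH, hnorm, hcyc, hcop, k, hk⟩ := h
  refine ⟨C ⊓ U, inf_le_right, fun a ha => ?_, ?_, ?_, ?_⟩
  · have hC := Subgroup.mem_normalizer_iff.mp (hnorm (hUH ha))
    rw [Subgroup.mem_normalizer_iff]
    intro b
    simp only [Subgroup.mem_inf]
    rw [← hC b]
    refine and_congr_right fun _ => ⟨fun hb => U.mul_mem (U.mul_mem ha hb) (U.inv_mem ha),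
      fun hb => ?_⟩
    have := U.mul_mem (U.mul_mem (U.inv_mem ha) hb) ha
    simpa [mul_assoc] using this
  · exact isCyclic_of_injective (Subgroup.inclusion (inf_le_left : C ⊓ U ≤ C))
      (Subgroup.inclusion_injective _)
  · exact Nat.Coprime.coprime_dvd_left (Subgroup.card_dvd_of_le inf_le_left) hcop
  · rw [Subgroup.inf_relIndex_right]
    have := relIndex_dvd_relIndex_of_normalizer hnorm hUH
    rw [hk] at this
    obtain ⟨i, -, hi⟩ := (Nat.dvd_prime_pow hp).mp this
    exact ⟨i, hi⟩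

theorem isCyclic_isQuasiElem {p : ℕ} (C : Subgroup G) [IsCyclic C]
    (hcop : Nat.Coprime (Nat.card C) p) : IsQuasiElem p C :=
  ⟨C, le_rfl, Subgroup.le_normalizer, inferInstance, hcop, 0, by simp⟩

open scoped Classical in
theorem sum_indicator_fiber {A B : Type*} [Group A] [Group B] [Fintype A] [Fintype B]
    (f : A →* B) (hf : Function.Surjective f) (φ : B → ℂ) :
    ∑ a : A, φ (f a) = (Nat.card f.ker : ℂ) * ∑ b : B, φ b := by
  rw [← Finset.sum_fiberwise Finset.univ f, Finset.mul_sum]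
  refine Finset.sum_congr rfl fun b _ => ?_
  rw [Finset.sum_congr rfl (g := fun _ => φ b) (fun a ha => by rw [(Finset.mem_filter.mp ha).2]),
    Finset.sum_const, nsmul_eq_mul]
  congr 2
  obtain ⟨a0, rfl⟩ := hf b
  rw [Nat.card_eq_fintype_card, Fintype.card_subtype]
  refine Finset.card_equiv (Equiv.mulLeft a0⁻¹) fun a => ?_
  simp [MonoidHom.mem_ker]
  exact (inv_mul_eq_one.trans eq_comm).symm

/-- For every element there is a quasi-elementary subgroup whose permutation character has
`p'`-value there. -/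
theorem exists_quasiElem_indFun [Fintype G] (x : G) (p : ℕ) (hp : p.Prime) :
    ∃ H : Subgroup G, IsQuasiElem p H ∧
      ∃ n : ℕ, Cfsg.indFun H (fun _ => 1) x = (n : ℂ) ∧ ¬ p ∣ n := by
  classical
  have : Fact p.Prime := ⟨hp⟩
  set a := (orderOf x).factorization p with ha
  set m := orderOf x / p ^ a with hm
  have hxo : p ^ a * m = orderOf x := Nat.ordProj_mul_ordCompl_eq_self (orderOf x) p
  have hmcop : Nat.Coprime p m := Nat.coprime_ordCompl hp (orderOf_pos x).ne'
  set s := x ^ p ^ a with hs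
  have hso : orderOf s = m := by
    rw [hs, orderOf_pow_of_dvd (pow_pos hp.pos a).ne' ⟨m, hxo.symm⟩]
  let C : Subgroup G := Subgroup.zpowers s
  have hCcard : Nat.card C = m := by rw [Nat.card_zpowers, hso]
  let N : Subgroup G := Subgroup.normalizer (C : Set G)
  have hCN : C ≤ N := Subgroup.le_normalizer
  have hxN : x ∈ N := by
    refine Subgroup.mem_normalizer_iff.mpr fun b => ?_
    have hcomm : ∀ c ∈ C, x * c * x⁻¹ = c := fun c hc => by
      obtain ⟨i, rfl⟩ := Subgroup.mem_zpowers_iff.mp hc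
      rw [hs]
      have : Commute x ((x ^ p ^ a) ^ i) := ((Commute.refl x).pow_right _).zpow_right i
      rw [this.eq, mul_inv_cancel_right]
    refine ⟨fun hb => by rwa [hcomm b hb], fun hb => ?_⟩
    have h2 := hcomm _ hb
    have : x * b * x⁻¹ = b := mul_left_cancel (mul_right_cancel h2)
    rwa [this] at hb
  have : (C.subgroupOf N).Normal := Subgroup.normal_in_normalizer
  let f : N →* N ⧸ C.subgroupOf N := QuotientGroup.mk' _
  let xb : N ⧸ C.subgroupOf N := f ⟨x, hxN⟩
  have hxb : xb ^ p ^ a = 1 := by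
    rw [← map_pow]
    exact (QuotientGroup.eq_one_iff _).mpr (Subgroup.mem_subgroupOf.mpr (by
      simp only [SubmonoidClass.coe_pow]
      exact Subgroup.mem_zpowers s))
  have hpg : IsPGroup p (Subgroup.zpowers xb) := by
    obtain ⟨i, -, hi⟩ := (Nat.dvd_prime_pow hp).mp (orderOf_dvd_of_pow_eq_one hxb)
    exact IsPGroup.of_card (by rw [Nat.card_zpowers, hi])
  obtain ⟨S, hS⟩ := hpg.exists_le_sylow
  let H0 : Subgroup N := (S : Subgroup (N ⧸ C.subgroupOf N)).comap f
  let H : Subgroup G := H0.map N.subtype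
  have hH : H ≤ N := Subgroup.map_subtype_le _
  have hmemH : ∀ (g : G) (hg : g ∈ N), g ∈ H ↔ f ⟨g, hg⟩ ∈ S := fun g hg => by
    refine ⟨fun h => ?_, fun h => ⟨⟨g, hg⟩, h, rfl⟩⟩
    obtain ⟨⟨b, hb⟩, hb', rfl⟩ := h
    exact hb'
  have hCH : C ≤ H := fun c hc => by
    rw [hmemH c (hCN hc), show f ⟨c, hCN hc⟩ = 1 from
      (QuotientGroup.eq_one_iff _).mpr (Subgroup.mem_subgroupOf.mpr hc)]
    exact one_mem _
  have hker : Nat.card f.ker = Nat.card C := by
    rw [QuotientGroup.ker_mk']
    exact Nat.card_congr (Subgroup.subgroupOfEquivOfLe hCN).toEquiv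
  have hcardH : Nat.card H = Nat.card (S : Subgroup (N ⧸ C.subgroupOf N)) * Nat.card C := by
    have h1 : Nat.card H = Nat.card H0 :=
      (Nat.card_congr (Subgroup.equivMapOfInjective _ _ N.subtype_injective).toEquiv).symm
    have h2 := H0.index_mul_card
    rw [Subgroup.index_comap_of_surjective _ (QuotientGroup.mk'_surjective _)] at h2
    have h3 := (S : Subgroup (N ⧸ C.subgroupOf N)).index_mul_card
    have h4 := (C.subgroupOf N).index_mul_card
    rw [Subgroup.index_eq_card, ← h3,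
      Nat.card_congr (Subgroup.subgroupOfEquivOfLe hCN).toEquiv, ← h2] at h4
    rw [h1]
    have hpos : 0 < (S : Subgroup (N ⧸ C.subgroupOf N)).index :=
      Nat.pos_of_ne_zero Subgroup.index_ne_zero_of_finite
    refine Nat.eq_of_mul_eq_mul_left hpos ?_
    rw [← mul_assoc]
    exact h4.symm
  obtain ⟨b, hb⟩ := IsPGroup.iff_card.mp S.isPGroup'
  have hrel : C.relIndex H = p ^ b := by
    have h1 := (C.subgroupOf H).index_mul_card
    rw [Nat.card_congr (Subgroup.subgroupOfEquivOfLe hCH).toEquiv, hcardH, hb] at h1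
    exact Nat.eq_of_mul_eq_mul_right Nat.card_pos h1
  have hQE : IsQuasiElem p H := by
    refine ⟨C, hCH, hH, inferInstance, ?_, b, hrel⟩
    rw [hCcard]
    exact hmcop.symm
  have hPC : ∀ g : G, g⁻¹ * x * g ∈ H → g ∈ N := by
    intro g hg
    have hsH : g⁻¹ * s * g ∈ H := by
      have := H.pow_mem hg (p ^ a)
      rwa [show (g⁻¹ * x * g) ^ p ^ a = g⁻¹ * s * g from by
        rw [hs]; simpa using conj_pow (i := p ^ a) (a := g⁻¹) (b := x)] at this
    have hsN : g⁻¹ * s * g ∈ N := hH hsH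
    have hzero : f ⟨_, hsN⟩ = 1 := by
      have h1 : f ⟨_, hsN⟩ ^ m = 1 := by
        rw [← map_pow]
        convert map_one f
        refine Subtype.ext ?_
        simp only [SubmonoidClass.coe_pow, OneMemClass.coe_one]
        have : (g⁻¹ * s * g) ^ m = g⁻¹ * s ^ m * g := by
          simpa using conj_pow (i := m) (a := g⁻¹) (b := s)
        rw [this, ← hso, pow_orderOf_eq_one]
        group
      obtain ⟨c, hc⟩ := S.isPGroup' ⟨f ⟨_, hsN⟩, (hmemH _ hsN).mp hsH⟩
      have hc' : f ⟨_, hsN⟩ ^ p ^ c = 1 := congr_arg Subtype.val hc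
      have hd := Nat.dvd_gcd (orderOf_dvd_of_pow_eq_one hc') (orderOf_dvd_of_pow_eq_one h1)
      rw [(Nat.Coprime.pow_left c hmcop).gcd_eq_one, Nat.dvd_one, orderOf_eq_one_iff] at hd
      exact hd
    have hmem : g⁻¹ * s * g ∈ C :=
      Subgroup.mem_subgroupOf.mp ((QuotientGroup.eq_one_iff _).mp hzero)
    have hle : C.map (MulAut.conj g⁻¹).toMonoidHom ≤ C := by
      rw [MonoidHom.map_zpowers, Subgroup.zpowers_le]
      simpa using hmem
    have heq : C.map (MulAut.conj g⁻¹).toMonoidHom = C := Subgroup.eq_of_le_of_card_ge hle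
      (Nat.card_congr (Subgroup.equivMapOfInjective _ _ (MulAut.conj g⁻¹).injective).toEquiv).le
    have : g⁻¹ ∈ N := by
      refine Subgroup.mem_normalizer_iff.mpr fun c => ?_
      conv_rhs => rw [← heq]
      exact (Subgroup.mem_map_iff_mem (MulAut.conj g⁻¹).injective (K := C)).symm
    simpa using N.inv_mem this
  refine ⟨H, hQE, Nat.card (MulAction.fixedBy ((N ⧸ C.subgroupOf N) ⧸
    (S : Subgroup (N ⧸ C.subgroupOf N))) xb), ?_, ?_⟩
  · rw [natCard_fixedBy_eq_indFun _ ((1 : N ⧸ C.subgroupOf N) : (N ⧸ C.subgroupOf N) ⧸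
      (S : Subgroup (N ⧸ C.subgroupOf N))) xb, MulAction.stabilizer_quotient,
      indFun_def, indFun_def, hcardH]
    have hterm : ∀ g : N,
        Cfsg.extendByZero H (fun _ => (1 : ℂ)) ((g : G)⁻¹ * x * (g : G)) =
          Cfsg.extendByZero (S : Subgroup (N ⧸ C.subgroupOf N)) (fun _ => (1 : ℂ))
            ((f g)⁻¹ * xb * f g) := fun g => by
      have hN : (g : G)⁻¹ * x * (g : G) ∈ N := N.mul_mem (N.mul_mem (N.inv_mem g.2) hxN) g.2
      have e : f ⟨_, hN⟩ = (f g)⁻¹ * xb * f g := by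
        rw [← map_inv, ← map_mul, ← map_mul]
        rfl
      by_cases hm' : (g : G)⁻¹ * x * (g : G) ∈ H
      · rw [extendByZero_of_mem _ hm', extendByZero_of_mem _ (e ▸ (hmemH _ hN).mp hm')]
      · rw [extendByZero_of_not_mem _ hm',
          extendByZero_of_not_mem _ fun h => hm' ((hmemH _ hN).mpr (e ▸ h))]
    have hsum : ∑ g : G, Cfsg.extendByZero H (fun _ => (1 : ℂ)) (g⁻¹ * x * g) =
        ∑ g : N, Cfsg.extendByZero H (fun _ => (1 : ℂ)) ((g : G)⁻¹ * x * (g : G)) := by
      rw [← Finset.sum_filter_of_ne (p := fun g => g ∈ N) (fun g _ hne => by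
        by_contra hgN
        exact hne (extendByZero_of_not_mem _ fun h => hgN (hPC g h)))]
      exact Finset.sum_subtype _ (fun g => by simp) _
    rw [hsum, Finset.sum_congr rfl fun g _ => hterm g,
      sum_indicator_fiber f (QuotientGroup.mk'_surjective _)
        (fun q => Cfsg.extendByZero (S : Subgroup (N ⧸ C.subgroupOf N)) (fun _ => (1 : ℂ))
          (q⁻¹ * xb * q)), hker]
    have hCne : (Nat.card C : ℂ) ≠ 0 := by exact_mod_cast Nat.card_pos.ne'
    push_cast
    field_simp
  · have hmod : Nat.card ((N ⧸ C.subgroupOf N) ⧸ (S : Subgroup (N ⧸ C.subgroupOf N))) ≡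
        Nat.card (MulAction.fixedPoints (Subgroup.zpowers xb)
          ((N ⧸ C.subgroupOf N) ⧸ (S : Subgroup (N ⧸ C.subgroupOf N)))) [MOD p] :=
      hpg.card_modEq_card_fixedPoints _
    have hset : MulAction.fixedPoints (Subgroup.zpowers xb)
        ((N ⧸ C.subgroupOf N) ⧸ (S : Subgroup (N ⧸ C.subgroupOf N))) =
        MulAction.fixedBy _ xb := by
      ext q
      simp only [MulAction.mem_fixedPoints, MulAction.mem_fixedBy]
      refine ⟨fun h => h ⟨xb, Subgroup.mem_zpowers xb⟩, fun h y => ?_⟩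
      have hle : Subgroup.zpowers xb ≤ MulAction.stabilizer (N ⧸ C.subgroupOf N) q :=
        Subgroup.zpowers_le.mpr (MulAction.mem_stabilizer_iff.mpr h)
      exact MulAction.mem_stabilizer_iff.mp (hle y.2)
    rw [hset] at hmod
    intro hdvd
    have h0 := hmod.trans (Nat.modEq_zero_iff_dvd.mpr hdvd)
    rw [← Subgroup.index_eq_card] at h0
    exact S.not_dvd_index (Nat.modEq_zero_iff_dvd.mp h0)

/-- The constant `m` is a combination of permutation characters of `p`-quasi-elementary subgroups,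
for some `m` prime to `p`. -/
theorem exists_const_mem_permSpan [Fintype G] (p : ℕ) (hp : p.Prime) :
    ∃ m : ℤ, ¬ (p : ℤ) ∣ m ∧
      (fun _ : G => (m : ℂ)) ∈ permSpan (fun H : Subgroup G => IsQuasiElem p H) := by
  classical
  let ι : (G → ℤ) →+* (G → ℂ) := (Int.castRingHom ℂ).compLeft G
  let M := permSpan (fun H : Subgroup G => IsQuasiElem p H)
  let R : AddSubgroup (G → ℤ) := M.comap ι.toAddMonoidHom
  have hmulR : ∀ f ∈ R, ∀ g ∈ R, f * g ∈ R := fun f hf g hg => by
    show ι (f * g) ∈ M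
    rw [map_mul]
    exact permSpan_mul_mem (fun H U h hle => isQuasiElem_of_le hp h hle) hf hg
  let R' : AddSubgroup (G → ℤ) :=
    { carrier := {f | ∃ r ∈ R, ∀ g, (p : ℤ) ∣ f g - r g}
      zero_mem' := ⟨0, R.zero_mem, fun g => by simp⟩
      add_mem' := by
        rintro f f' ⟨r, hr, h⟩ ⟨r', hr', h'⟩
        refine ⟨r + r', R.add_mem hr hr', fun g => ?_⟩
        have e : (f + f') g - (r + r') g = (f g - r g) + (f' g - r' g) := by
          simp only [Pi.add_apply]; ring
        rw [e]; exact (h g).add (h' g)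
      neg_mem' := by
        rintro f ⟨r, hr, h⟩
        refine ⟨-r, R.neg_mem hr, fun g => ?_⟩
        have e : (-f) g - (-r) g = -(f g - r g) := by
          simp only [Pi.neg_apply]; ring
        rw [e]; exact (h g).neg_right }
  have hmulR' : ∀ f ∈ R', ∀ g ∈ R', f * g ∈ R' := by
    rintro f ⟨r, hr, h⟩ f' ⟨r', hr', h'⟩
    refine ⟨r * r', hmulR r hr r' hr', fun g => ?_⟩
    have e : (f * f') g - (r * r') g = f g * (f' g - r' g) + r' g * (f g - r g) := by
      simp only [Pi.mul_apply]; ring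
    rw [e]; exact ((h' g).mul_left _).add ((h g).mul_left _)
  have hval : ∀ H : Subgroup G, IsQuasiElem p H →
      (fun g : G => (Nat.card (MulAction.fixedBy (G ⧸ H) g) : ℤ)) ∈ R := by
    intro H hH
    refine AddSubgroup.subset_closure ⟨H, hH, ?_⟩
    ext g
    simp only [ι, RingHom.toAddMonoidHom_eq_coe, AddMonoidHom.coe_coe]
    change (((Nat.card (MulAction.fixedBy (G ⧸ H) g) : ℤ)) : ℂ) = _
    rw [Int.cast_natCast, natCard_fixedBy_eq_indFun (G ⧸ H) ((1 : G) : G ⧸ H) g,
      MulAction.stabilizer_quotient]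
  have hone : (1 : G → ℤ) ∈ R' := by
    by_contra hn
    obtain ⟨x, q, hq, hall⟩ := banaschewski R' hmulR' hn
    have hqp : (q : ℤ) ∣ (p : ℤ) := hall (fun _ => (p : ℤ)) ⟨0, R.zero_mem, fun g => by simp⟩
    rw [Int.natCast_dvd_natCast, Nat.prime_dvd_prime_iff_eq hq hp] at hqp
    subst hqp
    obtain ⟨H, hH, n, hn, hnd⟩ := exists_quasiElem_indFun x q hp
    rw [← MulAction.stabilizer_quotient H, ← natCard_fixedBy_eq_indFun, Nat.cast_inj] at hn
    have h := hall _ ⟨_, hval H hH, fun g => by rw [sub_self]; exact dvd_zero _⟩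
    rw [hn, Int.natCast_dvd_natCast] at h
    exact hnd h
  obtain ⟨r, hr, hrd⟩ := hone
  let s : Finset ℤ := Finset.univ.image r
  refine ⟨∏ v ∈ s, v, fun hdvd => ?_, ?_⟩
  · obtain ⟨v, hv, hpv⟩ := (Nat.prime_iff_prime_int.mp hp).exists_mem_finset_dvd hdvd
    obtain ⟨g, -, rfl⟩ := Finset.mem_image.mp hv
    have h1 := (hrd g).add hpv
    simp only [Pi.one_apply, sub_add_cancel] at h1
    exact hp.one_lt.ne' (Nat.dvd_one.mp (Int.natCast_dvd_natCast.mp (by exact_mod_cast h1)))
  · have hkey : ∀ t : Finset ℤ,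
        (fun g => ∏ v ∈ t, (v - r g)) - (fun _ => ∏ v ∈ t, v) ∈ R := by
      intro t
      induction t using Finset.induction with
      | empty =>
        have e : ((fun g => ∏ v ∈ (∅ : Finset ℤ), (v - r g)) -
            fun _ => ∏ v ∈ (∅ : Finset ℤ), v) = (0 : G → ℤ) := by ext g; simp
        rw [e]; exact R.zero_mem
      | insert a t ha ih =>
        set Q : ℤ := ∏ v ∈ t, v
        set D : G → ℤ := (fun g => ∏ v ∈ t, (v - r g)) - fun _ => Q with hD
        have e : ((fun g => ∏ v ∈ insert a t, (v - r g)) - fun _ => ∏ v ∈ insert a t, v) =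
            a • D - Q • r - r * D := by
          ext g
          simp only [hD, Pi.sub_apply, Pi.smul_apply, Pi.mul_apply, smul_eq_mul,
            Finset.prod_insert ha, Q]
          ring
        rw [e]
        exact R.sub_mem (R.sub_mem (R.zsmul_mem ih a) (R.zsmul_mem hr Q)) (hmulR _ hr _ ih)
    have hz : (fun g => ∏ v ∈ s, (v - r g)) = (0 : G → ℤ) := by
      ext g
      exact Finset.prod_eq_zero (Finset.mem_image_of_mem r (Finset.mem_univ g)) (sub_self _)
    have h2 := R.neg_mem (hkey s)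
    rw [hz, zero_sub, neg_neg] at h2
    exact h2

end CfsgLib.Char
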