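import Cfsg.Agent.Lib.Char.Monomial
import Cfsg.Agent.Lib.Char.QuasiElem

/-!
# Elementary subgroups
-/

namespace CfsgLib.Char

universe u

variable {G : Type u} [Group G]

theorem isElementary_of_equiv {p : ℕ} {A B : Type u} [Group A] [Group B] (e : A ≃* B)
    (h : Cfsg.IsElementary p A) : Cfsg.IsElementary p B := by
  obtain ⟨x, hx, hcop, k, hk⟩ := h
  refine ⟨e x, ?_, ?_, k, ?_⟩
  · rw [Subgroup.mem_center_iff] at hx ⊢
    intro b
    obtain ⟨a, rfl⟩ := e.surjective b
    rw [← map_mul, hx, map_mul]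
  · rwa [MulEquiv.orderOf_eq]
  · rw [← hk, ← Subgroup.index_map_equiv (Subgroup.zpowers x) e, MonoidHom.map_zpowers]
    rfl

theorem isElementary_map {p : ℕ} {A B : Type u} [Group A] [Group B] {f : A →* B}
    (hf : Function.Injective f) {E : Subgroup A} (h : Cfsg.IsElementary p E) :
    Cfsg.IsElementary p (E.map f) :=
  isElementary_of_equiv (E.equivMapOfInjective f hf) h

theorem isElementary_subgroup {p : ℕ} (hp : p.Prime) {A : Type u} [Group A] [Finite A]
    (h : Cfsg.IsElementary p A) (U : Subgroup A) : Cfsg.IsElementary p U := by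
  obtain ⟨x, hx, hcop, k, hk⟩ := h
  obtain ⟨y, hy⟩ : ∃ y : U, (Subgroup.zpowers x).subgroupOf U = Subgroup.zpowers y := by
    have hc : IsCyclic ((Subgroup.zpowers x).subgroupOf U) := isCyclic_of_injective
      (⟨⟨fun z => ⟨((z : U) : A), Subgroup.mem_subgroupOf.mp z.2⟩, rfl⟩, fun _ _ => rfl⟩ :
        (Subgroup.zpowers x).subgroupOf U →* Subgroup.zpowers x)
      fun a b h => Subtype.ext (Subtype.ext (congr_arg (fun z : Subgroup.zpowers x => (z : A)) h))
    obtain ⟨z, hz⟩ := (Subgroup.isCyclic_iff_exists_zpowers_eq_top _).mp hc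
    exact ⟨z, hz.symm⟩
  have hymem : (y : A) ∈ Subgroup.zpowers x :=
    Subgroup.mem_subgroupOf.mp (hy ▸ Subgroup.mem_zpowers y)
  refine ⟨y, ?_, ?_, ?_⟩
  · rw [Subgroup.mem_center_iff]
    intro u
    exact Subtype.ext (Subgroup.mem_center_iff.mp (Subgroup.zpowers_le.mpr hx hymem) u)
  · refine hcop.coprime_dvd_left ?_
    rw [← Subgroup.orderOf_coe]
    exact orderOf_dvd_of_mem_zpowers hymem
  · have : (Subgroup.zpowers x).Normal :=
      ⟨fun n hn g => by
        rw [Subgroup.mem_center_iff.mp (Subgroup.zpowers_le.mpr hx hn) g, mul_inv_cancel_right]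
        exact hn⟩
    have hd : (Subgroup.zpowers y).index ∣ p ^ k := by
      rw [← hy, ← hk]
      exact Subgroup.relIndex_dvd_index_of_normal _ _
    obtain ⟨i, -, hi⟩ := (Nat.dvd_prime_pow hp).mp hd
    exact ⟨i, hi⟩

theorem isCyclicByNilpotent_of_isElementary {p : ℕ} (hp : p.Prime) {A : Type u} [Group A]
    [Finite A] (h : Cfsg.IsElementary p A) : IsCyclicByNilpotent A := by
  obtain ⟨x, hx, -, k, hk⟩ := h
  have hn : (Subgroup.zpowers x).Normal := ⟨fun n hn g => by
    rw [Subgroup.mem_center_iff.mp (Subgroup.zpowers_le.mpr hx hn) g, mul_inv_cancel_right]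
    exact hn⟩
  refine ⟨Subgroup.zpowers x, hn, inferInstance, ?_⟩
  have : Fact p.Prime := ⟨hp⟩
  exact (IsPGroup.of_card (p := p) (n := k)
    (by rw [← Subgroup.index_eq_card, hk])).isNilpotent

end CfsgLib.Char
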