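import Cfsg.Agent.Lib.Char.Fixed
import Mathlib.GroupTheory.CommutingProbability
import Mathlib.GroupTheory.Complement

/-!
# Frobenius groups given by a kernel and a fixed-point-free complement
-/

namespace CfsgLib.Char

open scoped ComplexConjugate

universe u

variable {G : Type u} [Group G]

theorem frobenius_conj_inj (K H : Subgroup G) [K.Normal] (hKH : K ⊓ H = ⊥)
    (hfpf : ∀ h ∈ H, h ≠ 1 → ∀ k ∈ K, h * k = k * h → k = 1)
    {u u' h h' : G} (hu : u ∈ K) (hu' : u' ∈ K) (hh : h ∈ H) (hh' : h' ∈ H) (hne : h ≠ 1)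
    (e : u * h * u⁻¹ = u' * h' * u'⁻¹) : u = u' ∧ h = h' := by
  have hmemK : h⁻¹ * h' ∈ K := by
    have e1 : h = u⁻¹ * (u' * h' * u'⁻¹) * u := by rw [← e]; group
    have : (QuotientGroup.mk' K) h = (QuotientGroup.mk' K) h' := by
      conv_lhs => rw [e1]
      simp [(QuotientGroup.eq_one_iff u).mpr hu, (QuotientGroup.eq_one_iff u').mpr hu']
    exact QuotientGroup.eq.mp this
  have hmemH : h⁻¹ * h' ∈ H := H.mul_mem (H.inv_mem hh) hh'
  have h1 : h⁻¹ * h' = 1 := Subgroup.mem_bot.mp (hKH ▸ Subgroup.mem_inf.mpr ⟨hmemK, hmemH⟩)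
  have hhh : h = h' := inv_mul_eq_one.mp h1
  subst hhh
  refine ⟨?_, rfl⟩
  have h2 : h * (u⁻¹ * u') = u⁻¹ * u' * h := by
    have e2 := congr_arg (fun x => u⁻¹ * x * u') e
    simp only [mul_assoc, inv_mul_cancel, mul_one, inv_mul_cancel_left] at e2
    simpa [mul_assoc] using e2
  exact inv_mul_eq_one.mp (hfpf h hh hne _ (K.mul_mem (K.inv_mem hu) hu') h2)

theorem frobenius_card [Finite G] (K H : Subgroup G) [K.Normal] (hKH : K ⊓ H = ⊥)
    (hKH' : K ⊔ H = ⊤) : Nat.card K * Nat.card H = Nat.card G := by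
  refine Subgroup.IsComplement'.card_mul (Subgroup.isComplement'_of_disjoint_and_mul_eq_univ
    (disjoint_iff.mpr hKH) ?_)
  rw [← Subgroup.normal_mul, hKH', Subgroup.coe_top]

/-- The parametrisation of the elements outside the kernel. -/
noncomputable def frobeniusEquiv [Finite G] (K H : Subgroup G) [K.Normal] (hKH : K ⊓ H = ⊥)
    (hKH' : K ⊔ H = ⊤) (hfpf : ∀ h ∈ H, h ≠ 1 → ∀ k ∈ K, h * k = k * h → k = 1) :
    K × {h : H // h ≠ 1} ≃ {g : G // g ∉ K} :=
  Equiv.ofBijective (fun p => ⟨(p.1 : G) * (p.2.1 : G) * (p.1 : G)⁻¹, fun hmem => p.2.2 (by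
      have h1 := K.mul_mem (K.mul_mem (K.inv_mem p.1.2) hmem) p.1.2
      simp only [mul_assoc, inv_mul_cancel, mul_one, inv_mul_cancel_left] at h1
      exact Subtype.ext (Subgroup.mem_bot.mp (hKH ▸ Subgroup.mem_inf.mpr ⟨h1, p.2.1.2⟩)))⟩) (by
    classical
    have := Fintype.ofFinite G
    rw [Nat.bijective_iff_injective_and_card]
    refine ⟨fun p q h => ?_, ?_⟩
    · obtain ⟨h1, h2⟩ := frobenius_conj_inj K H hKH hfpf p.1.2 q.1.2 p.2.1.2 q.2.1.2
        (fun h => p.2.2 (Subtype.ext h)) (congr_arg Subtype.val h)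
      exact Prod.ext (Subtype.ext h1) (Subtype.ext (Subtype.ext h2))
    · have h1 := frobenius_card K H hKH hKH'
      rw [Nat.card_prod, Nat.card_eq_fintype_card (α := {h : H // h ≠ 1}),
        Fintype.card_subtype_compl, Fintype.card_subtype_eq,
        Nat.card_eq_fintype_card (α := {g : G // g ∉ K}), Fintype.card_subtype_compl]
      simp only [← Nat.card_eq_fintype_card]
      rw [Nat.mul_sub_one, h1])

theorem frobenius_exists_conj [Finite G] (K H : Subgroup G) [K.Normal] (hKH : K ⊓ H = ⊥)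
    (hKH' : K ⊔ H = ⊤) (hfpf : ∀ h ∈ H, h ≠ 1 → ∀ k ∈ K, h * k = k * h → k = 1)
    {g : G} (hg : g ∉ K) : ∃ u ∈ K, ∃ h ∈ H, h ≠ 1 ∧ g = u * h * u⁻¹ := by
  obtain ⟨⟨u, h, hne⟩, he⟩ := (frobeniusEquiv K H hKH hKH' hfpf).surjective ⟨g, hg⟩
  exact ⟨u, u.2, h, h.2, fun e => hne (Subtype.ext e), (congr_arg Subtype.val he).symm⟩

theorem frobenius_commute_eq_one [Finite G] (K H : Subgroup G) [K.Normal] (hKH : K ⊓ H = ⊥)
    (hKH' : K ⊔ H = ⊤) (hfpf : ∀ h ∈ H, h ≠ 1 → ∀ k ∈ K, h * k = k * h → k = 1)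
    {g k : G} (hg : g ∉ K) (hk : k ∈ K) (e : g * k = k * g) : k = 1 := by
  obtain ⟨u, hu, h, hh, hne, rfl⟩ := frobenius_exists_conj K H hKH hKH' hfpf hg
  have h2 := hfpf h hh hne (u⁻¹ * k * u) (K.mul_mem (K.mul_mem (K.inv_mem hu) hk) hu) (by
    have e2 := congr_arg (fun x => u⁻¹ * x * u) e
    simp only [mul_assoc, inv_mul_cancel, mul_one, inv_mul_cancel_left] at e2
    simpa [mul_assoc] using e2)
  have := congr_arg (fun x => u * x * u⁻¹) h2
  simpa [mul_assoc] using this

theorem indFun_frobenius_irr [Fintype G] (K H : Subgroup G) [hN : K.Normal] (hKH : K ⊓ H = ⊥)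
    (hKH' : K ⊔ H = ⊤) (hfpf : ∀ h ∈ H, h ≠ 1 → ∀ k ∈ K, h * k = k * h → k = 1) {τ : K → ℂ}
    (hτ : Cfsg.IsIrrCharacter K τ) (hτ1 : τ ≠ fun _ => 1) :
    Cfsg.IsIrrCharacter G (Cfsg.indFun K τ) := by
  classical
  have := Fintype.ofFinite K
  refine isIrrCharacter_iff.mpr ⟨isCharacter_indFun K (irr_isCharacter hτ), ?_⟩
  have hstab : ∀ g : G, (fun k : K => τ ⟨g * k * g⁻¹, hN.conj_mem k k.2 g⟩) = τ → g ∈ K := by
    intro g hg
    by_contra hgK
    let α : K ≃* K := MulAut.conjNormal g
    have hfix : (τ : K → ℂ) ∘ α = τ := by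
      refine Eq.trans (funext fun k => congr_arg τ (Subtype.ext ?_)) hg
      simp [α]
    have : Finite (ConjClasses K) := Finite.of_surjective _ ConjClasses.mk_surjective
    have hsub : Subsingleton {C : ConjClasses K // ConjClasses.map α.toMonoidHom C = C} := by
      have hall : ∀ C : {C : ConjClasses K // ConjClasses.map α.toMonoidHom C = C},
          C.1 = ConjClasses.mk 1 := by
        rintro ⟨C, hC⟩
        obtain ⟨k, rfl⟩ := ConjClasses.mk_surjective C
        obtain ⟨y, hy⟩ := isConj_iff.mp (ConjClasses.mk_eq_mk_iff_isConj.mp hC)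
        have hy' : (y : G) * (g * k * g⁻¹) * (y : G)⁻¹ = k := by
          have := congr_arg Subtype.val hy
          simpa [α] using this
        have hyg : (y : G) * g ∉ K := fun h => hgK ((K.mul_mem_cancel_left y.2).mp h)
        have hk1 := frobenius_commute_eq_one K H hKH hKH' hfpf hyg k.2 (by
          conv_rhs => rw [← hy']
          group)
        exact congr_arg ConjClasses.mk (Subtype.ext hk1)
      exact ⟨fun A B => Subtype.ext ((hall A).trans (hall B).symm)⟩
    rw [← Finite.card_le_one_iff_subsingleton, natCard_fixed_irr_equiv,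
      Finite.card_le_one_iff_subsingleton] at hsub
    have h3 := Subsingleton.elim
      (⟨⟨τ, hτ⟩, hfix⟩ : {χ : Cfsg.IrrCharacter K // (χ : K → ℂ) ∘ α = (χ : K → ℂ)})
      ⟨⟨fun _ => 1, isIrrCharacter_one⟩, rfl⟩
    exact hτ1 (congr_arg (fun z : {χ : Cfsg.IrrCharacter K //
      (χ : K → ℂ) ∘ α = (χ : K → ℂ)} => (z.1 : K → ℂ)) h3)
  rw [frobenius_reciprocity K τ _ (indFun_isClassFunction K τ), ← classInner_conj_symm]
  have h1 := indFun_normal_res K hN τ τ
  have h2 : ∀ g : G, Cfsg.classInner (fun k : K => τ ⟨g * k * g⁻¹, hN.conj_mem k k.2 g⟩) τ =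
      if g ∈ K then 1 else 0 := by
    intro g
    rw [irr_classInner (isIrr_conj_normal K hN hτ g) hτ]
    refine if_congr ⟨hstab g, fun hgK => funext fun k => ?_⟩ rfl rfl
    exact irr_isClassFunction hτ k ⟨g, hgK⟩
  rw [Finset.sum_congr rfl fun g _ => h2 g, Finset.sum_boole, ← Fintype.card_subtype,
    ← Nat.card_eq_fintype_card] at h1
  have h3 : (Nat.card K : ℂ) ≠ 0 := natCard_ne_zero
  have h4 : Cfsg.classInner (fun h : K => Cfsg.indFun K τ h) τ = 1 := by
    apply mul_left_cancel₀ h3
    rw [mul_one]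
    exact h1
  rw [h4, map_one]

theorem frobenius_classNumber [Finite G] (K H : Subgroup G) [K.Normal] (hKH : K ⊓ H = ⊥)
    (hKH' : K ⊔ H = ⊤) (hfpf : ∀ h ∈ H, h ≠ 1 → ∀ k ∈ K, h * k = k * h → k = 1) :
    Nat.card H * Nat.card (ConjClasses G) + 1 =
      Nat.card H * Nat.card (ConjClasses H) + Nat.card (ConjClasses K) := by
  classical
  have := Fintype.ofFinite G
  -- sum of centraliser orders
  have hpairs : ∀ (A : Type u) [Group A] [Fintype A], ∑ a : A,
      Nat.card (Subgroup.centralizer ({a} : Set A)) = Nat.card (ConjClasses A) * Nat.card A := by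
    intro A _ _
    rw [← card_comm_eq_card_conjClasses_mul_card,
      Nat.card_congr (Equiv.subtypeProdEquivSigmaSubtype fun a b : A => Commute a b), Nat.card_sigma]
    refine Finset.sum_congr rfl fun a _ => Nat.card_congr (Equiv.subtypeEquivRight fun b => ?_)
    rw [Subgroup.mem_centralizer_singleton_iff]
    exact Commute.symm_iff
  have hG := hpairs G
  have hK := hpairs K
  have hH := hpairs H
  rw [← Finset.sum_filter_add_sum_filter_not Finset.univ (fun g => g ∈ K)] at hG
  have hout : ∑ g ∈ Finset.univ.filter (fun g : G => g ∉ K),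
      Nat.card (Subgroup.centralizer ({g} : Set G)) =
      Nat.card K * ∑ h ∈ (Finset.univ : Finset H).erase 1,
        Nat.card (Subgroup.centralizer ({h} : Set H)) := by
    rw [Finset.sum_subtype (p := fun g => g ∉ K) _ (by simp),
      ← Equiv.sum_comp (frobeniusEquiv K H hKH hKH' hfpf), Fintype.sum_prod_type]
    have hterm : ∀ (u : K) (h : {h : H // h ≠ 1}),
        Nat.card (Subgroup.centralizer
          ({((frobeniusEquiv K H hKH hKH' hfpf (u, h)) : G)} : Set G)) =
        Nat.card (Subgroup.centralizer ({h.1} : Set H)) := by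
      intro u h
      have e1 : ((frobeniusEquiv K H hKH hKH' hfpf (u, h)) : G) = MulAut.conj (u : G) (h.1 : G) :=
        rfl
      have e2 : Nat.card (Subgroup.centralizer ({MulAut.conj (u : G) (h.1 : G)} : Set G)) =
          Nat.card (Subgroup.centralizer ({(h.1 : G)} : Set G)) := by
        refine Nat.card_congr (Equiv.subtypeEquiv (MulAut.conj (u : G)).symm.toEquiv fun x => ?_)
        rw [Subgroup.mem_centralizer_singleton_iff, Subgroup.mem_centralizer_singleton_iff]
        simp only [MulEquiv.toEquiv_eq_coe, MulEquiv.coe_toEquiv]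
        conv_lhs => rw [← (MulAut.conj (u : G)).symm.injective.eq_iff]
        simp only [map_mul, MulEquiv.symm_apply_apply]
      rw [e1, e2]
      have hmemH : ∀ x : G, x ∈ Subgroup.centralizer ({(h.1 : G)} : Set G) → x ∈ H := by
        intro x hx
        rw [Subgroup.mem_centralizer_singleton_iff] at hx
        obtain ⟨k, hk, y, hy, rfl⟩ : ∃ k ∈ K, ∃ y ∈ H, k * y = x := by
          have : x ∈ ((K ⊔ H : Subgroup G) : Set G) := by rw [hKH']; trivial
          rw [Subgroup.normal_mul] at this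
          exact Set.mem_mul.mp this
        by_cases hh1 : (h.1 : G) = 1
        · exact absurd (Subtype.ext hh1) h.2
        have hyh : (h.1 : G)⁻¹ * (y * h.1 * y⁻¹) = 1 := by
          have hm : (h.1 : G)⁻¹ * (y * h.1 * y⁻¹) ∈ K := by
            have e3 : y * h.1 = k⁻¹ * (h.1 * (k * y)) := by rw [← hx]; group
            refine QuotientGroup.eq.mp ?_
            change (QuotientGroup.mk' K) (h.1 : G) = (QuotientGroup.mk' K) (y * h.1 * y⁻¹)
            rw [e3]
            simp [(QuotientGroup.eq_one_iff k).mpr hk]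
          exact Subgroup.mem_bot.mp (hKH ▸ Subgroup.mem_inf.mpr ⟨hm,
            H.mul_mem (H.inv_mem h.1.2) (H.mul_mem (H.mul_mem hy h.1.2) (H.inv_mem hy))⟩)
        have hcomm : y * h.1 = h.1 * y := by
          have := inv_mul_eq_one.mp hyh
          calc y * h.1 = y * h.1 * y⁻¹ * y := by group
            _ = h.1 * y := by rw [← this]
        have hk1 : k = 1 := by
          refine hfpf _ h.1.2 hh1 k hk ?_
          have e4 : k * ↑h.1 * y = ↑h.1 * k * y := by
            rw [mul_assoc k, ← hcomm, ← mul_assoc, hx, ← mul_assoc]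
          exact (mul_right_cancel e4).symm
        rw [hk1, one_mul]; exact hy
      refine Nat.card_congr
        ⟨fun x => ⟨⟨x.1, hmemH x.1 x.2⟩, ?_⟩, fun x => ⟨(x.1 : G), ?_⟩, fun _ => rfl, fun _ => rfl⟩
      · rw [Subgroup.mem_centralizer_singleton_iff]
        exact Subtype.ext (Subgroup.mem_centralizer_singleton_iff.mp x.2)
      · rw [Subgroup.mem_centralizer_singleton_iff]
        exact congr_arg Subtype.val (Subgroup.mem_centralizer_singleton_iff.mp x.2)
    simp only [hterm, Finset.sum_const, Finset.card_univ, smul_eq_mul, ← Nat.card_eq_fintype_card]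
    congr 1
    rw [Finset.sum_subtype (p := fun h : H => h ≠ 1) _ (by simp)]
  have hin : ∑ g ∈ Finset.univ.filter (fun g : G => g ∈ K),
      Nat.card (Subgroup.centralizer ({g} : Set G)) + Nat.card K =
      ∑ k : K, Nat.card (Subgroup.centralizer ({k} : Set K)) + Nat.card G := by
    rw [Finset.sum_subtype (p := fun g => g ∈ K) _ (by simp)]
    rw [← Finset.add_sum_erase _ _ (Finset.mem_univ (1 : K)),
      ← Finset.add_sum_erase _ (fun k : K => Nat.card (Subgroup.centralizer ({k} : Set K)))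
        (Finset.mem_univ (1 : K))]
    have e1 : Nat.card (Subgroup.centralizer ({((1 : K) : G)} : Set G)) = Nat.card G := by
      rw [Subgroup.centralizer_eq_top_iff_subset.mpr (by simp), Subgroup.card_top]
    have e1' : Nat.card (Subgroup.centralizer ({(1 : K)} : Set K)) = Nat.card K := by
      rw [Subgroup.centralizer_eq_top_iff_subset.mpr (by simp), Subgroup.card_top]
    have e2 : ∀ k ∈ (Finset.univ : Finset K).erase 1,
        Nat.card (Subgroup.centralizer ({(k : G)} : Set G)) =
          Nat.card (Subgroup.centralizer ({k} : Set K)) := by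
      intro k hk
      have hmemK : ∀ x : G, x ∈ Subgroup.centralizer ({(k : G)} : Set G) → x ∈ K := by
        intro x hx
        by_contra hxK
        exact (Finset.mem_erase.mp hk).1 (Subtype.ext (frobenius_commute_eq_one K H hKH hKH' hfpf
          hxK k.2 (Subgroup.mem_centralizer_singleton_iff.mp hx)))
      refine Nat.card_congr
        ⟨fun x => ⟨⟨x.1, hmemK x.1 x.2⟩, ?_⟩, fun x => ⟨(x.1 : G), ?_⟩, fun _ => rfl, fun _ => rfl⟩
      · rw [Subgroup.mem_centralizer_singleton_iff]
        exact Subtype.ext (Subgroup.mem_centralizer_singleton_iff.mp x.2)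
      · rw [Subgroup.mem_centralizer_singleton_iff]
        exact congr_arg Subtype.val (Subgroup.mem_centralizer_singleton_iff.mp x.2)
    rw [e1, e1', Finset.sum_congr rfl e2]
    omega
  have herase : ∑ h ∈ (Finset.univ : Finset H).erase 1,
      Nat.card (Subgroup.centralizer ({h} : Set H)) + Nat.card H =
      Nat.card (ConjClasses H) * Nat.card H := by
    rw [← hH, ← Finset.add_sum_erase _ (fun h : H => Nat.card (Subgroup.centralizer ({h} : Set H)))
      (Finset.mem_univ (1 : H)), add_comm]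
    congr 1
    rw [Subgroup.centralizer_eq_top_iff_subset.mpr (by simp), Subgroup.card_top]
  rw [hK] at hin
  rw [hout] at hG
  have hc := frobenius_card K H hKH hKH'
  rw [← hc] at hin hG
  have : Nat.card K * (Nat.card H * Nat.card (ConjClasses G) + 1) =
      Nat.card K * (Nat.card H * Nat.card (ConjClasses H) + Nat.card (ConjClasses K)) := by
    nlinarith [hin, hG, herase]
  exact Nat.eq_of_mul_eq_mul_left Nat.card_pos this

end CfsgLib.Char
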