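import Cfsg.Agent.Lib.Char.Orthogonality
import Cfsg.Agent.Lib.Char.Burnside
import Mathlib.Algebra.Polynomial.Basic

/-!
# Fixed spaces of subgroups; powers of faithful characters
-/

namespace CfsgLib.Char

open Module
open scoped ComplexConjugate

universe u

variable {G : Type u} [Group G] [Fintype G] {V : Type*} [AddCommGroup V] [Module ℂ V]
  [FiniteDimensional ℂ V]

theorem classInner_res_one (ρ : Representation ℂ G V) (H : Subgroup G) [Fintype H] :
    Cfsg.classInner (fun h : H => ρ.character h) (fun _ => 1) =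
      (finrank ℂ (Representation.invariants (ρ.comp H.subtype : Representation ℂ H V)) : ℂ) := by
  have : Invertible (Nat.card H : ℂ) := invertibleOfNonzero natCard_ne_zero
  rw [← Representation.card_inv_mul_sum_char_eq_finrank, classInner_def]
  simp only [map_one, mul_one]
  rfl

theorem sup_ne_top_of_fixed (ρ : Representation ℂ G V) [ρ.IsIrreducible]
    (hne : ρ.character ≠ fun _ => 1) (H₁ H₂ : Subgroup G) [Fintype H₁] [Fintype H₂]
    [Fintype ↥(H₁ ⊓ H₂)]
    (hlt : (Cfsg.classInner (fun x : ↥(H₁ ⊓ H₂) => ρ.character x) (fun _ => 1)).re <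
      (Cfsg.classInner (fun x : H₁ => ρ.character x) (fun _ => 1)).re +
        (Cfsg.classInner (fun x : H₂ => ρ.character x) (fun _ => 1)).re) :
    H₁ ⊔ H₂ ≠ ⊤ := by
  intro htop
  simp only [classInner_res_one, Complex.natCast_re] at hlt
  set U₁ : Submodule ℂ V := Representation.invariants (ρ.comp H₁.subtype : Representation ℂ H₁ V)
  set U₂ : Submodule ℂ V := Representation.invariants (ρ.comp H₂.subtype : Representation ℂ H₂ V)
  set W : Submodule ℂ V := Representation.invariants
    (ρ.comp (H₁ ⊓ H₂).subtype : Representation ℂ ↥(H₁ ⊓ H₂) V)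
  have hsub : U₁ ⊔ U₂ ≤ W := by
    refine sup_le (fun v hv h => ?_) (fun v hv h => ?_)
    · exact hv ⟨(h : G), h.2.1⟩
    · exact hv ⟨(h : G), h.2.2⟩
  have hlt' : finrank ℂ W < finrank ℂ U₁ + finrank ℂ U₂ := by exact_mod_cast hlt
  have hle := Submodule.finrank_mono hsub
  have hdim := Submodule.finrank_sup_add_finrank_inf_eq U₁ U₂
  have hpos : 0 < finrank ℂ ↥(U₁ ⊓ U₂) := by omega
  have := Module.finrank_pos_iff.mp hpos
  obtain ⟨v, hv⟩ := exists_ne (0 : ↥(U₁ ⊓ U₂))
  let S : Subgroup G :=
    { carrier := {g | ρ g v = v}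
      one_mem' := by simp
      mul_mem' := fun {a b} ha hb => by simp [Set.mem_setOf_eq] at ha hb ⊢; rw [hb, ha]
      inv_mem' := fun {a} ha => by
        simp only [Set.mem_setOf_eq] at ha ⊢
        conv_lhs => rw [← ha]
        rw [← Module.End.mul_apply, ← map_mul, inv_mul_cancel, map_one, Module.End.one_apply] }
  have hS : S = ⊤ := top_le_iff.mp (htop ▸ sup_le (fun g hg => v.2.1 ⟨g, hg⟩)
    (fun g hg => v.2.2 ⟨g, hg⟩))
  let p : Subrepresentation ρ := ⟨ℂ ∙ (v : V), fun g w hw => by
    obtain ⟨c, rfl⟩ := Submodule.mem_span_singleton.mp hw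
    rw [map_smul, show ρ g (v : V) = v from (hS ▸ Subgroup.mem_top g : g ∈ S)]
    exact Submodule.smul_mem _ c (Submodule.mem_span_singleton_self _)⟩
  rcases eq_bot_or_eq_top p with hp | hp
  · exact hv (Subtype.ext (Submodule.span_singleton_eq_bot.mp
      (congr_arg Subrepresentation.toSubmodule hp)))
  · refine hne (char_eq_one_of_trivial ρ fun g => LinearMap.ext fun w => ?_)
    have hw : w ∈ (ℂ ∙ (v : V)) := by
      rw [show (ℂ ∙ (v : V)) = ⊤ from congr_arg Subrepresentation.toSubmodule hp]; trivial
    obtain ⟨c, rfl⟩ := Submodule.mem_span_singleton.mp hw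
    rw [map_smul, show ρ g (v : V) = v from (hS ▸ Subgroup.mem_top g : g ∈ S), Module.End.one_apply]

omit [FiniteDimensional ℂ V] in
theorem exists_pow_constituent [FiniteDimensional ℂ V] (ρ : Representation ℂ G V)
    (hfaithful : Function.Injective ρ) {ψ : G → ℂ} (hψ : Cfsg.IsIrrCharacter G ψ) :
    ∃ i : ℕ, i < Nat.card (Set.range ρ.character) ∧
      Cfsg.classInner (fun g => ρ.character g ^ i) ψ ≠ 0 := by
  classical
  by_contra hcon
  push Not at hcon
  set s : Finset ℂ := (Finset.univ.image ρ.character).erase (ρ.character 1) with hs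
  let p : Polynomial ℂ := ∏ a ∈ s, (Polynomial.X - Polynomial.C a)
  have hdeg : p.natDegree < Nat.card (Set.range ρ.character) := by
    rw [show p.natDegree = s.card by simp [p, Polynomial.natDegree_finset_prod_X_sub_C_eq_card],
      Nat.card_coe_set_eq, ← Set.image_univ, ← Finset.coe_univ, ← Finset.coe_image,
      Set.ncard_coe_finset]
    exact Finset.card_erase_lt_of_mem (Finset.mem_image_of_mem _ (Finset.mem_univ _))
  have hz : ∑ g : G, p.eval (ρ.character g) * conj (ψ g) = 0 := by
    simp only [Polynomial.eval_eq_sum_range' hdeg, Finset.sum_mul]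
    rw [Finset.sum_comm]
    refine Finset.sum_eq_zero fun i hi => ?_
    have h1 := hcon i (Finset.mem_range.mp hi)
    rw [classInner_def] at h1
    simp only [mul_assoc, ← Finset.mul_sum]
    rw [(mul_eq_zero.mp h1).resolve_left (inv_ne_zero natCard_ne_zero), mul_zero]
  rw [Fintype.sum_eq_single (1 : G) fun g hg => ?_] at hz
  · have hp : p.eval (ρ.character 1) ≠ 0 := by
      simp only [p, Polynomial.eval_prod, Polynomial.eval_sub, Polynomial.eval_X, Polynomial.eval_C]
      exact Finset.prod_ne_zero_iff.mpr fun a ha => sub_ne_zero.mpr (Finset.ne_of_mem_erase ha).symm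
    exact irr_apply_one_ne_zero hψ
      ((map_eq_zero _).mp ((mul_eq_zero.mp hz).resolve_left hp))
  · have hne : ρ.character g ≠ ρ.character 1 := fun h => hg (hfaithful (by
      rw [map_one, Module.End.one_eq_id]
      exact (char_eq_finrank_iff ρ g).mp (by rw [h, Representation.char_one])))
    have : p.eval (ρ.character g) = 0 := by
      simp only [p, Polynomial.eval_prod, Polynomial.eval_sub, Polynomial.eval_X, Polynomial.eval_C]
      exact Finset.prod_eq_zero
        (Finset.mem_erase.mpr ⟨hne, Finset.mem_image_of_mem _ (Finset.mem_univ g)⟩) (sub_self _)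
    rw [this, zero_mul]

end CfsgLib.Char
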