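import Cfsg.Agent.Lib.Char.Induce
import Mathlib.FieldTheory.IntermediateField.Basic
import Mathlib.LinearAlgebra.Matrix.ToLin
import Mathlib.LinearAlgebra.Trace
import Mathlib.RepresentationTheory.Maschke
import Mathlib.RepresentationTheory.Character

/-!
# Characters realisable over a subfield of `ℂ`
-/

namespace CfsgLib.Char

open Module
open scoped ComplexConjugate

universe u

variable {G : Type u} [Group G] (K : IntermediateField ℚ ℂ)

/-- `χ` is the trace of a matrix representation with entries in `K`. -/
def Realisable (χ : G → ℂ) : Prop :=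
  ∃ (n : ℕ) (M : G →* Matrix (Fin n) (Fin n) K), ∀ g, χ g = ((M g).trace : ℂ)

variable {K}

theorem realisable_of_matrix {m : Type*} [Fintype m] [DecidableEq m] (M : G →* Matrix m m K)
    {χ : G → ℂ} (h : ∀ g, χ g = ((M g).trace : ℂ)) : Realisable K χ := by
  refine ⟨Fintype.card m,
    (Matrix.reindexAlgEquiv K K (Fintype.equivFin m)).toAlgHom.toMonoidHom.comp M, fun g => ?_⟩
  rw [h g]
  congr 1
  show (M g).trace = ((M g).submatrix (Fintype.equivFin m).symm (Fintype.equivFin m).symm).trace
  simp only [Matrix.trace, Matrix.diag_apply, Matrix.submatrix_apply]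
  exact ((Fintype.equivFin m).symm.sum_comp (fun i => M g i i)).symm

theorem realisable_zero : Realisable K (0 : G → ℂ) :=
  ⟨0, 1, fun g => by simp [Matrix.trace]⟩

theorem realisable_add {χ ψ : G → ℂ} (h : Realisable K χ) (h' : Realisable K ψ) :
    Realisable K (χ + ψ) := by
  obtain ⟨n, M, hM⟩ := h
  obtain ⟨n', M', hM'⟩ := h'
  refine realisable_of_matrix (m := Fin n ⊕ Fin n')
    { toFun := fun g => Matrix.fromBlocks (M g) 0 0 (M' g)
      map_one' := by simp
      map_mul' := fun a b => by simp [Matrix.fromBlocks_multiply] } fun g => ?_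
  show χ g + ψ g = ((Matrix.fromBlocks (M g) 0 0 (M' g)).trace : ℂ)
  rw [hM, hM']
  simp [Matrix.trace, Fintype.sum_sum_type]

/-- The complexification of a matrix representation. -/
noncomputable def complexRep {n : ℕ} (M : G →* Matrix (Fin n) (Fin n) K) :
    Representation ℂ G (Fin n → ℂ) :=
  (Matrix.toLinAlgEquiv' (R := ℂ)).toAlgHom.toMonoidHom.comp
    (((algebraMap K ℂ).mapMatrix).toMonoidHom.comp M)

theorem toMatrix'_complexRep {n : ℕ} (M : G →* Matrix (Fin n) (Fin n) K) (g : G) :
    LinearMap.toMatrix' (complexRep M g) = (M g).map (algebraMap K ℂ) :=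
  LinearMap.toMatrix'_toLin' _

theorem complexRep_character {n : ℕ} (M : G →* Matrix (Fin n) (Fin n) K) (g : G) :
    (complexRep M).character g = ((M g).trace : ℂ) := by
  rw [Representation.character, LinearMap.trace_eq_matrix_trace ℂ (Pi.basisFun ℂ (Fin n))]
  rw [LinearMap.toMatrix_eq_toMatrix', toMatrix'_complexRep]
  simp [Matrix.trace]

theorem Realisable.isCharacter {χ : G → ℂ} (h : Realisable K χ) : Cfsg.IsCharacter G χ := by
  obtain ⟨n, M, hM⟩ := h
  exact ⟨n, complexRep M, funext fun g => (complexRep_character M g).trans (hM g).symm⟩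

section KRep

variable {V W : Type} [AddCommGroup V] [Module K V] [FiniteDimensional K V] [AddCommGroup W]
  [Module K W] [FiniteDimensional K W]

/-- The character of a `K`-representation as a complex function. -/
noncomputable def cChar (ρ : Representation K G V) : G → ℂ := fun g => (ρ.character g : ℂ)

omit [FiniteDimensional K V] in
theorem cChar_apply (ρ : Representation K G V) (g : G) : cChar ρ g = (ρ.character g : ℂ) := rfl

theorem realisable_cChar (ρ : Representation K G V) : Realisable K (cChar ρ) :=
  realisable_of_matrix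
    ((LinearMap.toMatrixAlgEquiv (Module.finBasis K V)).toAlgHom.toMonoidHom.comp ρ) fun g => by
      rw [cChar_apply, Representation.character,
        LinearMap.trace_eq_matrix_trace K (Module.finBasis K V)]
      rfl

theorem classInner_cChar [Fintype G] (ρ : Representation K G V) (σ : Representation K G W) :
    Cfsg.classInner (cChar σ) (cChar ρ) =
      (finrank K (Representation.IntertwiningMap ρ σ) : ℂ) := by
  have hne : (Nat.card G : K) ≠ 0 := by exact_mod_cast Nat.card_pos.ne'
  have : Invertible (Nat.card G : K) := invertibleOfNonzero hne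
  have h := congr_arg (fun t : K => (t : ℂ))
    (Representation.card_inv_mul_sum_char_mul_char_eq_finrank ρ σ)
  push_cast at h
  rw [← h, classInner_def]
  congr 1
  refine Finset.sum_congr rfl fun g _ => ?_
  rw [← char_inv (realisable_cChar ρ).isCharacter g]
  rfl

theorem finiteDimensional_intertwiningMap [Fintype G] (ρ : Representation K G V)
    (σ : Representation K G W) : FiniteDimensional K (Representation.IntertwiningMap ρ σ) :=
  Module.Finite.equiv (Representation.invariantsEquivIntertwiningMap ρ σ)

theorem nontrivial_of_isIrreducible' (ρ : Representation K G V) [hρ : ρ.IsIrreducible] :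
    Nontrivial V := by
  by_contra h
  rw [not_nontrivial_iff_subsingleton] at h
  have : Subsingleton (Subrepresentation ρ) :=
    ⟨fun p q => Subrepresentation.toSubmodule_injective (Subsingleton.elim _ _)⟩
  exact not_nontrivial (Subrepresentation ρ) hρ.toNontrivial

theorem cChar_one_ne_zero (ρ : Representation K G V) [ρ.IsIrreducible] : cChar ρ 1 ≠ 0 := by
  have := nontrivial_of_isIrreducible' ρ
  have h : 0 < finrank K V := finrank_pos
  rw [cChar_apply, Representation.char_one]
  push_cast
  exact_mod_cast h.ne'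

theorem classInner_cChar_self [Fintype G] (ρ : Representation K G V) [ρ.IsIrreducible] :
    ∃ e : ℕ, 0 < e ∧ Cfsg.classInner (cChar ρ) (cChar ρ) = e := by
  refine ⟨_, ?_, classInner_cChar ρ ρ⟩
  have := finiteDimensional_intertwiningMap ρ ρ
  have := nontrivial_of_isIrreducible' ρ
  refine (finrank_pos_iff_exists_ne_zero (R := K)).mpr
    ⟨Representation.IntertwiningMap.id ρ, fun h => ?_⟩
  obtain ⟨v, hv⟩ := exists_ne (0 : V)
  exact hv (congr_arg (fun f : Representation.IntertwiningMap ρ ρ => f v) h)

theorem classInner_cChar_ne [Fintype G] (ρ : Representation K G V) (σ : Representation K G W)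
    [ρ.IsIrreducible] [σ.IsIrreducible] (h : cChar σ ≠ cChar ρ) :
    Cfsg.classInner (cChar σ) (cChar ρ) = 0 := by
  have : IsEmpty (Representation.Equiv ρ σ) := ⟨fun φ => h (funext fun g => by
    rw [cChar_apply, cChar_apply, Representation.char_iso φ])⟩
  rw [classInner_cChar, finrank_zero_of_subsingleton, Nat.cast_zero]

omit [FiniteDimensional K V] in
/-- Complementary subrepresentations over `K`. -/
noncomputable def prodEquivOfCompl' {ρ : Representation K G V} (p q : Subrepresentation ρ)
    (h : IsCompl p q) : (p.toRepresentation.prod q.toRepresentation).Equiv ρ :=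
  Representation.Equiv.mk
    (Submodule.prodEquivOfIsCompl p.toSubmodule q.toSubmodule
      ⟨disjoint_iff.mpr (congr_arg Subrepresentation.toSubmodule h.inf_eq_bot),
        codisjoint_iff.mpr (congr_arg Subrepresentation.toSubmodule h.sup_eq_top)⟩)
    (fun g => LinearMap.ext fun x => by
      simp only [LinearMap.comp_apply, LinearEquiv.coe_coe, Submodule.coe_prodEquivOfIsCompl']
      change _ = ρ g (_ + _)
      rw [map_add]
      rfl)

end KRep

variable (K) in
/-- The complex functions afforded by irreducible `K`-representations. -/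
def kIrrSet (G : Type u) [Group G] : Set (G → ℂ) :=
  {f | ∃ (V : Type) (_ : AddCommGroup V) (_ : Module K V) (_ : FiniteDimensional K V)
    (σ : Representation K G V), σ.IsIrreducible ∧ f = cChar σ}

theorem cChar_mem_closure [Fintype G] {V : Type} [AddCommGroup V] [Module K V]
    [FiniteDimensional K V] (ρ : Representation K G V) :
    cChar ρ ∈ AddSubgroup.closure (kIrrSet K G) := by
  suffices ∀ (n : ℕ) (V : Type) [AddCommGroup V] [Module K V] [FiniteDimensional K V]
      (ρ : Representation K G V), finrank K V = n →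
      cChar ρ ∈ AddSubgroup.closure (kIrrSet K G) from this _ V ρ rfl
  intro n
  induction n using Nat.strong_induction_on with
  | _ n ih =>
    intro V _ _ _ ρ hn
    rcases Nat.eq_zero_or_pos n with rfl | hpos
    · have : Subsingleton V := Module.finrank_zero_iff.mp hn
      have : cChar ρ = 0 := funext fun g => by
        simp [cChar_apply, Representation.character, Subsingleton.elim (ρ g) 0]
      rw [this]
      exact zero_mem _
    by_cases hirr : ρ.IsIrreducible
    · exact AddSubgroup.subset_closure ⟨V, _, _, inferInstance, ρ, hirr, rfl⟩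
    have : Nontrivial (Subrepresentation ρ) := by
      refine ⟨⊥, ⊤, fun hbt => ?_⟩
      have h2 := finrank_top K V
      rw [← show (⊥ : Submodule K V) = ⊤ from congr_arg Subrepresentation.toSubmodule hbt,
        finrank_bot, hn] at h2
      omega
    obtain ⟨p, hp⟩ : ∃ p : Subrepresentation ρ, p ≠ ⊥ ∧ p ≠ ⊤ := by
      by_contra hcon
      push Not at hcon
      exact hirr ⟨fun p => or_iff_not_imp_left.mpr (hcon p)⟩
    have hne : (Nat.card G : K) ≠ 0 := by exact_mod_cast Nat.card_pos.ne'
    have : Invertible (Nat.card G : K) := invertibleOfNonzero hne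
    have : NeZero (Nat.card G : K) := ⟨hne⟩
    obtain ⟨q, hq⟩ := exists_isCompl p
    have hqb : q ≠ ⊥ := fun h => hp.2 (by simpa [h] using hq.sup_eq_top)
    have hpos' : ∀ r : Subrepresentation ρ, r ≠ ⊥ → 0 < finrank K r.toSubmodule := fun r hr => by
      rw [Nat.pos_iff_ne_zero]
      exact fun h0 => hr (Subrepresentation.toSubmodule_injective (Submodule.finrank_eq_zero.mp h0))
    have hsum : finrank K p.toSubmodule + finrank K q.toSubmodule = finrank K V := by
      rw [← Module.finrank_prod]
      exact (prodEquivOfCompl' p q hq).toLinearEquiv.finrank_eq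
    have hp0 := hpos' p hp.1
    have hq0 := hpos' q hqb
    have hc : cChar ρ = cChar p.toRepresentation + cChar q.toRepresentation := funext fun g => by
      rw [Pi.add_apply, cChar_apply, cChar_apply, cChar_apply,
        ← Representation.char_iso (prodEquivOfCompl' p q hq)]
      exact (congr_arg (fun t : K => (t : ℂ)) (LinearMap.trace_prodMap' _ _)).trans
        (by push_cast; rfl)
    rw [hc]
    exact add_mem (ih _ (by omega) _ _ rfl) (ih _ (by omega) _ _ rfl)

theorem Realisable.mem_closure [Fintype G] {χ : G → ℂ} (h : Realisable K χ) :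
    χ ∈ AddSubgroup.closure (kIrrSet K G) := by
  obtain ⟨n, M, hM⟩ := h
  let ρ : Representation K G (Fin n → K) :=
    (Matrix.toLinAlgEquiv' (R := K)).toAlgHom.toMonoidHom.comp M
  have : χ = cChar ρ := funext fun g => by
    rw [hM g, cChar_apply, Representation.character,
      LinearMap.trace_eq_matrix_trace K (Pi.basisFun K (Fin n)), LinearMap.toMatrix_eq_toMatrix']
    congr 2
    exact (LinearMap.toMatrix'_toLin' _).symm
  rw [this]
  exact cChar_mem_closure ρ

/-- An irreducible character which is an integral combination of `K`-realisable characters is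
realisable over `K`. -/
theorem irr_realisable_of_mem_closure [Fintype G] {χ : G → ℂ} (hχ : Cfsg.IsIrrCharacter G χ)
    (h : χ ∈ AddSubgroup.closure (kIrrSet K G)) : Realisable K χ := by
  classical
  obtain ⟨l, hl, hsum⟩ : ∃ l : (G → ℂ) →₀ ℤ, (∀ s ∈ l.support, s ∈ kIrrSet K G) ∧
      χ = l.sum (fun s z => (z : ℂ) • s) := by
    clear hχ
    induction h using AddSubgroup.closure_induction with
    | mem x hx =>
      refine ⟨Finsupp.single x 1, fun s hs => ?_, by simp⟩
      rw [Finset.mem_singleton.mp (Finsupp.support_single_subset hs)]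
      exact hx
    | zero => exact ⟨0, by simp, by simp⟩
    | add y z _ _ hy hz =>
      obtain ⟨l₁, h₁, rfl⟩ := hy
      obtain ⟨l₂, h₂, rfl⟩ := hz
      refine ⟨l₁ + l₂, fun s hs => (Finset.mem_union.mp (Finsupp.support_add hs)).elim (h₁ s) (h₂ s),
        ?_⟩
      rw [Finsupp.sum_add_index'] <;> intros <;> simp [add_smul]
    | neg y _ hy =>
      obtain ⟨l, h, rfl⟩ := hy
      refine ⟨-l, fun s hs => h s (by rwa [Finsupp.support_neg] at hs), ?_⟩
      rw [Finsupp.sum_neg_index (by simp)]
      simp [Finsupp.sum]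
  have hinner : ∀ s ∈ l.support, ∀ t ∈ l.support, s ≠ t → Cfsg.classInner s t = 0 := by
    intro s hs t ht hst
    obtain ⟨V, _, _, _, σ, hσ, rfl⟩ := hl s hs
    obtain ⟨W, _, _, _, τ, hτ, rfl⟩ := hl t ht
    exact classInner_cChar_ne τ σ hst
  have hself : ∀ s ∈ l.support, ∃ e : ℕ, 0 < e ∧ Cfsg.classInner s s = e := by
    intro s hs
    obtain ⟨V, _, _, _, σ, hσ, rfl⟩ := hl s hs
    exact classInner_cChar_self σ
  choose! e he0 he using hself
  have h1 : ∑ s ∈ l.support, l s ^ 2 * (e s : ℤ) = 1 := by
    have h2 := irr_classInner_self hχ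
    rw [hsum, Finsupp.sum, classInner_sum_left] at h2
    have : ∀ s ∈ l.support, Cfsg.classInner ((l s : ℂ) • s) (∑ t ∈ l.support, (l t : ℂ) • t) =
        ((l s ^ 2 * (e s : ℤ) : ℤ) : ℂ) := fun s hs => by
      rw [classInner_sum_right, Finset.sum_eq_single s]
      · rw [classInner_smul_left, classInner_smul_right, he s hs, map_intCast (starRingEnd ℂ)]
        push_cast; ring
      · intro t ht hts
        rw [classInner_smul_left, classInner_smul_right, hinner s hs t ht hts.symm]
        simp
      · exact fun h => absurd hs h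
    rw [Finset.sum_congr rfl this] at h2
    exact_mod_cast h2
  have hpos : ∀ s ∈ l.support, 1 ≤ l s ^ 2 * (e s : ℤ) := fun s hs => by
    have h2 : 0 < l s ^ 2 := by
      have := Finsupp.mem_support_iff.mp hs
      positivity
    have h3 : (0 : ℤ) < e s := by exact_mod_cast he0 s hs
    nlinarith
  have hcard : l.support.card ≤ 1 := by
    have h2 := Finset.card_nsmul_le_sum _ _ _ hpos
    rw [h1, nsmul_eq_mul, mul_one] at h2
    exact_mod_cast h2
  rcases Nat.le_one_iff_eq_zero_or_eq_one.mp hcard with hc | hc
  · rw [Finset.card_eq_zero] at hc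
    rw [hc, Finset.sum_empty] at h1
    exact absurd h1 zero_ne_one
  obtain ⟨s, hs⟩ := Finset.card_eq_one.mp hc
  rw [hs, Finset.sum_singleton] at h1
  have hsm : s ∈ l.support := by simp [hs]
  have hls : l s = 1 ∨ l s = -1 := by
    have h2 : (l s) * (l s * (e s : ℤ)) = 1 := by rw [← h1]; ring
    exact Int.eq_one_or_neg_one_of_mul_eq_one h2
  have hχs : χ = (l s : ℂ) • s := by rw [hsum, Finsupp.sum, hs, Finset.sum_singleton]
  obtain ⟨V, _, _, _, σ, hσ, rfl⟩ := hl s hsm
  obtain ⟨d, hd, hd1⟩ := irr_apply_one_pos hχ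
  obtain ⟨d', hd'⟩ := char_apply_one_eq_nat (realisable_cChar σ).isCharacter
  have hls1 : l (cChar σ) = 1 := by
    refine hls.resolve_right fun hneg => ?_
    rw [hχs, hneg, Pi.smul_apply, smul_eq_mul, hd'] at hd1
    push_cast at hd1
    have : (0 : ℕ) = d + d' := by
      exact_mod_cast (show ((0 : ℕ) : ℂ) = ((d + d' : ℕ) : ℂ) by
        push_cast; linear_combination hd1)
    omega
  rw [hχs, hls1, Int.cast_one, one_smul]
  exact realisable_cChar σ

/-- A character induced from a linear character with values in `K` is realisable over `K`. -/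
theorem realisable_indFun_linear [Fintype G] (H : Subgroup G) (lam : H →* K) :
    Realisable K (Cfsg.indFun H (fun h => (lam h : ℂ))) := by
  classical
  have := Fintype.ofFinite (G ⧸ H)
  have := Fintype.ofFinite H
  let k : G → K := fun x => if h : x ∈ H then lam ⟨x, h⟩ else 0
  have hk : ∀ x (h : x ∈ H), k x = lam ⟨x, h⟩ := fun x h => dif_pos h
  have hk0 : ∀ x, x ∉ H → k x = 0 := fun x h => dif_neg h
  have hkmul : ∀ x y, y ∈ H → k (x * y) = k x * k y := fun x y hy => by
    by_cases hx : x ∈ H
    · rw [hk _ (mul_mem hx hy), hk x hx, hk y hy, ← map_mul]; rfl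
    · rw [hk0 _ fun h => hx ((Subgroup.mul_mem_cancel_right H hy).mp h), hk0 x hx, zero_mul]
  let r : G ⧸ H → G := fun c => Quotient.out c
  have hr : ∀ c, (r c : G ⧸ H) = c := fun c => QuotientGroup.out_eq' c
  have hiff : ∀ (g : G) (c d : G ⧸ H), (r c)⁻¹ * g * r d ∈ H ↔ g • d = c := fun g c d => by
    conv_rhs => rw [← hr c, ← hr d, MulAction.Quotient.smul_mk, smul_eq_mul, eq_comm,
      QuotientGroup.eq, ← mul_assoc]
  refine realisable_of_matrix (m := G ⧸ H)
    { toFun := fun g => Matrix.of fun c d => k ((r c)⁻¹ * g * r d)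
      map_one' := by
        ext c d
        by_cases hcd : c = d
        · subst hcd
          simp only [Matrix.of_apply, mul_one, inv_mul_cancel, Matrix.one_apply_eq]
          rw [hk 1 (one_mem H)]
          exact congr_arg Subtype.val (map_one lam)
        · rw [Matrix.of_apply, Matrix.one_apply_ne hcd, hk0]
          rw [hiff, one_smul]
          exact Ne.symm hcd
      map_mul' := fun g g' => by
        ext c d
        rw [Matrix.mul_apply, Finset.sum_eq_single (g' • d)]
        · simp only [Matrix.of_apply]
          rw [← hkmul _ _ ((hiff g' _ d).mpr rfl)]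
          congr 2
          group
        · intro e _ he
          simp only [Matrix.of_apply]
          rw [hk0 _ (fun h => he ((hiff g' e d).mp h).symm), mul_zero]
        · simp } fun g => ?_
  show _ = ((Matrix.trace (Matrix.of fun c d => k ((r c)⁻¹ * g * r d)) : K) : ℂ)
  have hext : ∀ x : G, Cfsg.extendByZero H (fun h => (lam h : ℂ)) x = (k x : ℂ) := fun x => by
    by_cases hx : x ∈ H
    · rw [extendByZero_of_mem _ hx, hk x hx]
    · rw [extendByZero_of_not_mem _ hx, hk0 x hx]; simp
  have hval : ∀ x : G, k (x⁻¹ * g * x) = k ((r x)⁻¹ * g * r x) := fun x => by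
    obtain ⟨h, hh⟩ := QuotientGroup.mk_out_eq_mul H x
    show _ = k ((r (x : G ⧸ H))⁻¹ * g * r (x : G ⧸ H))
    simp only [r]
    rw [hh, show (x * (h : G))⁻¹ * g * (x * h) = (h : G)⁻¹ * (x⁻¹ * g * x) * h by group]
    by_cases hx : x⁻¹ * g * x ∈ H
    · have hh' : (h : G)⁻¹ * (x⁻¹ * g * x) * h ∈ H := mul_mem (mul_mem (inv_mem h.2) hx) h.2
      rw [hk _ hx, hk _ hh']
      have hc : ∀ a b : H, lam a = lam (b⁻¹ * a * b) := fun a b => by
        rw [map_mul, map_mul, mul_right_comm, ← map_mul, inv_mul_cancel, map_one, one_mul]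
      exact hc ⟨_, hx⟩ h
    · rw [hk0 _ hx, hk0]
      exact fun h' => hx ((Subgroup.mul_mem_cancel_left H (inv_mem h.2)).mp
        ((Subgroup.mul_mem_cancel_right H h.2).mp h'))
  rw [indFun_def]
  rw [Finset.sum_congr rfl (g := fun x : G => ((k ((r (x : G ⧸ H))⁻¹ * g * r (x : G ⧸ H))) : ℂ))
    (fun x _ => by rw [hext, hval])]
  have hsum : ∑ x : G, ((k ((r (x : G ⧸ H))⁻¹ * g * r (x : G ⧸ H))) : ℂ) =
      (Nat.card H : ℂ) * ∑ c : G ⧸ H, (k ((r c)⁻¹ * g * r c) : ℂ) := by
    rw [← Finset.sum_fiberwise (Finset.univ : Finset G) (fun x => (x : G ⧸ H)), Finset.mul_sum]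
    refine Finset.sum_congr rfl fun c _ => ?_
    rw [Finset.sum_congr rfl (g := fun _ => (k ((r c)⁻¹ * g * r c) : ℂ))
      (fun x hx => by rw [(Finset.mem_filter.mp hx).2]), Finset.sum_const, nsmul_eq_mul]
    congr 1
    rw [← Fintype.card_subtype, ← Nat.card_eq_fintype_card]
    have hfib : {x : G // (x : G ⧸ H) = c} ≃ H :=
      { toFun := fun x => ⟨(r c)⁻¹ * x, QuotientGroup.eq.mp ((hr c).trans x.2.symm)⟩
        invFun := fun h => ⟨r c * h, by rw [QuotientGroup.mk_mul_of_mem _ h.2, hr]⟩
        left_inv := fun x => Subtype.ext (by simp)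
        right_inv := fun h => Subtype.ext (by simp) }
    rw [Nat.card_congr hfib]
  rw [hsum, ← mul_assoc, inv_mul_cancel₀ natCard_ne_zero, one_mul]
  simp [Matrix.trace]

end CfsgLib.Char
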