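import Cfsg.Agent.Lib.Char.Linear
import Cfsg.Agent.Lib.Char.Integral
import Cfsg.Agent.Lib.Char.Burnside
import Cfsg.Agent.Lib.Solvable.Nilpotent
import Mathlib.RingTheory.IntegralDomain
import Mathlib.GroupTheory.PGroup
import Mathlib.GroupTheory.SpecificGroups.Cyclic

/-!
# Faithful representations of small degree, faithful irreducibles of p-groups
-/

namespace CfsgLib.Char

open Module
open scoped ComplexConjugate

universe u

variable {G : Type u} [Group G]

theorem comm_of_degree_lt_primes [Finite G] {V : Type*} [AddCommGroup V] [Module ℂ V]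
    [FiniteDimensional ℂ V] (ρ : Representation ℂ G V) (hf : Function.Injective ρ)
    (hdeg : ∀ p : ℕ, p.Prime → p ∣ Nat.card G → finrank ℂ V < p) (a b : G) : a * b = b * a := by
  apply hf
  rw [← sub_eq_zero]
  refine eq_zero_of_forall_irreducible ρ _ fun q hq x hx => ?_
  have := nontrivial_of_isIrreducible q.toRepresentation
  have hd : finrank ℂ q.toSubmodule ∣ Nat.card G := degree_dvd_card q.toRepresentation
  have h1 : finrank ℂ q.toSubmodule = 1 := by
    by_contra hne
    have hp := Nat.minFac_prime hne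
    have hle : finrank ℂ q.toSubmodule ≤ finrank ℂ V := q.toSubmodule.finrank_le
    have hlt := hdeg _ hp ((Nat.minFac_dvd _).trans hd)
    have := Nat.minFac_le (finrank_pos (R := ℂ) (M := q.toSubmodule))
    omega
  obtain ⟨v, -, hspan⟩ := finrank_eq_one_iff'.mp h1
  have hact : ∀ g : G, ∃ c : ℂ, ∀ w : q.toSubmodule, ρ g (w : V) = c • (w : V) := fun g => by
    obtain ⟨c, hc⟩ := hspan (q.toRepresentation g v)
    refine ⟨c, fun w => ?_⟩
    obtain ⟨d, rfl⟩ := hspan w
    have hc' : c • (v : V) = ρ g (v : V) := congr_arg Subtype.val hc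
    rw [Submodule.coe_smul, map_smul, ← hc', smul_comm]
  obtain ⟨ca, hca⟩ := hact a
  obtain ⟨cb, hcb⟩ := hact b
  have ha : ρ a x = ca • x := hca ⟨x, hx⟩
  have hb : ρ b x = cb • x := hcb ⟨x, hx⟩
  rw [LinearMap.sub_apply, map_mul, map_mul, Module.End.mul_apply, Module.End.mul_apply, ha, hb,
    map_smul, map_smul, ha, hb, smul_comm, sub_self]

theorem faithful_irr_iff_cyclic_center [Finite G] (p : ℕ) [hp : Fact p.Prime] (hG : IsPGroup p G) :
    (∃ (n : ℕ) (ρ : Representation ℂ G (Fin n → ℂ)), ρ.IsIrreducible ∧ Function.Injective ρ) ↔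
      IsCyclic (Subgroup.center G) := by
  classical
  constructor
  · rintro ⟨n, ρ, hρ, hinj⟩
    have := nontrivial_of_isIrreducible ρ
    have hs : ∀ z : Subgroup.center G,
        ∃ c : ℂ, ρ z = c • (LinearMap.id : (Fin n → ℂ) →ₗ[ℂ] (Fin n → ℂ)) := fun z => by
      let T : Representation.IntertwiningMap ρ ρ := ⟨ρ z, fun g => by
        rw [← Module.End.mul_eq_comp, ← Module.End.mul_eq_comp, ← map_mul, ← map_mul,
          Subgroup.mem_center_iff.mp z.2 g]⟩
      obtain ⟨c, hc⟩ :=
        (Representation.IsIrreducible.algebraMap_intertwiningMap_bijective_of_isAlgClosed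
          (ρ := ρ) (k := ℂ)).2 T
      refine ⟨c, ?_⟩
      have := congr_arg Representation.IntertwiningMap.toLinearMap hc
      simp only [T] at this
      rw [← this]
      ext v
      simp [Algebra.algebraMap_eq_smul_one]
    choose c hc using hs
    have hid : (LinearMap.id : (Fin n → ℂ) →ₗ[ℂ] (Fin n → ℂ)) ≠ 0 := fun h => by
      obtain ⟨v, hv⟩ := exists_ne (0 : Fin n → ℂ)
      exact hv (LinearMap.congr_fun h v)
    have hcinj := smul_left_injective ℂ hid
    let f : Subgroup.center G →* ℂ :=
      { toFun := c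
        map_one' := hcinj (by simp only [← hc]; simp [Module.End.one_eq_id])
        map_mul' := fun y z => hcinj (by
          simp only [← hc]
          rw [Subgroup.coe_mul, map_mul, hc, hc]
          refine LinearMap.ext fun v => ?_
          simp [smul_smul, mul_comm]) }
    refine isCyclic_of_injective_ringHom f fun y z h => Subtype.ext (hinj ?_)
    rw [hc, hc]
    exact congr_arg (fun t : ℂ => t • (LinearMap.id : (Fin n → ℂ) →ₗ[ℂ] (Fin n → ℂ))) h
  · intro hcyc
    have := Fintype.ofFinite G
    rcases subsingleton_or_nontrivial G with hs | hs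
    · obtain ⟨n, ρ, hρ, -⟩ := isIrrCharacter_one (G := G)
      exact ⟨n, ρ, hρ, fun a b _ => Subsingleton.elim a b⟩
    have : Nontrivial (Subgroup.center G) := hG.center_nontrivial
    have hZp : IsPGroup p (Subgroup.center G) := hG.to_subgroup _
    obtain ⟨m, hm⟩ := IsPGroup.iff_card.mp hZp
    obtain ⟨ω, hω⟩ := exists_prime_orderOf_dvd_card' (G := Subgroup.center G) p (by
      rw [hm]
      refine dvd_pow_self p fun h0 => ?_
      have := Finite.one_lt_card (α := Subgroup.center G)
      rw [hm, h0, pow_zero] at this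
      exact lt_irrefl 1 this)
    have hω1 : (ω : G) ≠ 1 := fun h => by
      rw [show ω = 1 from Subtype.ext h, orderOf_one] at hω
      exact hp.out.one_lt.ne hω
    obtain ⟨χ, hχ⟩ := exists_irr_apply_ne hω1
    obtain ⟨n, ρ, hρ, hρc⟩ := χ.2
    refine ⟨n, ρ, hρ, (MonoidHom.ker_eq_bot_iff ρ).mp ?_⟩
    by_contra hne
    have : Group.IsNilpotent G := hG.isNilpotent
    have : (MonoidHom.ker ρ : Subgroup G).Normal := MonoidHom.normal_ker ρ
    obtain ⟨⟨z, hz⟩, hz1⟩ := (Subgroup.bot_or_exists_ne_one _).resolve_left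
      (Solvable.normal_inf_center_ne_bot _ hne) |> fun ⟨z, hz, h1⟩ =>
        (⟨⟨z, hz⟩, h1⟩ : ∃ z : ↥((MonoidHom.ker ρ : Subgroup G) ⊓ Subgroup.center G), (z : G) ≠ 1)
    -- the socle of the cyclic centre
    let zc : Subgroup.center G := ⟨z, hz.2⟩
    have hzc : zc ≠ 1 := fun h => hz1 (congr_arg (fun t : Subgroup.center G => (t : G)) h)
    have hωmem : ω ∈ Subgroup.zpowers zc := by
      obtain ⟨i, hi⟩ : ∃ i : ℕ, orderOf zc = p ^ i := by
        obtain ⟨i, -, hi⟩ := (Nat.dvd_prime_pow hp.out).mp (hm ▸ orderOf_dvd_natCard zc)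
        exact ⟨i, hi⟩
      have hpz : p ∣ Nat.card (Subgroup.zpowers zc) := by
        rw [Nat.card_zpowers, hi]
        refine dvd_pow_self p fun h0 => hzc ?_
        rw [h0, pow_zero, orderOf_eq_one_iff] at hi
        exact hi
      obtain ⟨w, hw⟩ := exists_prime_orderOf_dvd_card' (G := Subgroup.zpowers zc) p hpz
      have h1 : Nat.card (Subgroup.zpowers (w : Subgroup.center G)) = p := by
        rw [Nat.card_zpowers, Subgroup.orderOf_coe, hw]
      have h2 : Nat.card (Subgroup.zpowers ω) = p := by rw [Nat.card_zpowers, hω]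
      have heq : Subgroup.zpowers ω = Subgroup.zpowers (w : Subgroup.center G) := by
        have := Fintype.ofFinite (Subgroup.center G)
        have hp1 : ∀ x : Subgroup.center G, ∀ y ∈ Subgroup.zpowers x,
            orderOf x = p → y ^ p = 1 := fun x y hy hx => by
          obtain ⟨j, rfl⟩ := Subgroup.mem_zpowers_iff.mp hy
          rw [← zpow_natCast, ← zpow_mul, mul_comm, zpow_mul, zpow_natCast, ← hx,
            pow_orderOf_eq_one, one_zpow]
        refine Subgroup.eq_of_le_of_card_ge (Subgroup.zpowers_le.mpr ?_) (by rw [h1, h2])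
        by_contra hnot
        have hle := IsCyclic.card_pow_eq_one_le (α := Subgroup.center G) hp.out.pos
        have hsub : insert ω (Finset.univ.filter fun x => x ∈ Subgroup.zpowers
            (w : Subgroup.center G)) ⊆ Finset.univ.filter fun x => x ^ p = 1 := fun x hx => by
          rcases Finset.mem_insert.mp hx with rfl | hx
          · simp [← hω, pow_orderOf_eq_one]
          · simp only [Finset.mem_filter, Finset.mem_univ, true_and] at hx ⊢
            exact hp1 _ _ hx (by rw [Subgroup.orderOf_coe, hw])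
        have := (Finset.card_le_card hsub).trans hle
        rw [Finset.card_insert_of_notMem (by simpa using hnot),
          ← Fintype.card_subtype, ← Nat.card_eq_fintype_card] at this
        rw [show Nat.card {x // x ∈ Subgroup.zpowers (w : Subgroup.center G)} = p from h1] at this
        omega
      exact (Subgroup.zpowers_le.mpr w.2) (heq ▸ Subgroup.mem_zpowers ω)
    apply hχ
    rw [← hρc]
    refine (mem_ker_iff_char ρ (ω : G)).mp ?_
    obtain ⟨j, hj⟩ := Subgroup.mem_zpowers_iff.mp hωmem
    rw [← hj]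
    exact Subgroup.zpow_mem _ hz.1 j

theorem sylow_comm_of_many_classes [Finite G] [IsSimpleGroup G] (p : ℕ) [hp : Fact p.Prime]
    (hmany : Nat.card G < p ^ 2 * Nat.card (ConjClasses G)) (P : Sylow p G) (a b : G)
    (ha : a ∈ P) (hb : b ∈ P) : a * b = b * a := by
  classical
  by_cases hGc : ∀ x y : G, x * y = y * x
  · exact hGc a b
  obtain ⟨m, hm⟩ := IsPGroup.iff_card.mp P.isPGroup'
  by_cases hp2 : p ^ 2 ∣ Nat.card G
  swap
  · have hm1 : m ≤ 1 := by
      by_contra hlt
      exact hp2 ((pow_dvd_pow p (by omega : 2 ≤ m)).trans (hm ▸ (P : Subgroup G).card_subgroup_dvd_card))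
    have hPcyc : IsCyclic (P : Subgroup G) := by
      rcases Nat.le_one_iff_eq_zero_or_eq_one.mp hm1 with rfl | rfl
      · rw [pow_zero] at hm
        have := (Nat.card_eq_one_iff_unique.mp hm).1
        infer_instance
      · exact isCyclic_of_prime_card (p := p) (by rw [hm, pow_one])
    exact congr_arg Subtype.val
      ((IsCyclic.commGroup (α := (P : Subgroup G))).mul_comm ⟨a, ha⟩ ⟨b, hb⟩)
  have := Fintype.ofFinite G
  have := Fintype.ofFinite (Cfsg.IrrCharacter G)
  choose d hd hd1 using fun χ : Cfsg.IrrCharacter G => irr_apply_one_pos χ.2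
  let one' : Cfsg.IrrCharacter G := ⟨fun _ => 1, isIrrCharacter_one⟩
  obtain ⟨χ, hχ1, hχd⟩ : ∃ χ, χ ≠ one' ∧ d χ < p := by
    by_contra hcon
    push Not at hcon
    have hsum : ∑ χ, d χ ^ 2 = Nat.card G := by
      have h := sum_irr_sq (G := G)
      simp only [hd1] at h
      exact_mod_cast h
    rw [← Finset.add_sum_erase _ _ (Finset.mem_univ one')] at hsum
    have h1 : d one' = 1 := by
      have := hd1 one'
      simp only [one'] at this
      exact_mod_cast this.symm
    have hcard : ((Finset.univ : Finset (Cfsg.IrrCharacter G)).erase one').card + 1 =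
        Nat.card (ConjClasses G) := by
      rw [Finset.card_erase_add_one (Finset.mem_univ _), ← irr_card_eq, Finset.card_univ,
        Nat.card_eq_fintype_card]
    have hS : ∑ χ ∈ (Finset.univ : Finset (Cfsg.IrrCharacter G)).erase one', d χ ^ 2 =
        ((Finset.univ : Finset (Cfsg.IrrCharacter G)).erase one').card * p ^ 2 +
          ∑ χ ∈ (Finset.univ : Finset (Cfsg.IrrCharacter G)).erase one', (d χ ^ 2 - p ^ 2) := by
      rw [Finset.card_eq_sum_ones, Finset.sum_mul, ← Finset.sum_add_distrib]
      refine Finset.sum_congr rfl fun χ hχ => ?_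
      have := Nat.pow_le_pow_left (hcon χ (Finset.mem_erase.mp hχ).1) 2
      omega
    rw [h1, one_pow, hS] at hsum
    set S := ∑ χ ∈ (Finset.univ : Finset (Cfsg.IrrCharacter G)).erase one', (d χ ^ 2 - p ^ 2)
    set e := ((Finset.univ : Finset (Cfsg.IrrCharacter G)).erase one').card
    have h3 : p ^ 2 ∣ 1 + S := by
      have h4 : p ^ 2 ∣ e * p ^ 2 + (1 + S) := by
        rw [show e * p ^ 2 + (1 + S) = Nat.card G by omega]; exact hp2
      exact (Nat.dvd_add_right (Dvd.intro_left _ rfl)).mp h4
    have h5 : p ^ 2 * Nat.card (ConjClasses G) = e * p ^ 2 + p ^ 2 := by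
      rw [← hcard]; ring
    have := Nat.le_of_dvd (by omega) h3
    omega
  obtain ⟨n, ρ, hρ, hρc⟩ := χ.2
  have hker : (MonoidHom.ker ρ : Subgroup G) = ⊥ := by
    refine ((MonoidHom.normal_ker ρ).eq_bot_or_eq_top).resolve_right fun htop => hχ1 ?_
    refine Subtype.ext ?_
    rw [← hρc]
    exact char_eq_one_of_trivial ρ fun g => MonoidHom.mem_ker.mp (htop ▸ Subgroup.mem_top g)
  have hn : finrank ℂ (Fin n → ℂ) = d χ := by
    have h := hd1 χ
    rw [← hρc, Representation.char_one] at h
    exact_mod_cast h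
  refine congr_arg Subtype.val (comm_of_degree_lt_primes (G := (P : Subgroup G))
    (ρ.comp (P : Subgroup G).subtype)
    (((MonoidHom.ker_eq_bot_iff ρ).mp hker).comp Subtype.val_injective) (fun q hq hqd => ?_)
    ⟨a, ha⟩ ⟨b, hb⟩)
  rw [hm] at hqd
  rw [hn, (Nat.prime_dvd_prime_iff_eq hq hp.out).mp (hq.dvd_of_dvd_pow hqd)]
  exact hχd

end CfsgLib.Char
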